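import Mathlib
import Cfsg.Prelude.Def_PLocal
import Cfsg.Agent.Lib.helper14.ZJBridge
import Cfsg.Agent.Lib.helper66.OddAction

/-!
# Glauberman's ZJ-theorem for the full centre of the elementary-abelian Thompson subgroup (helper67)

`jE e T` is the subgroup generated by the members of `famE e T` (helper14); for `e = p` this is
`J_e(T)`, generated by the elementary abelian subgroups of `T` of largest order, and
`zJ e T = jE e T ⊓ C(jE e T)` is its centre.  `Cfsg.centerThompsonOf p P = zJ p P`.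

Main result: `zJ_normal` / `centerThompsonOf_normal`: for `p` odd, `C_G(O_p(G)) ≤ O_p(G)` and `G`
acting `p`-stably on its normal `p`-subgroups, `Z(J_e(S))` is normal in `G` (`S` a Sylow
`p`-subgroup).  (helper14's `zjE p S` is only `Ω₁(Z(J_e(S)))`.)
-/

set_option autoImplicit false

namespace Cfsg.Agent.Lib.helper67

open Subgroup Cfsg.Agent.Lib.helper14 Cfsg.Agent.Lib.helper40
open scoped commutatorElement

section basic

variable {G : Type*} [Group G]

/-- `J_e(T)`: the subgroup generated by the members of `famE e T` -/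
def jE (e : ℕ) (T : Subgroup G) : Subgroup G := sSup (famE e T)

/-- the centre of `jE e T` -/
def zJ (e : ℕ) (T : Subgroup G) : Subgroup G := jE e T ⊓ Subgroup.centralizer (jE e T : Set G)

theorem jE_le (e : ℕ) (T : Subgroup G) : jE e T ≤ T :=
  sSup_le fun _ hA => hA.1

theorem le_jE {e : ℕ} {T A : Subgroup G} (hA : A ∈ famE e T) : A ≤ jE e T := le_sSup hA

theorem zJ_le_jE (e : ℕ) (T : Subgroup G) : zJ e T ≤ jE e T := inf_le_left

theorem zJ_le (e : ℕ) (T : Subgroup G) : zJ e T ≤ T := (zJ_le_jE e T).trans (jE_le e T)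

theorem zJ_commute {e : ℕ} {T : Subgroup G} {x y : G} (hx : x ∈ zJ e T) (hy : y ∈ zJ e T) :
    x * y = y * x :=
  (Subgroup.mem_centralizer_iff.mp hx.2 y hy.1).symm

theorem zJ_commute_mem {e : ℕ} {T A : Subgroup G} (hA : A ∈ famE e T) {x a : G} (hx : x ∈ zJ e T)
    (ha : a ∈ A) : a * x = x * a :=
  Subgroup.mem_centralizer_iff.mp hx.2 a (le_jE hA ha)

/-- equivariance of the family, as an equality of sets -/
theorem famE_map_eq (e : ℕ) (T : Subgroup G) (φ : G ≃* G) :
    famE e (T.map φ.toMonoidHom) = (fun A : Subgroup G => A.map φ.toMonoidHom) '' famE e T := by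
  ext A
  constructor
  · intro hA
    refine ⟨A.map φ.symm.toMonoidHom, ?_, map_map_symm φ A⟩
    have := famE_map φ.symm hA
    rwa [map_symm_map] at this
  · rintro ⟨A', hA', rfl⟩
    exact famE_map φ hA'

theorem jE_map (e : ℕ) (T : Subgroup G) (φ : G ≃* G) :
    jE e (T.map φ.toMonoidHom) = (jE e T).map φ.toMonoidHom := by
  unfold jE
  rw [famE_map_eq, sSup_image, sSup_eq_iSup, Subgroup.map_iSup]
  congr 1
  funext A
  rw [Subgroup.map_iSup]

theorem zJ_map (e : ℕ) (T : Subgroup G) (φ : G ≃* G) :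
    zJ e (T.map φ.toMonoidHom) = (zJ e T).map φ.toMonoidHom := by
  unfold zJ
  rw [jE_map]
  ext x
  rw [Subgroup.mem_map_equiv, Subgroup.mem_inf, Subgroup.mem_inf, Subgroup.mem_map_equiv,
    Subgroup.mem_centralizer_iff, Subgroup.mem_centralizer_iff]
  constructor
  · rintro ⟨h1, h2⟩
    refine ⟨h1, fun y hy => ?_⟩
    have := h2 (φ y) (Subgroup.mem_map_of_mem _ hy)
    have h3 := congrArg φ.symm this
    simpa using h3
  · rintro ⟨h1, h2⟩
    refine ⟨h1, ?_⟩
    rintro _ ⟨y, hy, rfl⟩
    have := h2 y hy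
    have h3 := congrArg φ this
    simpa using h3

theorem normalizer_le_normalizer_jE (e : ℕ) (T : Subgroup G) :
    Subgroup.normalizer (T : Set G) ≤ Subgroup.normalizer (jE e T : Set G) := by
  intro g hg
  rw [Subgroup.mem_normalizer_iff_map_conj_eq] at hg ⊢
  have h := jE_map e T (MulAut.conj g)
  have hg' : T.map (MulAut.conj g).toMonoidHom = T := hg
  rw [hg'] at h
  exact h.symm

theorem normalizer_le_normalizer_zJ (e : ℕ) (T : Subgroup G) :
    Subgroup.normalizer (T : Set G) ≤ Subgroup.normalizer (zJ e T : Set G) := by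
  intro g hg
  rw [Subgroup.mem_normalizer_iff_map_conj_eq] at hg ⊢
  have h := zJ_map e T (MulAut.conj g)
  have hg' : T.map (MulAut.conj g).toMonoidHom = T := hg
  rw [hg'] at h
  exact h.symm

theorem conj_mem_zJ {e : ℕ} {T : Subgroup G} {g z : G}
    (hg : g ∈ Subgroup.normalizer (T : Set G)) (hz : z ∈ zJ e T) : g * z * g⁻¹ ∈ zJ e T :=
  (Subgroup.mem_normalizer_iff.mp (normalizer_le_normalizer_zJ e T hg) z).mp hz

/-- if all members of `famE e T₁` lie in `T₂ ≤ T₁` the two families coincide -/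
theorem famE_eq_of_le {e : ℕ} {T₁ T₂ : Subgroup G} (h21 : T₂ ≤ T₁)
    (hne : (famE e T₁).Nonempty) (h : ∀ A ∈ famE e T₁, A ≤ T₂) : famE e T₂ = famE e T₁ := by
  obtain ⟨A₀, hA₀⟩ := hne
  apply Set.Subset.antisymm (famE_subset h21 hA₀ (h A₀ hA₀))
  intro A hA
  exact mem_famE_of_le h21 hA (h A hA)

theorem jE_mono {e : ℕ} {T₁ T₂ A₀ : Subgroup G} (h21 : T₂ ≤ T₁) (hA₀ : A₀ ∈ famE e T₁)
    (hA₀T : A₀ ≤ T₂) : jE e T₂ ≤ jE e T₁ :=
  sSup_le_sSup (famE_subset h21 hA₀ hA₀T)

/-- a subgroup generated by pairwise commuting elements killed by `e` is `GoodE e` -/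
theorem goodE_closure {e : ℕ} (s : Set G) (hc : ∀ x ∈ s, ∀ y ∈ s, x * y = y * x)
    (he : ∀ x ∈ s, x ^ e = 1) : GoodE e (Subgroup.closure s) := by
  have hcomm : ∀ x ∈ Subgroup.closure s, ∀ y ∈ Subgroup.closure s, x * y = y * x := by
    intro x hx y hy
    have hx' : x ∈ Subgroup.centralizer (Subgroup.closure s : Set G) := by
      have h1 : Subgroup.closure s ≤ Subgroup.centralizer (Subgroup.closure s : Set G) := by
        rw [Subgroup.closure_le]
        intro a ha
        show a ∈ Subgroup.centralizer (Subgroup.closure s : Set G)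
        rw [Subgroup.mem_centralizer_iff]
        intro b hb
        have h2 : Subgroup.closure s ≤ Subgroup.centralizer ({a} : Set G) := by
          rw [Subgroup.closure_le]
          intro c hc'
          show c ∈ Subgroup.centralizer ({a} : Set G)
          rw [Subgroup.mem_centralizer_iff]
          intro d hd
          rw [Set.mem_singleton_iff] at hd
          rw [hd]
          exact hc a ha c hc'
        have h3 := Subgroup.mem_centralizer_iff.mp (h2 hb) a rfl
        exact h3.symm
      exact h1 hx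
    exact (Subgroup.mem_centralizer_iff.mp hx' y hy).symm
  refine ⟨⟨⟨fun a b => Subtype.ext (hcomm a a.2 b b.2)⟩⟩, ?_⟩
  intro a ha
  induction ha using Subgroup.closure_induction with
  | mem x hx => exact he x hx
  | one => exact one_pow e
  | mul x y hx hy ihx ihy =>
    rw [(show Commute x y from hcomm x hx y hy).mul_pow, ihx, ihy, one_mul]
  | inv x hx ihx => rw [inv_pow, ihx, inv_one]

/-- an element of `T` killed by `e` that centralizes a member `A` of `famE e T` lies in `A` -/
theorem mem_of_mem_famE_of_commute [Finite G] {e : ℕ} {T A : Subgroup G} (hA : A ∈ famE e T)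
    {x : G} (hxT : x ∈ T) (hxe : x ^ e = 1) (hxA : ∀ a ∈ A, a * x = x * a) : x ∈ A := by
  have hgood : GoodE e (Subgroup.closure ((A : Set G) ∪ {x})) := by
    apply goodE_closure
    · rintro u (hu | hu) v (hv | hv)
      · exact goodE_commute hA.2.1 hu hv
      · rw [Set.mem_singleton_iff] at hv
        rw [hv]; exact hxA u hu
      · rw [Set.mem_singleton_iff] at hu
        rw [hu]; exact (hxA v hv).symm
      · rw [Set.mem_singleton_iff] at hu hv
        rw [hu, hv]
    · rintro u (hu | hu)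
      · exact hA.2.1.2 u hu
      · rw [Set.mem_singleton_iff] at hu
        rw [hu]; exact hxe
  have hle : Subgroup.closure ((A : Set G) ∪ {x}) ≤ T := by
    rw [Subgroup.closure_le]
    rintro u (hu | hu)
    · exact hA.1 hu
    · rw [Set.mem_singleton_iff] at hu
      rw [hu]; exact hxT
  have hAle : A ≤ Subgroup.closure ((A : Set G) ∪ {x}) := fun a ha =>
    Subgroup.subset_closure (Or.inl ha)
  have hcard := hA.2.2 _ hle hgood
  have heq := Subgroup.eq_of_le_of_card_ge hAle hcard
  rw [heq]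
  exact Subgroup.subset_closure (Or.inr rfl)

end basic

section omega

variable {G : Type*} [Group G]

/-- the subgroup generated by the elements of `B` of order dividing `p` -/
def omegaSub (p : ℕ) (B : Subgroup G) : Subgroup G :=
  Subgroup.closure {x : G | x ∈ B ∧ x ^ p = 1}

theorem omegaSub_le (p : ℕ) (B : Subgroup G) : omegaSub p B ≤ B := by
  unfold omegaSub
  rw [Subgroup.closure_le]
  intro x hx
  exact hx.1

theorem mem_omegaSub {p : ℕ} {B : Subgroup G} {x : G} (hx : x ∈ B) (hxp : x ^ p = 1) :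
    x ∈ omegaSub p B :=
  Subgroup.subset_closure ⟨hx, hxp⟩

theorem omegaSub_normal (p : ℕ) {B : Subgroup G} (hB : B.Normal) : (omegaSub p B).Normal := by
  constructor
  intro n hn g
  unfold omegaSub at hn ⊢
  induction hn using Subgroup.closure_induction with
  | mem x hx =>
    exact Subgroup.subset_closure ⟨hB.conj_mem x hx.1 g, by rw [conj_pow, hx.2, mul_one, mul_inv_cancel]⟩
  | one => simp
  | mul x y hx hy ihx ihy =>
    have : g * (x * y) * g⁻¹ = (g * x * g⁻¹) * (g * y * g⁻¹) := by group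
    rw [this]
    exact Subgroup.mul_mem _ ihx ihy
  | inv x hx ihx =>
    have : g * x⁻¹ * g⁻¹ = (g * x * g⁻¹)⁻¹ := by group
    rw [this]
    exact Subgroup.inv_mem _ ihx

theorem commutator_self_le (B : Subgroup G) : ⁅B, B⁆ ≤ B := by
  rw [Subgroup.commutator_le]
  intro g₁ h₁ g₂ h₂
  rw [commutatorElement_def]
  exact B.mul_mem (B.mul_mem (B.mul_mem h₁ h₂) (B.inv_mem h₁)) (B.inv_mem h₂)

/-- in a group `B` of class at most two, `x ↦ ⁅x, y⁆` is multiplicative -/
theorem comm_mul_left_of_class_two {B : Subgroup G} (hcl : ∀ c ∈ ⁅B, B⁆, ∀ b ∈ B, c * b = b * c)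
    {a b y : G} (ha : a ∈ B) (hb : b ∈ B) (hy : y ∈ B) : ⁅a * b, y⁆ = ⁅b, y⁆ * ⁅a, y⁆ := by
  have h1 : ⁅a * b, y⁆ = a * ⁅b, y⁆ * a⁻¹ * ⁅a, y⁆ := by
    simp only [commutatorElement_def]; group
  have h2 : a * ⁅b, y⁆ * a⁻¹ = ⁅b, y⁆ := by
    have := hcl ⁅b, y⁆ (Subgroup.commutator_mem_commutator hb hy) a ha
    rw [← this]; group
  rw [h1, h2]

theorem comm_pow_left_of_class_two {B : Subgroup G} (hcl : ∀ c ∈ ⁅B, B⁆, ∀ b ∈ B, c * b = b * c)
    {x y : G} (hx : x ∈ B) (hy : y ∈ B) (n : ℕ) : ⁅x ^ n, y⁆ = ⁅x, y⁆ ^ n := by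
  induction n with
  | zero => simp
  | succ n ih =>
    rw [pow_succ, comm_mul_left_of_class_two hcl (B.pow_mem hx n) hx hy, ih, pow_succ']

/-- in a group `B` of class at most two, commutators with elements of `Ω₁(B)` have order dividing `p` -/
theorem comm_pow_eq_one_of_mem_omegaSub {p : ℕ} {B : Subgroup G}
    (hcl : ∀ c ∈ ⁅B, B⁆, ∀ b ∈ B, c * b = b * c) {y : G} (hy : y ∈ B) :
    ∀ x ∈ omegaSub p B, ⁅x, y⁆ ^ p = 1 := by
  intro x hx
  unfold omegaSub at hx
  induction hx using Subgroup.closure_induction with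
  | mem x hx =>
    rw [← comm_pow_left_of_class_two hcl hx.1 hy, hx.2]
    simp
  | one => simp
  | mul x z hx hz ihx ihz =>
    have hxB : x ∈ B := omegaSub_le p B hx
    have hzB : z ∈ B := omegaSub_le p B hz
    rw [comm_mul_left_of_class_two hcl hxB hzB hy]
    have hc : Commute ⁅z, y⁆ ⁅x, y⁆ :=
      hcl _ (Subgroup.commutator_mem_commutator hzB hy) _
        (commutator_self_le B (Subgroup.commutator_mem_commutator hxB hy))
    rw [hc.mul_pow, ihx, ihz, one_mul]
  | inv x hx ihx =>
    have hxB : x ∈ B := omegaSub_le p B hx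
    have h1 := comm_mul_left_of_class_two hcl (B.inv_mem hxB) hxB hy
    rw [inv_mul_cancel] at h1
    have h2 : ⁅x⁻¹, y⁆ = ⁅x, y⁆⁻¹ := by
      have h3 : ⁅x, y⁆ * ⁅x⁻¹, y⁆ = 1 := by rw [← h1]; simp
      exact eq_inv_of_mul_eq_one_right h3
    rw [h2, inv_pow, ihx, inv_one]

/-- in a group `B` of class at most two, the derived group of `Ω₁(B)` has exponent dividing `p` -/
theorem pow_eq_one_of_mem_commutator_omegaSub {p : ℕ} {B : Subgroup G}
    (hcl : ∀ c ∈ ⁅B, B⁆, ∀ b ∈ B, c * b = b * c) :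
    ∀ c ∈ ⁅omegaSub p B, omegaSub p B⁆, c ^ p = 1 := by
  intro c hc
  have hle : ⁅omegaSub p B, omegaSub p B⁆ ≤ ⁅B, B⁆ :=
    Subgroup.commutator_mono (omegaSub_le p B) (omegaSub_le p B)
  rw [Subgroup.commutator_def] at hc
  induction hc using Subgroup.closure_induction with
  | mem c hc =>
    obtain ⟨g₁, hg₁, g₂, hg₂, rfl⟩ := hc
    exact comm_pow_eq_one_of_mem_omegaSub hcl (omegaSub_le p B hg₂) g₁ hg₁
  | one => simp
  | mul x z hx hz ihx ihz =>
    rw [← Subgroup.commutator_def] at hx hz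
    have hc : Commute x z :=
      hcl _ (hle hx) _ (commutator_self_le B (hle hz))
    rw [hc.mul_pow, ihx, ihz, one_mul]
  | inv x hx ihx => rw [inv_pow, ihx, inv_one]

end omega

section main

variable {G : Type*} [Group G] [Finite G] {p : ℕ} [Fact p.Prime]

/-- for `p` odd, `C_G(Ω₁(B)) / C_G(B)` is a `p`-group, so the preimage of `O_p(G / C_G(Ω₁(B)))`
lies in the preimage of `O_p(G / C_G(B))` -/
theorem comap_pCore_omegaSub_le (hp : p ≠ 2) (B : Subgroup G) (hBn : B.Normal) (hBp : IsPGroup p B)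
    [hC₁ : (Subgroup.centralizer (omegaSub p B : Set G)).Normal]
    [hC : (Subgroup.centralizer (B : Set G)).Normal] :
    (Cfsg.pCore p (G ⧸ Subgroup.centralizer (omegaSub p B : Set G))).comap
        (QuotientGroup.mk' (Subgroup.centralizer (omegaSub p B : Set G))) ≤
      (Cfsg.pCore p (G ⧸ Subgroup.centralizer (B : Set G))).comap
        (QuotientGroup.mk' (Subgroup.centralizer (B : Set G))) := by
  have hpp : p.Prime := Fact.out
  have hL₁n : ((Cfsg.pCore p (G ⧸ Subgroup.centralizer (omegaSub p B : Set G))).comap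
      (QuotientGroup.mk' (Subgroup.centralizer (omegaSub p B : Set G)))).Normal := by
    have := pCore_normal' p (G ⧸ Subgroup.centralizer (omegaSub p B : Set G))
    infer_instance
  rw [← Subgroup.map_le_iff_le_comap]
  apply le_pCore _ (hL₁n.map _ (QuotientGroup.mk'_surjective _))
  rintro ⟨_, x, hx, rfl⟩
  have hx : (QuotientGroup.mk' (Subgroup.centralizer (omegaSub p B : Set G)) x) ∈
      Cfsg.pCore p (G ⧸ Subgroup.centralizer (omegaSub p B : Set G)) := hx
  obtain ⟨k, hk⟩ := pCore_isPGroup p (G ⧸ Subgroup.centralizer (omegaSub p B : Set G)) ⟨_, hx⟩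
  have hk' : (QuotientGroup.mk' (Subgroup.centralizer (omegaSub p B : Set G)) x) ^ p ^ k = 1 :=
    congrArg Subtype.val hk
  rw [← map_pow, QuotientGroup.mk'_apply, QuotientGroup.eq_one_iff] at hk'
  obtain ⟨j, m, hm, hjm⟩ :=
    Nat.exists_eq_pow_mul_and_not_dvd (orderOf_pos (x ^ p ^ k)).ne' p hpp.ne_one
  have hbC₁ : (x ^ p ^ k) ^ p ^ j ∈ Subgroup.centralizer (omegaSub p B : Set G) :=
    Subgroup.pow_mem _ hk' _
  have hbo : (orderOf ((x ^ p ^ k) ^ p ^ j)).Coprime p := by
    have h1 : orderOf ((x ^ p ^ k) ^ p ^ j) ∣ m := by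
      apply orderOf_dvd_of_pow_eq_one
      rw [← pow_mul, ← hjm, pow_orderOf_eq_one]
    exact Nat.Coprime.coprime_dvd_left h1 ((Nat.Prime.coprime_iff_not_dvd hpp).mpr hm).symm
  have hbN : (x ^ p ^ k) ^ p ^ j ∈ Subgroup.normalizer (B : Set G) := by
    rw [Subgroup.normalizer_eq_top_iff.mpr hBn]; trivial
  have hfix := Cfsg.Agent.Lib.helper66.conj_eq_of_fixes_order_p hp hBp hbo hbN (by
    intro y hy hyp
    have h1 := Subgroup.mem_centralizer_iff.mp hbC₁ y (mem_omegaSub hy hyp)
    rw [← h1]; group)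
  have hbC : (x ^ p ^ k) ^ p ^ j ∈ Subgroup.centralizer (B : Set G) := by
    rw [Subgroup.mem_centralizer_iff]
    intro y hy
    have h1 := hfix y hy
    calc y * (x ^ p ^ k) ^ p ^ j = ((x ^ p ^ k) ^ p ^ j * y * ((x ^ p ^ k) ^ p ^ j)⁻¹) * (x ^ p ^ k) ^ p ^ j := by
          rw [h1]
      _ = (x ^ p ^ k) ^ p ^ j * y := by group
  refine ⟨k + j, ?_⟩
  apply Subtype.ext
  show (QuotientGroup.mk' (Subgroup.centralizer (B : Set G)) x) ^ p ^ (k + j) = 1
  rw [← map_pow, QuotientGroup.mk'_apply, QuotientGroup.eq_one_iff, pow_add, pow_mul]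
  exact hbC

theorem zJ_inf_normal_aux (hp : p ≠ 2)
    (hst : ∀ (P : Subgroup G) [P.Normal], IsPGroup p P → Cfsg.IsPStableOn p P) (S : Sylow p G) :
    ∀ (n : ℕ) (B : Subgroup G), B.Normal → IsPGroup p B → Nat.card B = n →
      (zJ p (S : Subgroup G) ⊓ B).Normal := by
  intro n
  induction n using Nat.strong_induction_on with
  | _ n ih =>
    intro B hBn hBp hcard
    have hBS : B ≤ S := Cfsg.Agent.Lib.helper14.normal_pgroup_le_sylow hBn hBp S
    have hSZ : ∀ s ∈ (S : Subgroup G), ∀ z ∈ zJ p (S : Subgroup G),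
        s * z * s⁻¹ ∈ zJ p (S : Subgroup G) :=
      fun s hs z hz => conj_mem_zJ (Subgroup.le_normalizer hs) hz
    by_cases hB1 : B = ⊥
    · rw [hB1, inf_bot_eq]; infer_instance
    have hMB : Subgroup.normalClosure ((zJ p (S : Subgroup G) ⊓ B : Subgroup G) : Set G) ≤ B :=
      Subgroup.normalClosure_le_normal inf_le_right
    have hMn : (Subgroup.normalClosure ((zJ p (S : Subgroup G) ⊓ B : Subgroup G) : Set G)).Normal :=
      Subgroup.normalClosure_normal
    by_cases hM : Subgroup.normalClosure ((zJ p (S : Subgroup G) ⊓ B : Subgroup G) : Set G) = B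
    · -- the main case
      have hB'n : (⁅B, B⁆).Normal := inferInstance
      have hB'lt : ⁅B, B⁆ < B := commutator_lt_of_isPGroup hBn hBp hB1
      have hWn : (zJ p (S : Subgroup G) ⊓ ⁅B, B⁆).Normal :=
        ih _ (hcard ▸ Cfsg.Agent.Lib.helper14.card_lt_of_lt' hB'lt) ⁅B, B⁆ hB'n
          (hBp.to_le hB'lt.le) rfl
      have hBmapn : (B.map (QuotientGroup.mk' (zJ p (S : Subgroup G) ⊓ ⁅B, B⁆))).Normal :=
        hBn.map _ (QuotientGroup.mk'_surjective _)
      have hKn : (B ⊓ (Subgroup.centralizer ((B.map (QuotientGroup.mk' (zJ p (S : Subgroup G) ⊓ ⁅B, B⁆)) :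
          Subgroup (G ⧸ (zJ p (S : Subgroup G) ⊓ ⁅B, B⁆))) : Set (G ⧸ (zJ p (S : Subgroup G) ⊓ ⁅B, B⁆)))).comap
            (QuotientGroup.mk' (zJ p (S : Subgroup G) ⊓ ⁅B, B⁆))).Normal := inferInstance
      have hZ₁K : zJ p (S : Subgroup G) ⊓ B ≤
          B ⊓ (Subgroup.centralizer ((B.map (QuotientGroup.mk' (zJ p (S : Subgroup G) ⊓ ⁅B, B⁆)) :
          Subgroup (G ⧸ (zJ p (S : Subgroup G) ⊓ ⁅B, B⁆))) : Set (G ⧸ (zJ p (S : Subgroup G) ⊓ ⁅B, B⁆)))).comap
            (QuotientGroup.mk' (zJ p (S : Subgroup G) ⊓ ⁅B, B⁆)) := by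
        intro z hz
        refine Subgroup.mem_inf.mpr ⟨hz.2, ?_⟩
        rw [Subgroup.mem_comap, Subgroup.mem_centralizer_iff]
        rintro _ ⟨y, hy, rfl⟩
        rw [← map_mul, ← map_mul, QuotientGroup.mk'_apply, QuotientGroup.mk'_apply, QuotientGroup.eq]
        have e1 : (y * z)⁻¹ * (z * y) = ⁅z⁻¹, y⁻¹⁆ := by
          rw [commutatorElement_def]; group
        have e2 : (y * z)⁻¹ * (z * y) = z⁻¹ * (y⁻¹ * z * y⁻¹⁻¹) := by group
        refine ⟨?_, ?_⟩
        · rw [e2]
          exact Subgroup.mul_mem _ (Subgroup.inv_mem _ hz.1)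
            (hSZ y⁻¹ (Subgroup.inv_mem _ (hBS hy)) z hz.1)
        · rw [e1]
          exact Subgroup.commutator_mem_commutator (B.inv_mem hz.2) (B.inv_mem hy)
      have hBK : B ≤ B ⊓ (Subgroup.centralizer ((B.map (QuotientGroup.mk' (zJ p (S : Subgroup G) ⊓ ⁅B, B⁆)) :
          Subgroup (G ⧸ (zJ p (S : Subgroup G) ⊓ ⁅B, B⁆))) : Set (G ⧸ (zJ p (S : Subgroup G) ⊓ ⁅B, B⁆)))).comap
            (QuotientGroup.mk' (zJ p (S : Subgroup G) ⊓ ⁅B, B⁆)) :=
        le_of_eq_of_le hM.symm (Subgroup.normalClosure_le_normal hZ₁K)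
      have hBBW : ⁅B, B⁆ ≤ zJ p (S : Subgroup G) ⊓ ⁅B, B⁆ := by
        rw [Subgroup.commutator_le]
        intro x hx y hy
        have hxK := (Subgroup.mem_inf.mp (hBK hx)).2
        rw [Subgroup.mem_comap, Subgroup.mem_centralizer_iff] at hxK
        have h1 := hxK _ ⟨y, hy, rfl⟩
        rw [← QuotientGroup.eq_one_iff, ← QuotientGroup.mk'_apply, commutatorElement_def]
        simp only [map_mul, map_inv]
        rw [← h1]
        group
      have hBBZ : ⁅B, B⁆ ≤ zJ p (S : Subgroup G) := hBBW.trans inf_le_left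
      -- `B` has class at most two
      have hCBn : (Subgroup.centralizer ((⁅B, B⁆ : Subgroup G) : Set G)).Normal := inferInstance
      have hK₂n : (B ⊓ Subgroup.centralizer ((⁅B, B⁆ : Subgroup G) : Set G)).Normal := inferInstance
      have hZK₂ : zJ p (S : Subgroup G) ⊓ B ≤
          B ⊓ Subgroup.centralizer ((⁅B, B⁆ : Subgroup G) : Set G) := by
        intro z hz
        refine ⟨hz.2, Subgroup.mem_centralizer_iff.mpr ?_⟩
        intro c hc
        exact zJ_commute (hBBZ hc) hz.1
      have hBK₂ : B ≤ B ⊓ Subgroup.centralizer ((⁅B, B⁆ : Subgroup G) : Set G) :=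
        le_of_eq_of_le hM.symm (Subgroup.normalClosure_le_normal hZK₂)
      have hcl : ∀ c ∈ ⁅B, B⁆, ∀ b ∈ B, c * b = b * c := fun c hc b hb =>
        Subgroup.mem_centralizer_iff.mp (hBK₂ hb).2 c hc
      -- `B₁ = Ω₁(B)`
      have hB₁n : (omegaSub p B).Normal := omegaSub_normal p hBn
      have hB₁B : omegaSub p B ≤ B := omegaSub_le p B
      have hB₁p : IsPGroup p (omegaSub p B) := hBp.to_le hB₁B
      have hB₁S : omegaSub p B ≤ S := hB₁B.trans hBS
      have hder := pow_eq_one_of_mem_commutator_omegaSub (p := p) hcl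
      have hderA : ∀ U ∈ famE p (S : Subgroup G), ⁅omegaSub p B, omegaSub p B⁆ ≤ U := by
        intro U hU c hc
        have hcZ : c ∈ zJ p (S : Subgroup G) :=
          hBBZ (Subgroup.commutator_mono hB₁B hB₁B hc)
        exact mem_of_mem_famE_of_commute hU (zJ_le p _ hcZ) (hder c hc)
          (fun a ha => zJ_commute_mem hU hcZ ha)
      have hC₁n : (Subgroup.centralizer ((omegaSub p B : Subgroup G) : Set G)).Normal := inferInstance
      have hCn : (Subgroup.centralizer ((B : Subgroup G) : Set G)).Normal := inferInstance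
      have hL₁L := comap_pCore_omegaSub_le hp B hBn hBp
      have hfr2 := frattini_pCore_quotient (Subgroup.centralizer (B : Set G)) S
      have hquadL : ∀ A₀ ∈ famE p (S : Subgroup G),
          omegaSub p B ≤ Subgroup.normalizer (A₀ : Set G) →
          A₀ ≤ (S : Subgroup G) ⊓ (Cfsg.pCore p (G ⧸ Subgroup.centralizer (B : Set G))).comap
            (QuotientGroup.mk' (Subgroup.centralizer (B : Set G))) := by
        intro A₀ hA₀F hA₀3
        refine le_inf hA₀F.1 (le_trans ?_ hL₁L)
        intro a ha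
        exact hst (omegaSub p B) hB₁p a (quadratic_of_le_normalizer hA₀F.2.1 hA₀3 ha)
      have hTS : (S : Subgroup G) ⊓ (Cfsg.pCore p (G ⧸ Subgroup.centralizer (B : Set G))).comap
          (QuotientGroup.mk' (Subgroup.centralizer (B : Set G))) ≤ (S : Subgroup G) := inf_le_left
      generalize (S : Subgroup G) ⊓ (Cfsg.pCore p (G ⧸ Subgroup.centralizer (B : Set G))).comap
          (QuotientGroup.mk' (Subgroup.centralizer (B : Set G))) = T at hfr2 hquadL hTS
      by_cases hall : ∀ U ∈ famE p (S : Subgroup G), omegaSub p B ≤ U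
      · -- every member of the family lies in `T`
        have hfam : famE p T = famE p (S : Subgroup G) :=
          famE_eq_of_le hTS (famE_nonempty p _)
            (fun U hU => hquadL U hU ((hall U hU).trans Subgroup.le_normalizer))
        have hZT : zJ p T = zJ p (S : Subgroup G) := by
          unfold zJ jE
          rw [hfam]
        rw [← Subgroup.normalizer_eq_top_iff]
        apply top_unique
        rw [← hfr2]
        apply sup_le
        · intro g hg
          apply mem_normalizer_inf _ (by rw [Subgroup.normalizer_eq_top_iff.mpr hBn]; trivial)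
          rw [← hZT]
          exact normalizer_le_normalizer_zJ p T hg
        · intro c hc
          apply mem_normalizer_of_map_conj_le
          rintro _ ⟨x, hx, rfl⟩
          have h1 : x * c = c * x := Subgroup.mem_centralizer_iff.mp hc x hx.2
          have h2 : c * x * c⁻¹ = x := by rw [← h1]; group
          show (MulAut.conj c) x ∈ zJ p (S : Subgroup G) ⊓ B
          rw [MulAut.conj_apply, h2]
          exact hx
      · exfalso
        have hex : ∃ U ∈ famE p (S : Subgroup G), ¬ omegaSub p B ≤ U := by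
          by_contra h
          apply hall
          intro U hU
          by_contra hBU
          exact h ⟨U, hU, hBU⟩
        obtain ⟨U, hUF, hBU⟩ := hex
        have hSB₁ : (S : Subgroup G) ≤ Subgroup.normalizer ((omegaSub p B : Subgroup G) : Set G) := by
          rw [Subgroup.normalizer_eq_top_iff.mpr hB₁n]; exact le_top
        obtain ⟨A₀, hA₀F, hA₀1, hA₀2, hA₀3⟩ := replacement_in hp p (S : Subgroup G) S.isPGroup'
          (omegaSub p B) hB₁S hSB₁ ⟨U, hUF, hderA U hUF, hBU⟩
        have hA₀T : A₀ ≤ T := hquadL A₀ hA₀F hA₀3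
        have hA₀FT : A₀ ∈ famE p T := mem_famE_of_le hTS hA₀F hA₀T
        have hJT : jE p T ≤ jE p (S : Subgroup G) := jE_mono hTS hA₀F hA₀T
        -- `B ⊓ C(J_e(T))` is normal in `G`
        have hCn' : (B ⊓ Subgroup.centralizer ((jE p T : Subgroup G) : Set G)).Normal := by
          rw [← Subgroup.normalizer_eq_top_iff]
          apply top_unique
          rw [← hfr2]
          apply sup_le
          · intro g hg
            apply mem_normalizer_of_map_conj_le
            rintro _ ⟨x, hx, rfl⟩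
            show (MulAut.conj g) x ∈ B ⊓ Subgroup.centralizer ((jE p T : Subgroup G) : Set G)
            rw [MulAut.conj_apply]
            refine ⟨hBn.conj_mem x hx.1 g, Subgroup.mem_centralizer_iff.mpr ?_⟩
            intro j hj
            have hgJ := normalizer_le_normalizer_jE p T hg
            have hj' : g⁻¹ * j * g⁻¹⁻¹ ∈ jE p T :=
              (Subgroup.mem_normalizer_iff.mp (Subgroup.inv_mem _ hgJ) j).mp hj
            have h1 := Subgroup.mem_centralizer_iff.mp hx.2 _ hj'
            calc j * (g * x * g⁻¹) = g * ((g⁻¹ * j * g⁻¹⁻¹) * x) * g⁻¹ := by group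
              _ = g * (x * (g⁻¹ * j * g⁻¹⁻¹)) * g⁻¹ := by rw [h1]
              _ = g * x * g⁻¹ * j := by group
          · intro c hc
            apply mem_normalizer_of_map_conj_le
            rintro _ ⟨x, hx, rfl⟩
            have h1 : x * c = c * x := Subgroup.mem_centralizer_iff.mp hc x hx.1
            have h2 : c * x * c⁻¹ = x := by rw [← h1]; group
            show (MulAut.conj c) x ∈ B ⊓ Subgroup.centralizer ((jE p T : Subgroup G) : Set G)
            rw [MulAut.conj_apply, h2]
            exact hx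
        have hZC : zJ p (S : Subgroup G) ⊓ B ≤
            B ⊓ Subgroup.centralizer ((jE p T : Subgroup G) : Set G) := by
          intro z hz
          refine ⟨hz.2, Subgroup.mem_centralizer_iff.mpr ?_⟩
          intro j hj
          exact Subgroup.mem_centralizer_iff.mp hz.1.2 j (hJT hj)
        have hBC : B ≤ B ⊓ Subgroup.centralizer ((jE p T : Subgroup G) : Set G) :=
          le_of_eq_of_le hM.symm (Subgroup.normalClosure_le_normal hZC)
        apply hA₀2
        unfold omegaSub
        rw [Subgroup.closure_le]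
        intro x hx
        have hxc := (hBC hx.1).2
        exact mem_of_mem_famE_of_commute hA₀F (hBS hx.1) hx.2
          (fun a ha => Subgroup.mem_centralizer_iff.mp hxc a (le_jE hA₀FT ha))
    · have hlt : Subgroup.normalClosure ((zJ p (S : Subgroup G) ⊓ B : Subgroup G) : Set G) < B :=
        lt_of_le_of_ne hMB hM
      have h1 := ih _ (hcard ▸ Cfsg.Agent.Lib.helper14.card_lt_of_lt' hlt) _ hMn (hBp.to_le hMB) rfl
      have h2 : zJ p (S : Subgroup G) ⊓
          Subgroup.normalClosure ((zJ p (S : Subgroup G) ⊓ B : Subgroup G) : Set G) =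
            zJ p (S : Subgroup G) ⊓ B :=
        le_antisymm (inf_le_inf_left _ hMB) (le_inf inf_le_left Subgroup.le_normalClosure)
      rw [← h2]; exact h1

theorem zJ_le_pCore (e : ℕ)
    (hc : Subgroup.centralizer (Cfsg.pCore p G : Set G) ≤ Cfsg.pCore p G)
    (hst : ∀ (P : Subgroup G) [P.Normal], IsPGroup p P → Cfsg.IsPStableOn p P) (S : Sylow p G) :
    zJ e (S : Subgroup G) ≤ Cfsg.pCore p G := by
  have hQn : (Cfsg.pCore p G).Normal := pCore_normal' p G
  have hQp : IsPGroup p ↥(Cfsg.pCore p G) := pCore_isPGroup p G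
  have hQS : Cfsg.pCore p G ≤ S := Cfsg.Agent.Lib.helper55.pCore_le_sylow S
  have hLn : ((Cfsg.pCore p (G ⧸ Subgroup.centralizer (Cfsg.pCore p G : Set G))).comap
      (QuotientGroup.mk' (Subgroup.centralizer (Cfsg.pCore p G : Set G)))).Normal := by
    have := pCore_normal' p (G ⧸ Subgroup.centralizer (Cfsg.pCore p G : Set G))
    infer_instance
  have hLp : IsPGroup p ↥((Cfsg.pCore p (G ⧸ Subgroup.centralizer (Cfsg.pCore p G : Set G))).comap
      (QuotientGroup.mk' (Subgroup.centralizer (Cfsg.pCore p G : Set G)))) := by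
    apply IsPGroup.comap_of_ker_isPGroup (pCore_isPGroup p _)
    rw [QuotientGroup.ker_mk']
    exact hQp.to_le hc
  have hLQ := le_pCore _ hLn hLp
  intro z hz
  apply hLQ
  show (QuotientGroup.mk z : G ⧸ Subgroup.centralizer (Cfsg.pCore p G : Set G)) ∈
    Cfsg.pCore p (G ⧸ Subgroup.centralizer (Cfsg.pCore p G : Set G))
  apply hst (Cfsg.pCore p G) hQp z
  have hzz : Subgroup.zpowers z ≤ zJ e (S : Subgroup G) := (Subgroup.zpowers_le).mpr hz
  have h1 : ⁅Cfsg.pCore p G, Subgroup.zpowers z⁆ ≤ zJ e (S : Subgroup G) := by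
    rw [Subgroup.commutator_le]
    intro q hq x hx
    rw [commutatorElement_def]
    exact Subgroup.mul_mem _ (conj_mem_zJ (Subgroup.le_normalizer (hQS hq)) (hzz hx))
      (Subgroup.inv_mem _ (hzz hx))
  rw [eq_bot_iff, Subgroup.commutator_le]
  intro u hu v hv
  rw [Subgroup.mem_bot, commutatorElement_eq_one_iff_commute]
  exact zJ_commute (h1 hu) (hzz hv)

/-- **Glauberman's ZJ-theorem for the full centre of the elementary Thompson subgroup**: for `p`
odd, `C_G(O_p(G)) ≤ O_p(G)` and `G` acting `p`-stably on its normal `p`-subgroups, `Z(J_e(S))` is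
normal in `G`. -/
theorem zJ_normal (hp : p ≠ 2)
    (hc : Subgroup.centralizer (Cfsg.pCore p G : Set G) ≤ Cfsg.pCore p G)
    (hst : ∀ (P : Subgroup G) [P.Normal], IsPGroup p P → Cfsg.IsPStableOn p P) (S : Sylow p G) :
    (zJ p (S : Subgroup G)).Normal := by
  have h := zJ_inf_normal_aux hp hst S _ (Cfsg.pCore p G) (pCore_normal' p G)
    (pCore_isPGroup p G) rfl
  rwa [inf_eq_left.mpr (zJ_le_pCore p hc hst S)] at h

end main

section bridge

universe u

variable {G : Type u} [Group G]

/-- the Prelude's elementary-abelian Thompson subgroup of `P ≤ G` is `jE p P` -/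
theorem thompsonSubgroupOf_eq_jE (p : ℕ) (P : Subgroup G) :
    Cfsg.thompsonSubgroupOf p P = jE p P := by
  unfold Cfsg.thompsonSubgroupOf Cfsg.thompsonSubgroup jE
  rw [← famT_eq_maxElementaryAbelianSubgroups]
  apply le_antisymm
  · rw [Subgroup.map_le_iff_le_comap]
    apply sSup_le
    intro A' hA'
    rw [← Subgroup.map_le_iff_le_comap]
    exact le_sSup ((mem_famT_iff p P A').mp hA')
  · apply sSup_le
    intro A hA
    rw [← Subgroup.map_subgroupOf_eq_of_le hA.1]
    exact Subgroup.map_mono (le_sSup (subgroupOf_mem_famT hA))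

/-- the Prelude's `Z(J_e(P))` is `zJ p P` -/
theorem centerThompsonOf_eq_zJ (p : ℕ) (P : Subgroup G) :
    Cfsg.centerThompsonOf p P = zJ p P := by
  unfold Cfsg.centerThompsonOf zJ
  rw [thompsonSubgroupOf_eq_jE]

/-- **ZJ-theorem for `Cfsg.centerThompsonOf`** (the full centre of the elementary-abelian Thompson
subgroup): for `p` odd, `C_G(O_p(G)) ≤ O_p(G)` and `G` acting `p`-stably on its normal
`p`-subgroups, `Z(J_e(S))` is normal in `G`. -/
theorem centerThompsonOf_normal [Finite G] {p : ℕ} [Fact p.Prime] (hp : p ≠ 2)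
    (hc : Subgroup.centralizer (Cfsg.pCore p G : Set G) ≤ Cfsg.pCore p G)
    (hst : ∀ (P : Subgroup G) [P.Normal], IsPGroup p P → Cfsg.IsPStableOn p P) (S : Sylow p G) :
    (Cfsg.centerThompsonOf p (S : Subgroup G)).Normal := by
  rw [centerThompsonOf_eq_zJ]
  exact zJ_normal hp hc hst S

end bridge

end Cfsg.Agent.Lib.helper67
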