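import Mathlib
import Cfsg.Agent.Lib.helper67.ZJe
import Cfsg.Agent.Lib.helper14.StableW
import Cfsg.Agent.Lib.helper1.GT

/-!
# The Glauberman–Thompson normal `p`-complement theorem for `Z(J_e(P))` (helper67)

`Z(J_e(P)) = Cfsg.centerThompsonOf p P` is the full centre of the Thompson subgroup generated by the
elementary abelian subgroups of largest order.

* `zjeFunctor`, `isCharPFunctor_zjeFunctor`, `inducedFunctor_zjeFunctor`.
* `glauberman_thompson_zje`: `N_G(Z(J_e(P)))` has a normal `p`-complement ⇒ so does `G` (`p` odd).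
-/

set_option autoImplicit false

namespace Cfsg.Agent.Lib.helper67

open Subgroup Cfsg.Agent.Lib.helper14

universe u

/-- `Z(J_e(Q))` as a functor on groups -/
def zjeFunctor (p : ℕ) (Q : Type u) [Group Q] : Subgroup Q :=
  Cfsg.thompsonSubgroup p Q ⊓ Subgroup.centralizer (Cfsg.thompsonSubgroup p Q : Set Q)

theorem inducedFunctor_zjeFunctor {G : Type u} [Group G] (p : ℕ) (P : Subgroup G) :
    Cfsg.inducedFunctor (zjeFunctor p) P = Cfsg.centerThompsonOf p P := by
  unfold Cfsg.inducedFunctor zjeFunctor Cfsg.centerThompsonOf Cfsg.thompsonSubgroupOf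
  rw [map_inf_centralizer]

theorem zjeFunctor_eq_zJ_top (p : ℕ) (Q : Type u) [Group Q] :
    zjeFunctor p Q = zJ p (⊤ : Subgroup Q) := by
  unfold zjeFunctor zJ jE Cfsg.thompsonSubgroup
  have : famE p (⊤ : Subgroup Q) = Cfsg.maxElementaryAbelianSubgroups p Q := by
    ext A
    simp [famE, GoodE, Cfsg.maxElementaryAbelianSubgroups, Cfsg.IsElementaryAbelian]
  rw [this]

theorem zjeFunctor_ne_bot (p : ℕ) [hp : Fact p.Prime] (Q : Type u) [Group Q] [Finite Q]
    (hQ : IsPGroup p Q) [Nontrivial Q] : zjeFunctor p Q ≠ ⊥ := by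
  rw [zjeFunctor_eq_zJ_top]
  have hcn : Nontrivial (Subgroup.center Q) := hQ.center_nontrivial
  obtain ⟨⟨z, hz⟩, hz1⟩ := exists_ne (1 : Subgroup.center Q)
  have hz1' : z ≠ 1 := fun h => hz1 (Subtype.ext h)
  obtain ⟨k, hk⟩ := (IsPGroup.iff_orderOf.mp hQ) z
  have hk0 : k ≠ 0 := by
    rintro rfl
    rw [pow_zero, orderOf_eq_one_iff] at hk
    exact hz1' hk
  have hxp : (z ^ p ^ (k - 1)) ^ p = 1 := by
    rw [← pow_mul, ← pow_succ, Nat.sub_add_cancel (Nat.one_le_iff_ne_zero.mpr hk0), ← hk,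
      pow_orderOf_eq_one]
  have hx1 : z ^ p ^ (k - 1) ≠ 1 := by
    apply pow_ne_one_of_lt_orderOf (pow_pos hp.out.pos _).ne'
    rw [hk]
    exact Nat.pow_lt_pow_right hp.out.one_lt (Nat.sub_lt (Nat.pos_of_ne_zero hk0) one_pos)
  have hxc : ∀ g : Q, g * z ^ p ^ (k - 1) = z ^ p ^ (k - 1) * g := fun g =>
    Subgroup.mem_center_iff.mp (Subgroup.pow_mem _ hz _) g
  intro hbot
  apply hx1
  have hxZ : z ^ p ^ (k - 1) ∈ zJ p (⊤ : Subgroup Q) := by
    obtain ⟨A, hA⟩ := famE_nonempty p (⊤ : Subgroup Q)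
    refine ⟨le_jE hA (mem_of_mem_famE_of_commute hA (Subgroup.mem_top _) hxp (fun a _ => hxc a)),
      Subgroup.mem_centralizer_iff.mpr ?_⟩
    intro g _
    exact hxc g
  rw [hbot] at hxZ
  exact Subgroup.mem_bot.mp hxZ

theorem isCharPFunctor_zjeFunctor (p : ℕ) [Fact p.Prime] :
    Cfsg.IsCharPFunctor.{u} p (zjeFunctor p) := by
  constructor
  · intro Q _ _ hQ hnt
    exact zjeFunctor_ne_bot p Q hQ
  · intro Q R _ _ _ hQ φ
    unfold zjeFunctor
    rw [map_inf_centralizer_of_injective _ φ.injective, thompsonSubgroup_map]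

/-- **Glauberman–Thompson normal `p`-complement theorem** for the full centre `Z(J_e(P))` of the
elementary-abelian Thompson subgroup (`p` odd): if `N_G(Z(J_e(P)))` has a normal `p`-complement,
so does `G`. -/
theorem glauberman_thompson_zje {G : Type u} [Group G] [Finite G] {p : ℕ} [Fact p.Prime]
    (hp : p ≠ 2) (P : Sylow p G)
    (hN : Cfsg.HasNormalPComplement p
      ↥(Subgroup.normalizer (Cfsg.centerThompsonOf p (P : Subgroup G) : Set G))) :
    Cfsg.HasNormalPComplement p G := by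
  have hW := isCharPFunctor_zjeFunctor.{u} p
  have ax := Cfsg.Agent.Lib.helper40.redAx_hypW hW (fun _ _ => True) (fun _ _ _ _ => trivial)
    (fun _ _ _ _ _ => trivial)
  refine Cfsg.Agent.Lib.helper40.thompson_reduction ax ?_ G trivial
    (Cfsg.Agent.Lib.helper40.hypW_of_sylow hW P (by rw [inducedFunctor_zjeFunctor]; exact hN))
  intro X _ _ _ hP _ hcent hquot hco
  obtain ⟨T⟩ : Nonempty (Sylow p X) := inferInstance
  apply Cfsg.Agent.Lib.helper40.hasNPC_of_hypW_normal hP T
  rw [inducedFunctor_zjeFunctor]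
  exact centerThompsonOf_normal hp hcent
    (fun V _ hV => Cfsg.Agent.Lib.helper1.isPStableOn_of_coatom p hp hquot hco V hV) T

end Cfsg.Agent.Lib.helper67
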