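import Mathlib
import Cfsg.Agent.Lib.helper8.BGT3Defs
import Cfsg.Agent.Lib.helper54.BG1428Good
import Cfsg.Agent.Lib.helper54.BGNAN1
import Cfsg.Agent.Lib.helper54.BGPrimeAct
import Cfsg.Agent.Lib.helper55.BGTau1
import Cfsg.Agent.Lib.helper27.BGNAN6
import Cfsg.Agent.Lib.helper71.BGRegNA
import Cfsg.Agent.Lib.helper87.BG1430Asm
import Cfsg.Agent.Lib.helper90.BG1428S
import Cfsg.Agent.Lib.helper60.BGCentU
import Cfsg.Agent.Lib.helper65.Fitting
import Cfsg.Agent.Lib.helper1.Coprime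
import Cfsg.Agent.Lib.helper13.BG11a
import Cfsg.Agent.Lib.helper13.SylowIn
import Cfsg.Agent.S1350
import Cfsg.Agent.S1417
import Cfsg.Agent.S1420
import Cfsg.Agent.S1424

/-!
# S1430 (O-c), PIECE KA: `t3_killA : HKillA G`

In the singular `τ₃` context every `P ≤ E` of order `p ∈ τ₁(M)` centralizes `C_{M_σ}(R)`.
-/

set_option autoImplicit false
open Cfsg
open Cfsg.Agent.Lib.helper8.BGT3
open scoped commutatorElement

namespace Cfsg.Agent.Lib.helper67.BGT3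

variable {G : Type*} [Group G]

/-- A subgroup containing one Sylow `q`-subgroup of `E` for every prime `q` contains `E`. -/
theorem le_of_exists_sylow_le [Finite G] (E D : Subgroup G)
    (h : ∀ (q : ℕ) [Fact q.Prime], ∃ Q : Sylow q ↥E, (Q : Subgroup ↥E).map E.subtype ≤ D) :
    E ≤ D := by
  have hD : D.subgroupOf E = ⊤ := by
    apply Subgroup.eq_top_of_card_eq
    apply Nat.dvd_antisymm (Subgroup.card_subgroup_dvd_card _)
    rw [← Nat.factorization_prime_le_iff_dvd Nat.card_pos.ne' Nat.card_pos.ne']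
    intro q hq
    have : Fact q.Prime := ⟨hq⟩
    obtain ⟨Q, hQD⟩ := h q
    have hQ : (Q : Subgroup ↥E) ≤ D.subgroupOf E := by
      intro x hx
      exact Subgroup.mem_subgroupOf.mpr (hQD ⟨x, hx, rfl⟩)
    have h1 : Nat.card (Q : Subgroup ↥E) ∣ Nat.card (D.subgroupOf E) := Subgroup.card_dvd_of_le hQ
    rw [Sylow.card_eq_multiplicity] at h1
    exact (hq.pow_dvd_iff_le_factorization Nat.card_pos.ne').mp h1
  intro x hx
  have : (⟨x, hx⟩ : ↥E) ∈ D.subgroupOf E := by rw [hD]; trivial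
  exact Subgroup.mem_subgroupOf.mp this

/-- a nontrivial `q`-group has order divisible by `q` -/
theorem dvd_card_of_isPGroup_ne_bot [Finite G] {q : ℕ} [Fact q.Prime] {Q : Subgroup G}
    (hQ : IsPGroup q Q) (hQ1 : Q ≠ ⊥) : q ∣ Nat.card Q := by
  obtain ⟨n, hn⟩ := IsPGroup.iff_card.mp hQ
  rcases Nat.eq_zero_or_pos n with h0 | h0
  · exfalso
    apply hQ1
    rw [h0, pow_zero] at hn
    exact Subgroup.card_eq_one.mp hn
  · rw [hn]; exact dvd_pow_self q (by omega)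

/-- PIECE KA. -/
theorem t3_killA [Finite G] (hG : IsMinSimpleOddOrder G) (hN : HNorm G) (hH : HH G)
    (hX : HCross G) (hKC : HKillC G) (hSD : HSigDisj G) : HKillA G := by
  intro M E R r hS p P hp hPE hPc
  obtain ⟨⟨hM, hE, hr, hRE, hRc⟩, hC⟩ := id hS
  have hctx : Ctx M E R r := hS.1
  obtain ⟨hrp, hrM, hrd, hrrk⟩ := id hr
  obtain ⟨hpp, hpM, hpdM, hpnd, hprk⟩ := id hp
  haveI : Fact p.Prime := ⟨hpp⟩
  haveI : Fact r.Prime := ⟨hrp⟩
  have hU := Cfsg.Agent.Lib.helper13.bgx_uniq hG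
  have hF := Cfsg.Agent.Lib.helper13.bgx_fus hG
  obtain ⟨hodd, hsimple, hna, hsolv⟩ := id hG
  have hσM : sigmaCore M ≤ M := Subgroup.map_subtype_le _
  have hRp : IsPGroup r R := IsPGroup.of_card (n := 1) (by rw [hRc, pow_one])
  have hPp : IsPGroup p P := IsPGroup.of_card (n := 1) (by rw [hPc, pow_one])
  have hR1 : R ≠ ⊥ := by
    intro h
    rw [h, Subgroup.card_bot] at hRc
    exact hrp.one_lt.ne hRc
  obtain ⟨H, hHc, hNH⟩ :=
    Cfsg.Agent.Lib.helper90.BG1428.s_exists_coatom_normalizer_le hG R r hrp hRc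
  obtain ⟨hEN, -⟩ := hN M E R r hctx
  obtain ⟨hnc, hMH⟩ := hH M E R r hctx H hHc hNH
  by_contra hnot
  -- `p ∈ τ₁(H)`, `r ∈ σ(H)`
  have h1 : p ∈ tau1 H ∧ r ∈ sigma H := by
    by_contra h
    apply hnot
    apply hX M E R r hctx H hHc hNH P hPE (hPc ▸ hpp)
    rw [hPc]
    by_cases h1 : p ∈ tau1 H
    · right; intro h2; exact h ⟨h1, h2⟩
    · left; exact h1
  obtain ⟨hpH, hrH⟩ := h1
  obtain ⟨-, hpσH, hpdH, hpndH, hprkH⟩ := id hpH
  have hEH : E ≤ H := hEN.trans hNH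
  have hPH : P ≤ H := hPE.trans hEH
  have hRH : R ≤ H := hRE.trans hEH
  have hPM : P ≤ M := hPE.trans hE.1
  have hRM : R ≤ M := hRE.trans hE.1
  have hRσH : R ≤ sigmaCore H :=
    Cfsg.Agent.Lib.helper8.bg_pgroup_le_sigmaCore hG hU hF H hHc hrH R hRH hRp
  -- `C`
  obtain ⟨C, hCdef⟩ : ∃ C : Subgroup G,
      C = sigmaCore M ⊓ Subgroup.centralizer (R : Set G) := ⟨_, rfl⟩
  rw [← hCdef] at hnot hC hMH
  have hCσ : C ≤ sigmaCore M := hCdef ▸ inf_le_left
  have hCR : C ≤ Subgroup.centralizer (R : Set G) := hCdef ▸ inf_le_right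
  have hCH : C ≤ H := by rw [← hMH]; exact inf_le_right
  have hCM : C ≤ M := hCσ.trans hσM
  -- `P` normalizes `C`
  have hPNC : P ≤ Subgroup.normalizer (C : Set G) := by
    intro y hy
    apply Cfsg.Agent.Lib.helper13.mem_normalizer_of_forall_conj_mem
    intro c hc
    rw [hCdef]
    refine ⟨?_, ?_⟩
    · have h1 := Cfsg.Agent.Lib.helper13.le_normalizer_sigmaCore M (hPM hy)
      exact (Subgroup.mem_normalizer_iff.mp h1 c).mp (hCσ hc)
    · show y * c * y⁻¹ ∈ Subgroup.centralizer (R : Set G)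
      rw [Subgroup.mem_centralizer_iff]
      intro h hh
      have hyN : y ∈ Subgroup.normalizer (R : Set G) := hEN (hPE hy)
      have h2 : y⁻¹ * h * y ∈ R := by
        have := (Subgroup.mem_normalizer_iff.mp (Subgroup.inv_mem _ hyN) h).mp hh
        simpa using this
      have h3 := (Subgroup.mem_centralizer_iff.mp (hCR hc)) _ h2
      calc h * (y * c * y⁻¹) = y * ((y⁻¹ * h * y) * c) * y⁻¹ := by group
        _ = y * (c * (y⁻¹ * h * y)) * y⁻¹ := by rw [h3]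
        _ = y * c * y⁻¹ * h := by group
  have hcopPC : (Nat.card P).Coprime (Nat.card C) := by
    rw [hPc]
    exact ((Cfsg.Agent.Lib.helper8.bg_sigmaCore_card_coprime M hpp hpM).coprime_dvd_left
      (Subgroup.card_dvd_of_le hCσ)).symm
  have hPsolv : Group.IsSolvable P := by
    haveI := hPp.isNilpotent
    infer_instance
  -- a `P`-invariant Sylow `q`-subgroup of `C` not centralized by `P`
  obtain ⟨q, hqp, Q, hPQ, hQP⟩ : ∃ (q : ℕ) (_ : Fact q.Prime) (Q : Sylow q ↥C),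
      P ≤ Subgroup.normalizer (((Q : Subgroup ↥C).map C.subtype : Subgroup G) : Set G) ∧
      ¬ (Q : Subgroup ↥C).map C.subtype ≤ Subgroup.centralizer (P : Set G) := by
    by_contra hcon
    apply hnot
    apply le_of_exists_sylow_le
    intro q hq
    obtain ⟨Q, hQ⟩ := Cfsg.Agent.Lib.helper1.exists_invariant_sylow (p := q) P C hPNC hcopPC
      (Or.inl hPsolv)
    refine ⟨Q, ?_⟩
    by_contra hQc
    exact hcon ⟨q, hq, Q, hQ, hQc⟩
  haveI := hqp
  have hq : q.Prime := hqp.out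
  obtain ⟨Q0, hQ0def⟩ : ∃ Q0 : Subgroup G, Q0 = (Q : Subgroup ↥C).map C.subtype := ⟨_, rfl⟩
  rw [← hQ0def] at hPQ hQP
  have hQ0C : Q0 ≤ C := hQ0def ▸ Subgroup.map_subtype_le _
  have hQ0q : IsPGroup q Q0 := hQ0def ▸ Q.isPGroup'.map _
  have hQ01 : Q0 ≠ ⊥ := by
    intro h
    apply hQP
    rw [h]; exact bot_le
  have hQ0H : Q0 ≤ H := hQ0C.trans hCH
  have hQ0M : Q0 ≤ M := hQ0C.trans hCM
  have hqQ0 : q ∣ Nat.card Q0 := dvd_card_of_isPGroup_ne_bot hQ0q hQ01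
  have hqM : q ∈ sigma M :=
    Cfsg.Agent.Lib.helper54.PrimeAct.mem_sigma_of_dvd hG M hM (hQ0C.trans hCσ) hq hqQ0
  have hqH : q ∉ sigma H := hSD M E R r hS H hHc hnc q hqM
  have hqp' : q ≠ p := fun h => hpM (h ▸ hqM)
  -- the commutator `W = [Q0, P]`: a nontrivial `q`-subgroup of `H'`
  obtain ⟨W, hWdef⟩ : ∃ W : Subgroup G, W = ⁅Q0, P⁆ := ⟨_, rfl⟩
  have hWQ : W ≤ Q0 := hWdef ▸ Cfsg.Agent.Lib.helper1.commutator_le_of_le_normalizer hPQ
  have hW1 : W ≠ ⊥ := by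
    intro h
    apply hQP
    exact Subgroup.commutator_eq_bot_iff_le_centralizer.mp (hWdef ▸ h)
  have hWH' : W ≤ ⁅H, H⁆ := hWdef ▸ Subgroup.commutator_mono hQ0H hPH
  have hWq : IsPGroup q W := hQ0q.to_le hWQ
  have hqW : q ∣ Nat.card W := dvd_card_of_isPGroup_ne_bot hWq hW1
  have hqH' : q ∣ Nat.card ↥⁅H, H⁆ := hqW.trans (Subgroup.card_dvd_of_le hWH')
  have hrk2 : PRankLE q 2 H := by
    by_contra h
    exact hqH (Cfsg.Agent.Lib.helper8.bg_alpha_sub_sigma hG hU H hHc ⟨hq, h⟩)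
  have hprimeQ : ∀ s : ℕ, s.Prime → s ∣ Nat.card Q0 → s = q := by
    intro s hs hsQ
    obtain ⟨n, hn⟩ := IsPGroup.iff_card.mp hQ0q
    rw [hn] at hsQ
    exact (Nat.prime_dvd_prime_iff_eq hs hq).mp (hs.dvd_of_dvd_pow hsQ)
  by_cases hrk1 : PRankLE q 1 H
  · -- `q ∈ τ₃(H)`
    have hq3 : q ∈ tau3 H := ⟨hq, hqH, hqH', hrk1⟩
    obtain ⟨T, hTdef⟩ : ∃ T : Subgroup G, T = P ⊔ Q0 := ⟨_, rfl⟩
    have hTcard : Nat.card T ∣ Nat.card P * Nat.card Q0 :=
      hTdef ▸ Cfsg.Agent.Lib.helper65.card_sup_dvd_mul hPQ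
    have hTH : T ≤ H := hTdef ▸ sup_le hPH hQ0H
    obtain ⟨E1, hE1, hTE1⟩ :=
      Cfsg.Agent.Lib.helper60.BGCentU.exists_compl_ge hG H hHc T hTH (by
        intro s hs hsT hsH
        rcases (Nat.Prime.dvd_mul hs).mp (hsT.trans hTcard) with h | h
        · rw [hPc] at h
          have h1 : s = p := (Nat.prime_dvd_prime_iff_eq hs hpp).mp h
          exact hpσH (h1 ▸ hsH)
        · exact hqH (hprimeQ s hs h ▸ hsH))
    have hPE1 : P ≤ E1 := (hTdef ▸ le_sup_left : P ≤ T).trans hTE1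
    have hQE1 : Q0 ≤ E1 := (hTdef ▸ le_sup_right : Q0 ≤ T).trans hTE1
    obtain ⟨x, hx⟩ := exists_prime_orderOf_dvd_card' (G := ↥W) q hqW
    obtain ⟨X, hXdef⟩ : ∃ X : Subgroup G, X = Subgroup.zpowers (x : G) := ⟨_, rfl⟩
    have hXc : Nat.card X = q := by rw [hXdef, Nat.card_zpowers, Subgroup.orderOf_coe, hx]
    have hXW : X ≤ W := by rw [hXdef, Subgroup.zpowers_le]; exact x.2
    have hXE1 : X ≤ E1 := hXW.trans (hWQ.trans hQE1)
    have hXR : R ≤ Subgroup.centralizer (X : Set G) := by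
      intro y hy
      rw [Subgroup.mem_centralizer_iff]
      intro z hz
      exact ((Subgroup.mem_centralizer_iff.mp (hCR (hQ0C (hWQ (hXW hz))))) y hy).symm
    have hSH : SCtx H E1 X q := by
      refine ⟨⟨hHc, hE1, hq3, hXE1, hXc⟩, ?_⟩
      intro h
      apply hR1
      rw [eq_bot_iff, ← h]
      exact le_inf hRσH hXR
    have hPX : P ≤ Subgroup.centralizer (X : Set G) := hKC H E1 X q hSH p P hpH hPE1 hPc
    have hQ0ab : IsMulCommutative Q0 := by
      apply (Cfsg.Agent.S1420.result hG H hHc E1 hE1).1 Q0 hQ0H hQ0q.isNilpotent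
      intro s hs hsQ hsH
      exact hqH (hprimeQ s hs hsQ ▸ hsH)
    have hab : ∀ a ∈ Q0, ∀ b ∈ Q0, a * b = b * a := by
      intro a ha b hb
      exact congrArg Subtype.val ((isMulCommutative_iff.mp hQ0ab) ⟨a, ha⟩ ⟨b, hb⟩)
    have hcopQP : (Nat.card Q0).Coprime (Nat.card P) := by
      obtain ⟨n, hn⟩ := IsPGroup.iff_card.mp hQ0q
      rw [hn, hPc]
      exact Nat.Coprime.pow_left n ((Nat.coprime_primes hq hpp).mpr hqp')
    have h5 := Cfsg.Agent.Lib.helper54.BGNA.abel_comm_inf_cent Q0 P hab hPQ hcopQP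
    have hXbot : X ≤ ⊥ := by
      rw [← h5, ← hWdef]
      refine le_inf hXW ?_
      intro z hz
      rw [Subgroup.mem_centralizer_iff]
      intro y hy
      exact ((Subgroup.mem_centralizer_iff.mp (hPX hy)) z hz).symm
    have h6 : Nat.card X = 1 := by rw [le_bot_iff.mp hXbot, Subgroup.card_bot]
    rw [hXc] at h6
    exact hq.one_lt.ne' h6
  · -- `q ∈ τ₂(H)`
    have hq2 : q ∈ tau2 H := ⟨hq, hqH, hrk2, hrk1⟩
    obtain ⟨E0, hE0⟩ := Cfsg.Agent.Lib.helper60.BGSylU.exists_compl_sigmaCore hG H hHc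
    obtain ⟨x, hx⟩ := exists_prime_orderOf_dvd_card' (G := ↥Q0) q hqQ0
    obtain ⟨xG, hxG⟩ : ∃ xG : G, xG = (x : G) := ⟨_, rfl⟩
    have hxo : orderOf xG = q := by rw [hxG, Subgroup.orderOf_coe, hx]
    have hxQ : xG ∈ Q0 := hxG ▸ x.2
    have hx1 : xG ≠ 1 := by
      intro h
      rw [h, orderOf_one] at hxo
      exact hq.one_lt.ne hxo
    obtain ⟨y, hyR, hy1⟩ : ∃ y ∈ R, y ≠ 1 := by
      by_contra hcon
      apply hR1
      rw [eq_bot_iff]
      intro y hy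
      rw [Subgroup.mem_bot]
      by_contra hy1
      exact hcon ⟨y, hy, hy1⟩
    have hxhat : xG ∈ sigmaHat H := by
      refine ⟨hQ0H hxQ, y, hRσH hyR, hy1, ?_⟩
      exact ((Subgroup.mem_centralizer_iff.mp (hCR (hQ0C hxQ))) y hyR).symm
    obtain ⟨hCxH, huniq⟩ := (Cfsg.Agent.S1420.result hG H hHc E0 hE0).2.2.2 xG (hQ0H hxQ) hx1
      (by
        intro s hs hsx
        rw [hxo] at hsx
        have h1 : s = q := (Nat.prime_dvd_prime_iff_eq hs hq).mp hsx
        rw [h1]; exact hq2) hxhat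
    obtain ⟨X, hXdef⟩ : ∃ X : Subgroup G, X = Subgroup.zpowers xG := ⟨_, rfl⟩
    have hXQ : X ≤ Q0 := by rw [hXdef, Subgroup.zpowers_le]; exact hxQ
    have hXc : Nat.card X = q := by rw [hXdef, Nat.card_zpowers, hxo]
    have hX1 : X ≠ ⊥ := by
      intro h
      rw [h, Subgroup.card_bot] at hXc
      exact hq.one_lt.ne hXc
    have hXq : IsPGroup q X := hQ0q.to_le hXQ
    have hNX : Subgroup.normalizer (X : Set G) ≤ H := by
      apply Cfsg.Agent.Lib.helper71.BGRegNA.normalizer_le_of_uniq hG H X hHc (hXQ.trans hQ0H) hX1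
      intro L hL hLc
      apply huniq L hL
      rw [hXdef, Cfsg.Agent.Lib.helper87.BG142.cent_zpowers] at hLc
      exact hLc
    have hHM : H ≠ M := by
      intro h
      apply hnc 1
      rw [h]
      ext z
      simp
    have hXMH : X ≤ M ⊓ H := le_inf (hXQ.trans hQ0M) (hXQ.trans hQ0H)
    obtain ⟨S, hS⟩ := (hXq.comap_of_injective (M ⊓ H).subtype
      (Subgroup.subtype_injective _)).exists_le_sylow
    have hXS : X ≤ (S : Subgroup ↥(M ⊓ H)).map (M ⊓ H).subtype := by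
      intro z hz
      exact ⟨⟨z, hXMH hz⟩, hS (Subgroup.mem_subgroupOf.mpr hz), rfl⟩
    obtain ⟨-, -, hidx⟩ := Cfsg.Agent.S1424.result hG M hM q hqM X hXq hX1 (hXQ.trans hQ0M) H hHc
      hHM hNX S hXS
    obtain ⟨S0, hS0def⟩ : ∃ S0 : Subgroup G,
        S0 = (S : Subgroup ↥(M ⊓ H)).map (M ⊓ H).subtype := ⟨_, rfl⟩
    rw [← hS0def] at hidx
    have hS0MH : S0 ≤ M ⊓ H := hS0def ▸ Subgroup.map_subtype_le _
    have hS0q : IsPGroup q S0 := hS0def ▸ S.isPGroup'.map _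
    obtain ⟨S', hS'⟩ := Cfsg.Agent.Lib.helper27.BGNA.na6_sylow_of_index (G := ↥H) (p := q)
      (S0.subgroupOf H) (hS0q.comap_of_injective H.subtype H.subtype_injective) hidx
    obtain ⟨A, hAS, hAe, hAc⟩ :=
      Cfsg.Agent.Lib.helper55.BGJ.exists_elemAb_sq_le_sylow H q hrk2 hrk1 S'
    have hAS0 : A ≤ S0 := by
      intro a ha
      obtain ⟨b, hb, rfl⟩ := hAS ha
      rw [hS'] at hb
      exact Subgroup.mem_subgroupOf.mp hb
    have hAM : A ≤ M := hAS0.trans (hS0MH.trans inf_le_left)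
    have hAH : A ≤ H := hAS0.trans (hS0MH.trans inf_le_right)
    have h17 := (Cfsg.Agent.S1417.result hG H hHc q hq2 A ⟨hAH, hAe, hAc⟩).2.2.2.2.1 M hM
      (Ne.symm hHM) hAM
    apply hR1
    rw [eq_bot_iff, ← h17]
    exact le_inf hRσH hRM

end Cfsg.Agent.Lib.helper67.BGT3
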