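import Mathlib
import Cfsg.Agent.Lib.helper8.BGT3Defs
import Cfsg.Agent.Lib.helper29.BGSigGlue

/-!
# S1430 (O-c), PIECE S3: `t3_sigdisj : HSigDisj G`

In the singular `τ₃` context `σ(M)` is disjoint from `σ(L)` for `L` not conjugate to `M`.
This is an instance of the `σ`-partition (B-G 13.9, `helper29.SigPart.sigma_inter_conj`), which
needs only the asymmetry lemma.
-/

set_option autoImplicit false
open Cfsg
open Cfsg.Agent.Lib.helper8.BGT3

namespace Cfsg.Agent.Lib.helper67.BGT3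

variable {G : Type*} [Group G]

/-- The asymmetry bundle `ASHyp` gives helper29's `AsymSylHyp`. -/
theorem asymSylHyp_of_asHyp (hAS : ASHyp G) : Cfsg.Agent.Lib.helper29.SigPart.AsymSylHyp G := by
  apply Cfsg.Agent.Lib.helper29.SigPart.asymSylHyp_of_asym70
  intro M L hM hL hnc p hpM hpL P hPM hPL hP q hq Q hQ hQ1 hQM hQL hQsyl hPQ hQP hNQ r hr R hR hR1
    hRM hRL hRsyl hPR hRP hNR
  exact hAS M L hM hL hnc p hpM hpL P (le_inf hPM hPL) hP q Q hq (le_inf hQM hQL) hQ hQ1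
    (fun Q₁ h1 h2 h3 => hQsyl Q₁ h2 (h1.trans inf_le_left) (h1.trans inf_le_right) h3) hPQ hQP hNQ
    r R hr (le_inf hRM hRL) hR hR1
    (fun R₁ h1 h2 h3 => hRsyl R₁ h2 (h1.trans inf_le_left) (h1.trans inf_le_right) h3) hPR hRP hNR

/-- PIECE S3 without the (unneeded) hypotheses `HCommon`, `HCentP`. -/
theorem t3_sigdisj' [Finite G] (hG : IsMinSimpleOddOrder G) (hAS : ASHyp G) : HSigDisj G := by
  intro M E R r hctx L hL hnc q hqM hqL
  obtain ⟨g, hg⟩ := Cfsg.Agent.Lib.helper29.SigPart.sigma_inter_conj hG (asymSylHyp_of_asHyp hAS)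
    M L hctx.1.1 hL ⟨q, hqM, hqL⟩
  exact hnc g hg

/-- PIECE S3 (exact statement of the skeleton). -/
theorem t3_sigdisj [Finite G] (hG : IsMinSimpleOddOrder G) (hAS : ASHyp G) (_hCom : HCommon G)
    (_hCP : HCentP G) : HSigDisj G :=
  t3_sigdisj' hG hAS

end Cfsg.Agent.Lib.helper67.BGT3
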