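import Mathlib

/-!
# An averaging lemma for groups all of whose elements outside a subgroup have order `p` (helper67)

`conj_commutator_mem_of_splitting` ("AL"): let `U` be a normal subgroup of the finite group `X`,
`A` a subgroup and `S` a set of elements of order `p` closed under nontrivial powers and under left
multiplication by `A`, such that `(u * t) ^ p = 1` for `u ∈ U`, `t ∈ S` and `|S| = (p - 1) m` with
`m` prime to `|U|`.  Then `A` acts trivially on `U / U'`.

`commute_of_splitting` ("AL-solv"): if moreover `U` is solvable and `b ^ m = 1` on `A`, then `A`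
centralizes `U`.
-/

set_option autoImplicit false

namespace Cfsg.Agent.Lib.helper67

open Subgroup

/-- `(u t)^n = (∏_{i<n} t^i u t^{-i}) t^n`. -/
theorem mul_pow_eq_list_prod_conj {X : Type*} [Group X] (u t : X) (n : ℕ) :
    (u * t) ^ n = ((List.range n).map (fun i => t ^ i * u * (t ^ i)⁻¹)).prod * t ^ n := by
  induction n with
  | zero => simp
  | succ n ih =>
    rw [pow_succ, ih, List.range_succ, List.map_append, List.prod_append]
    simp only [List.map_cons, List.map_nil, List.prod_cons, List.prod_nil, mul_one]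
    rw [pow_succ]
    group

/-- If `w ^ p = 1` with `p` prime and `w ∉ B`, then no nontrivial power `w ^ k`, `0 < k < p`,
lies in `B`. -/
theorem pow_not_mem_of_prime {X : Type*} [Group X] (B : Subgroup X) {w : X} {p : ℕ}
    (hp : p.Prime) (hw : w ^ p = 1) (hwB : w ∉ B) {k : ℕ} (hk0 : 0 < k) (hkp : k < p) :
    w ^ k ∉ B := by
  intro hk
  haveI : Fact p.Prime := ⟨hp⟩
  have hw1 : w ≠ 1 := fun h => hwB (h ▸ B.one_mem)
  have ho : orderOf w = p := orderOf_eq_prime hw hw1
  have hcop : k.Coprime (orderOf w) := by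
    rw [ho]
    exact (Nat.Coprime.symm ((Nat.Prime.coprime_iff_not_dvd hp).2
      (fun h => absurd (Nat.le_of_dvd hk0 h) (not_le.2 hkp))))
  obtain ⟨m, hm⟩ := exists_pow_eq_self_of_coprime hcop
  exact hwB (hm ▸ B.pow_mem hk m)

theorem list_range_map_prod_eq_finset {M : Type*} [CommMonoid M] (f : ℕ → M) (n : ℕ) :
    ((List.range n).map f).prod = ∏ i ∈ Finset.range n, f i := by
  induction n with
  | zero => simp
  | succ n ih =>
    rw [List.range_succ, List.map_append, List.prod_append, ih, Finset.prod_range_succ]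
    simp

/-- The averaging lemma: `A` acts trivially on `U / U'`. -/
theorem conj_commutator_mem_of_splitting {X : Type*} [Group X] [Finite X] {p : ℕ} (hp : p.Prime)
    (A U : Subgroup X) [hU : U.Normal] (S : Set X)
    (hS1 : ∀ t ∈ S, t ^ p = 1) (hSne : (1 : X) ∉ S)
    (hSpow : ∀ t ∈ S, ∀ k : ℕ, 0 < k → k < p → t ^ k ∈ S)
    (hSnorm : ∀ t ∈ S, ∀ u ∈ U, (u * t) ^ p = 1)
    (hSA : ∀ b ∈ A, ∀ t ∈ S, b * t ∈ S)
    (m : ℕ) (hcard : S.ncard = (p - 1) * m) (hcop : m.Coprime (Nat.card U)) :
    ∀ b ∈ A, ∀ u ∈ U, b * u * b⁻¹ * u⁻¹ ∈ ⁅U, U⁆ := by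
  classical
  haveI : Fact p.Prime := ⟨hp⟩
  intro b hb u hu
  let cj : X →* MulAut U := MulAut.conjNormal
  let ψ : X → (Abelianization U →* Abelianization U) :=
    fun g => Abelianization.map (cj g).toMonoidHom
  have hψ : ∀ (g : X) (w : U), ψ g (Abelianization.of w) = Abelianization.of (cj g w) :=
    fun g w => Abelianization.map_of _ _
  let u' : U := ⟨u, hu⟩
  let F : X → Abelianization U := fun t => Abelianization.of (cj t u')
  have hF1 : F 1 = Abelianization.of u' := by
    show Abelianization.of (cj 1 u') = _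
    rw [map_one]; rfl
  -- Step 1: the norm identity
  have step1 : ∀ t ∈ S, ∏ i ∈ Finset.range p, F (t ^ i) = 1 := by
    intro t ht
    have h1 := mul_pow_eq_list_prod_conj u t p
    rw [hSnorm t ht u hu, hS1 t ht, mul_one] at h1
    have h2 : ((List.range p).map (fun i => cj (t ^ i) u')).prod = 1 := by
      apply Subtype.ext
      rw [Subgroup.val_list_prod, List.map_map]
      rw [Subgroup.coe_one, h1]
      congr 1
    have h3 := congrArg (Abelianization.of (G := U)) h2
    rw [map_list_prod, List.map_map, map_one] at h3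
    rw [← list_range_map_prod_eq_finset]
    exact h3
  -- Step 2: partition of `S` into cyclic subgroups
  have hfin : S.Finite := Set.toFinite S
  set Sf : Finset X := hfin.toFinset with hSf
  have hmemS : ∀ t, t ∈ Sf ↔ t ∈ S := fun t => Set.Finite.mem_toFinset hfin
  have hord : ∀ t ∈ S, orderOf t = p := fun t ht =>
    orderOf_eq_prime (hS1 t ht) (fun h => hSne (h ▸ ht))
  have hfib : ∀ t₀ ∈ S, Sf.filter (fun t => zpowers t = zpowers t₀)
      = (Finset.Ico 1 p).image (fun i => t₀ ^ i) := by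
    intro t₀ ht₀
    ext t
    simp only [Finset.mem_filter, Finset.mem_image, Finset.mem_Ico, hmemS]
    constructor
    · rintro ⟨ht, hz⟩
      have h1 : t ∈ zpowers t₀ := hz ▸ mem_zpowers t
      rw [← mem_powers_iff_mem_zpowers, mem_powers_iff_mem_range_orderOf, hord t₀ ht₀] at h1
      obtain ⟨n, hn, rfl⟩ := Finset.mem_image.1 h1
      refine ⟨n, ⟨?_, Finset.mem_range.1 hn⟩, rfl⟩
      rcases Nat.eq_zero_or_pos n with h0 | h0
      · exfalso; apply hSne; rw [h0, pow_zero] at ht; exact ht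
      · exact h0
    · rintro ⟨n, ⟨hn1, hnp⟩, rfl⟩
      have hmem := hSpow t₀ ht₀ n hn1 hnp
      refine ⟨hmem, ?_⟩
      apply Subgroup.eq_of_le_of_card_ge (zpowers_le.2 (pow_mem (mem_zpowers t₀) n))
      rw [Nat.card_zpowers, Nat.card_zpowers, hord _ hmem, hord _ ht₀]
  have hinj : ∀ t₀ ∈ S, Set.InjOn (fun i : ℕ => t₀ ^ i) (Finset.Ico 1 p : Finset ℕ) := by
    intro t₀ ht₀ i hi j hj hij
    have hi' : i < orderOf t₀ := by rw [hord t₀ ht₀]; exact (Finset.mem_Ico.1 hi).2
    have hj' : j < orderOf t₀ := by rw [hord t₀ ht₀]; exact (Finset.mem_Ico.1 hj).2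
    exact pow_injOn_Iio_orderOf hi' hj' hij
  have hfibprod : ∀ t₀ ∈ S, ∏ t ∈ Sf.filter (fun t => zpowers t = zpowers t₀), F t
      = (Abelianization.of u')⁻¹ := by
    intro t₀ ht₀
    rw [hfib t₀ ht₀, Finset.prod_image (hinj t₀ ht₀)]
    have h1 := step1 t₀ ht₀
    rw [Finset.prod_range_eq_mul_Ico _ hp.pos, pow_zero, hF1] at h1
    exact eq_inv_of_mul_eq_one_right h1
  have hfibcard : ∀ t₀ ∈ S, (Sf.filter (fun t => zpowers t = zpowers t₀)).card = p - 1 := by
    intro t₀ ht₀
    rw [hfib t₀ ht₀, Finset.card_image_of_injOn (hinj t₀ ht₀), Nat.card_Ico]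
  set I : Finset (Subgroup X) := Sf.image zpowers with hI
  have hmaps : ∀ t ∈ Sf, zpowers t ∈ I := fun t ht => Finset.mem_image_of_mem _ ht
  have hIcard : I.card = m := by
    have h1 := Finset.card_eq_sum_card_fiberwise hmaps
    have h2 : ∀ C ∈ I, (Sf.filter (fun t => zpowers t = C)).card = p - 1 := by
      intro C hC
      obtain ⟨t₀, ht₀, rfl⟩ := Finset.mem_image.1 hC
      exact hfibcard t₀ ((hmemS t₀).1 ht₀)
    rw [Finset.sum_congr rfl h2, Finset.sum_const, smul_eq_mul] at h1
    have h3 : Sf.card = (p - 1) * m := by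
      rw [← hcard, Set.ncard_eq_toFinset_card S hfin]
    rw [h3, mul_comm] at h1
    exact (Nat.eq_of_mul_eq_mul_right (Nat.sub_pos_of_lt hp.one_lt) h1).symm
  have step2 : ∏ t ∈ Sf, F t = (Abelianization.of u')⁻¹ ^ m := by
    rw [← Finset.prod_fiberwise_of_maps_to hmaps F]
    have h2 : ∀ C ∈ I, ∏ t ∈ Sf.filter (fun t => zpowers t = C), F t
        = (Abelianization.of u')⁻¹ := by
      intro C hC
      obtain ⟨t₀, ht₀, rfl⟩ := Finset.mem_image.1 hC
      exact hfibprod t₀ ((hmemS t₀).1 ht₀)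
    rw [Finset.prod_congr rfl h2, Finset.prod_const, hIcard]
  -- Step 3: invariance under left multiplication by `b`
  have step3 : ∏ t ∈ Sf, F (b * t) = ∏ t ∈ Sf, F t := by
    refine Finset.prod_nbij' (fun t => b * t) (fun t => b⁻¹ * t) ?_ ?_ ?_ ?_ ?_
    · intro t ht; exact (hmemS _).2 (hSA b hb t ((hmemS t).1 ht))
    · intro t ht; exact (hmemS _).2 (hSA b⁻¹ (A.inv_mem hb) t ((hmemS t).1 ht))
    · intro t _; simp
    · intro t _; simp
    · intro t _; rfl
  have hFb : ∀ t, F (b * t) = ψ b (F t) := by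
    intro t
    show Abelianization.of (cj (b * t) u') = ψ b (Abelianization.of (cj t u'))
    rw [hψ, map_mul]; rfl
  have h4 : ψ b ((Abelianization.of u')⁻¹ ^ m) = (Abelianization.of u')⁻¹ ^ m := by
    rw [← step2, map_prod, ← step3]
    exact Finset.prod_congr rfl (fun t _ => (hFb t).symm)
  rw [map_pow, map_inv, hψ] at h4
  set w : Abelianization U := Abelianization.of (cj b u' * u'⁻¹) with hw
  have hwm : w ^ m = 1 := by
    rw [hw, map_mul, map_inv, mul_pow, ← h4, ← mul_pow, mul_inv_cancel, one_pow]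
  have hwc : w ^ Nat.card U = 1 := by
    have h5 : Nat.card (Abelianization U) ∣ Nat.card U :=
      Subgroup.card_quotient_dvd_card (commutator U)
    obtain ⟨c, hc⟩ := h5
    rw [hc, pow_mul, pow_card_eq_one', one_pow]
  have hw1 : w = 1 := by
    rw [← orderOf_eq_one_iff]
    exact Nat.eq_one_of_dvd_coprimes hcop (orderOf_dvd_of_pow_eq_one hwm)
      (orderOf_dvd_of_pow_eq_one hwc)
  have h6 : cj b u' * u'⁻¹ ∈ commutator U := by
    rw [← Abelianization.ker_of, MonoidHom.mem_ker]; exact hw1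
  have h7 : ((cj b u' * u'⁻¹ : U) : X) ∈ (commutator U).map U.subtype :=
    Subgroup.mem_map_of_mem U.subtype h6
  rw [Subgroup.map_subtype_commutator] at h7
  have h8 : ((cj b u' * u'⁻¹ : U) : X) = b * u * b⁻¹ * u⁻¹ := by
    rw [Subgroup.coe_mul, Subgroup.coe_inv, MulAut.conjNormal_apply]
  rw [← h8]; exact h7

/-- If moreover `U` is solvable and `A` has exponent dividing `m`, then `A` centralizes `U`. -/
theorem commute_of_splitting {X : Type*} [Group X] [Finite X] {p : ℕ} (hp : p.Prime)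
    (A : Subgroup X) (S : Set X)
    (hS1 : ∀ t ∈ S, t ^ p = 1) (hSne : (1 : X) ∉ S)
    (hSpow : ∀ t ∈ S, ∀ k : ℕ, 0 < k → k < p → t ^ k ∈ S)
    (hSA : ∀ b ∈ A, ∀ t ∈ S, b * t ∈ S)
    (m : ℕ) (hcard : S.ncard = (p - 1) * m) (hAm : ∀ b ∈ A, b ^ m = 1) :
    ∀ (n : ℕ) (U : Subgroup X), U.Normal → Nat.card U = n → Group.IsSolvable U →
      m.Coprime (Nat.card U) → (∀ t ∈ S, ∀ u ∈ U, (u * t) ^ p = 1) →
      ∀ b ∈ A, ∀ u ∈ U, b * u = u * b := by
  intro n
  induction n using Nat.strong_induction_on with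
  | _ n ih =>
  intro U hUn hcardU hsol hcop hnorm b hb u hu
  haveI := hUn
  haveI := hsol
  by_cases hU : U = ⊥
  · rw [hU, Subgroup.mem_bot] at hu
    rw [hu, mul_one, one_mul]
  have hle : ⁅U, U⁆ ≤ U := Subgroup.commutator_le_left U U
  have hne : ⁅U, U⁆ ≠ U := by
    intro h
    haveI : Nontrivial U := (Subgroup.nontrivial_iff_ne_bot U).2 hU
    have h1 := Group.IsSolvable.commutator_lt_top_of_nontrivial U
    apply h1.ne
    apply Subgroup.map_injective U.subtype_injective
    rw [Subgroup.map_subtype_commutator, h, ← MonoidHom.range_eq_map, Subgroup.range_subtype]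
  have hlt : Nat.card (⁅U, U⁆ : Subgroup X) < n := by
    rw [← hcardU]
    by_contra hc
    exact hne (Subgroup.eq_of_le_of_card_ge hle (not_lt.1 hc))
  have hsol' : Group.IsSolvable (⁅U, U⁆ : Subgroup X) :=
    Group.isSolvable_of_isSolvable_injective (Subgroup.inclusion_injective hle)
  have hcop' : m.Coprime (Nat.card (⁅U, U⁆ : Subgroup X)) :=
    Nat.Coprime.coprime_dvd_right (Subgroup.card_dvd_of_le hle) hcop
  have hcent := ih _ hlt (⁅U, U⁆) inferInstance rfl hsol' hcop'
    (fun t ht u hu => hnorm t ht u (hle hu))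
  have hc := conj_commutator_mem_of_splitting hp A U S hS1 hSne hSpow hnorm hSA m hcard hcop
    b hb u hu
  set c := b * u * b⁻¹ * u⁻¹ with hcdef
  have hbc : Commute b c := hcent b hb c hc
  have key : ∀ k : ℕ, b ^ k * u = c ^ k * u * b ^ k := by
    intro k
    induction k with
    | zero => simp
    | succ k ihk =>
      have h1 : b * c ^ k = c ^ k * b := (hbc.pow_right k).eq
      have h2 : b * u = c * u * b := by rw [hcdef]; group
      calc b ^ (k + 1) * u = b * (b ^ k * u) := by rw [pow_succ', mul_assoc]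
        _ = b * c ^ k * u * b ^ k := by rw [ihk]; group
        _ = c ^ k * (b * u) * b ^ k := by rw [h1]; group
        _ = c ^ (k + 1) * u * b ^ (k + 1) := by rw [h2, pow_succ, pow_succ']; group
  have h3 := key m
  rw [hAm b hb, one_mul, mul_one] at h3
  have hcm : c ^ m = 1 := by
    have : c ^ m * u = 1 * u := by rw [one_mul]; exact h3.symm
    exact mul_right_cancel this
  have hcU : c ^ Nat.card U = 1 := by
    have h4 : (⟨c, hle hc⟩ : U) ^ Nat.card U = 1 := pow_card_eq_one'
    have h5 := congrArg Subtype.val h4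
    rw [Subgroup.coe_pow, Subgroup.coe_one] at h5
    exact h5
  have hc1 : c = 1 := by
    rw [← orderOf_eq_one_iff]
    exact Nat.eq_one_of_dvd_coprimes hcop (orderOf_dvd_of_pow_eq_one hcm)
      (orderOf_dvd_of_pow_eq_one hcU)
  have h6 : b * u = c * u * b := by rw [hcdef]; group
  rw [h6, hc1, one_mul]

end Cfsg.Agent.Lib.helper67
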