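import Mathlib
import Cfsg.Prelude.Def_Transfer
import Cfsg.Agent.Lib.lead.PNil
import Cfsg.Agent.Lib.lead.ThompsonPC
import Cfsg.Agent.Lib.helper67.Frobenius
import Cfsg.Agent.Lib.helper67.HughesAL

/-!
# The Hughes–Thompson–Kegel theorem (helper67)

* `hughes_kegel`: if `H` is a normal subgroup of prime index `p` of the finite group `Γ` and every
  element of `Γ` outside `H` has order `p`, then `H` is nilpotent.  (Kegel's theorem on splitting
  automorphisms of prime order; Thompson's theorem on fixed-point-free automorphisms of prime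
  order is the case `p ∤ |H|`.)
* `hughes_thompson_index`: if `G` is not a `p`-group and `H_p(G) = ⟨g | g ^ p ≠ 1⟩` is proper,
  then `|G : H_p(G)| = p`.
-/

set_option autoImplicit false

namespace Cfsg.Agent.Lib.helper67

open Subgroup Cfsg
open Cfsg.Agent.Lib.lead (PN)

universe u

/-- In a finite nilpotent group, elements of coprime orders commute. -/
theorem commute_of_coprime_of_isNilpotent {G : Type*} [Group G] [Group.IsNilpotent G] [Finite G]
    (g x : G) (h : (orderOf g).Coprime (orderOf x)) : g * x = x * g := by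
  revert g x
  suffices hs : Finite G → ∀ g x : G, (orderOf g).Coprime (orderOf x) → g * x = x * g from
    hs inferInstance
  refine Group.nilpotent_center_quotient_ind
    (P := fun (G : Type _) [Group G] [Group.IsNilpotent G] =>
      Finite G → ∀ g x : G, (orderOf g).Coprime (orderOf x) → g * x = x * g) G ?_ ?_
  · intro G _ _ _ g x _
    exact Subsingleton.elim _ _
  · intro G _ _ ih hfin g x hcop
    have h1 := ih inferInstance (QuotientGroup.mk g) (QuotientGroup.mk x)
      (Nat.Coprime.coprime_dvd_left (orderOf_map_dvd (QuotientGroup.mk' (center G)) g)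
        (Nat.Coprime.coprime_dvd_right (orderOf_map_dvd (QuotientGroup.mk' (center G)) x) hcop))
    rw [← QuotientGroup.mk_mul, ← QuotientGroup.mk_mul, QuotientGroup.eq] at h1
    set z := (g * x)⁻¹ * (x * g) with hz
    have hzc : ∀ w : G, w * z = z * w := fun w => (mem_center_iff.1 h1 w)
    have hxg : x * g = g * x * z := by rw [hz]; group
    have key1 : ∀ k : ℕ, x * g ^ k = g ^ k * x * z ^ k := by
      intro k
      induction k with
      | zero => simp
      | succ k ihk =>
        calc x * g ^ (k + 1) = (x * g ^ k) * g := by rw [pow_succ, mul_assoc]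
          _ = g ^ k * x * (z ^ k * g) := by rw [ihk]; group
          _ = g ^ k * x * (g * z ^ k) := by
              rw [((Commute.pow_right (hzc g) k).eq : g * z ^ k = z ^ k * g)]
          _ = g ^ k * (x * g) * z ^ k := by group
          _ = g ^ (k + 1) * x * z ^ (k + 1) := by
              rw [hxg, pow_succ, pow_succ]
              have := (Commute.pow_right (hzc z) k).eq
              calc g ^ k * (g * x * z) * z ^ k = g ^ k * g * x * (z * z ^ k) := by group
                _ = g ^ k * g * x * (z ^ k * z) := by rw [this]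
    have key2 : ∀ k : ℕ, x ^ k * g = g * x ^ k * z ^ k := by
      intro k
      induction k with
      | zero => simp
      | succ k ihk =>
        calc x ^ (k + 1) * g = x * (x ^ k * g) := by rw [pow_succ', mul_assoc]
          _ = (x * g) * x ^ k * z ^ k := by rw [ihk]; group
          _ = g * x * (z * x ^ k) * z ^ k := by rw [hxg]; group
          _ = g * x * (x ^ k * z) * z ^ k := by rw [hzc (x ^ k)]
          _ = g * x ^ (k + 1) * z ^ (k + 1) := by
              rw [pow_succ', pow_succ']; group
    have hz1 : z ^ orderOf g = 1 := by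
      have := key1 (orderOf g)
      rw [pow_orderOf_eq_one, mul_one, one_mul] at this
      have h2 : x * z ^ orderOf g = x * 1 := by rw [mul_one]; exact this.symm
      exact mul_left_cancel h2
    have hz2 : z ^ orderOf x = 1 := by
      have := key2 (orderOf x)
      rw [pow_orderOf_eq_one, mul_one, one_mul] at this
      have h2 : g * z ^ orderOf x = g * 1 := by rw [mul_one]; exact this.symm
      exact mul_left_cancel h2
    have hz0 : z = 1 := by
      rw [← orderOf_eq_one_iff]
      exact Nat.eq_one_of_dvd_coprimes hcop (orderOf_dvd_of_pow_eq_one hz1)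
        (orderOf_dvd_of_pow_eq_one hz2)
    rw [hxg, hz0, mul_one]

/-- A finite nilpotent group is `q`-nilpotent. -/
theorem pn_of_isNilpotent {G : Type*} [Group G] [Group.IsNilpotent G] [Finite G] (q : ℕ)
    [Fact q.Prime] : PN q (⊤ : Subgroup G) := by
  rw [Cfsg.Agent.Lib.lead.PN_top_iff]
  apply FrobCond.hasNormalPComplement
  intro Q hQ g _ hcop
  rw [mem_centralizer_iff]
  intro x hx
  obtain ⟨k, hk⟩ := hQ ⟨x, hx⟩
  have hk' : x ^ (q ^ k) = 1 := by
    have := congrArg Subtype.val hk
    rwa [Subgroup.coe_pow, Subgroup.coe_one] at this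
  have h1 : (orderOf g).Coprime (orderOf x) :=
    Nat.Coprime.coprime_dvd_right (orderOf_dvd_of_pow_eq_one hk') (Nat.Coprime.pow_right k hcop)
  exact (commute_of_coprime_of_isNilpotent g x h1).symm

theorem isNilpotent_of_injective_hom {A B : Type*} [Group A] [Group B] [Group.IsNilpotent B]
    (f : A →* B) (hf : Function.Injective f) : Group.IsNilpotent A :=
  Group.nilpotent_of_mulEquiv (MonoidHom.ofInjective hf).symm

/-- If `y ∉ H` and `y ^ p = 1` with `p` prime, then `⟨y⟩ ∩ H = 1`. -/
theorem eq_one_of_mem_zpowers_of_mem {X : Type*} [Group X] (H : Subgroup X) {y : X} {p : ℕ}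
    (hp : p.Prime) (hy : y ∉ H) (hyp : y ^ p = 1) {w : X} (hw : w ∈ zpowers y) (hwH : w ∈ H) :
    w = 1 := by
  haveI : Fact p.Prime := ⟨hp⟩
  have hy1 : y ≠ 1 := fun h => hy (h ▸ H.one_mem)
  have ho : orderOf y = p := orderOf_eq_prime hyp hy1
  obtain ⟨k, rfl⟩ := mem_zpowers_iff.1 hw
  have h1 : y ^ k = y ^ (k % (p : ℤ)) := by rw [← ho]; exact (zpow_mod_orderOf y k).symm
  have hpos : (0 : ℤ) ≤ k % (p : ℤ) := Int.emod_nonneg _ (by exact_mod_cast hp.ne_zero)
  have hlt : k % (p : ℤ) < p := Int.emod_lt_of_pos _ (by exact_mod_cast hp.pos)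
  obtain ⟨n, hn⟩ := Int.eq_ofNat_of_zero_le hpos
  rw [hn, zpow_natCast] at h1
  rw [hn] at hlt
  have hnp : n < p := by exact_mod_cast hlt
  rcases Nat.eq_zero_or_pos n with h0 | h0
  · rw [h1, h0, pow_zero]
  · exact absurd (h1 ▸ hwH) (pow_not_mem_of_prime H hp hyp hy h0 hnp)

/-- `(A ⊔ ⟨y⟩) ∩ H = A` when `A ≤ H`, `y` normalizes `A`, `y ∉ H`, `y ^ p = 1`. -/
theorem inf_sup_zpowers_le {X : Type*} [Group X] (H A : Subgroup X) {y : X} {p : ℕ}
    (hp : p.Prime) (hAH : A ≤ H) (hy : y ∉ H) (hyp : y ^ p = 1)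
    (hyA : y ∈ normalizer (A : Set X)) : H ⊓ (A ⊔ zpowers y) ≤ A := by
  intro g hg
  have hg2 : g ∈ (↑(A ⊔ zpowers y) : Set X) := hg.2
  rw [Subgroup.coe_mul_of_right_le_normalizer_left A (zpowers y) (zpowers_le.2 hyA)] at hg2
  obtain ⟨a, ha, w, hw, rfl⟩ := Set.mem_mul.1 hg2
  have hwH : w ∈ H := by
    have := H.mul_mem (H.inv_mem (hAH ha)) hg.1
    rwa [inv_mul_cancel_left] at this
  rw [eq_one_of_mem_zpowers_of_mem H hp hy hyp hw hwH, mul_one]
  exact ha

theorem card_mul_relIndex_eq {G : Type*} [Group G] (H K : Subgroup G) (h : H ≤ K) :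
    Nat.card H * H.relIndex K = Nat.card K := by
  have := Subgroup.relIndex_mul_relIndex (⊥ : Subgroup G) H K bot_le h
  rwa [Subgroup.relIndex_bot_left, Subgroup.relIndex_bot_left] at this

/-- The basic centralizing lemma: a subgroup `A ≤ H` normalized by some `y ∉ H` centralizes every
solvable normal subgroup `U ≤ H` of order prime to `|A|`. -/
theorem commute_of_outer {Γ : Type*} [Group Γ] [Finite Γ] {p : ℕ} (hp : p.Prime) (H : Subgroup Γ)
    [hHn : H.Normal] (hidx : H.index = p) (hout : ∀ g : Γ, g ∉ H → g ^ p = 1)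
    (A : Subgroup Γ) (hAH : A ≤ H) (y : Γ) (hy : y ∉ H) (hyA : y ∈ normalizer (A : Set Γ))
    (U : Subgroup Γ) [hUn : U.Normal] (hUH : U ≤ H) (hsol : Group.IsSolvable U)
    (hcop : (Nat.card A).Coprime (Nat.card U)) : ∀ b ∈ A, ∀ u ∈ U, b * u = u * b := by
  set T : Subgroup Γ := A ⊔ zpowers y with hT
  have hyT : y ∈ T := (le_sup_right : zpowers y ≤ T) (mem_zpowers y)
  have hTH : H ⊓ T = A :=
    le_antisymm (inf_sup_zpowers_le H A hp hAH hy (hout y hy) hyA) (le_inf hAH le_sup_left)
  have hrel : H.relIndex T = p := by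
    have hd : H.relIndex T ∣ p := hidx ▸ Subgroup.relIndex_dvd_index_of_normal H T
    rcases (Nat.dvd_prime hp).1 hd with h | h
    · exact absurd (Subgroup.relIndex_eq_one.1 h hyT) hy
    · exact h
  have hcardT : Nat.card T = Nat.card A * p := by
    have := card_mul_relIndex_eq (H ⊓ T) T inf_le_right
    rw [Subgroup.inf_relIndex_right, hrel, hTH] at this
    exact this.symm
  set S : Set Γ := {t | t ∈ T ∧ t ∉ H} with hS
  have hScard : S.ncard = (p - 1) * Nat.card A := by
    have h1 : S = (T : Set Γ) \ (A : Set Γ) := by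
      ext t
      simp only [hS, Set.mem_ofPred_eq, Set.mem_sdiff, SetLike.mem_coe]
      constructor
      · rintro ⟨h1, h2⟩; exact ⟨h1, fun h => h2 (hAH h)⟩
      · rintro ⟨h1, h2⟩; exact ⟨h1, fun h => h2 (hTH ▸ (⟨h, h1⟩ : t ∈ H ⊓ T))⟩
    have h2 : (A : Set Γ) ⊆ (T : Set Γ) := (le_sup_left : A ≤ T)
    rw [h1, Set.ncard_sdiff h2]
    have h3 : (T : Set Γ).ncard = Nat.card T := (Nat.card_coe_set_eq _).symm
    have h4 : (A : Set Γ).ncard = Nat.card A := (Nat.card_coe_set_eq _).symm
    rw [h3, h4, hcardT, Nat.sub_one_mul, mul_comm]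
  refine commute_of_splitting hp A S ?_ ?_ ?_ ?_ (Nat.card A) hScard ?_ (Nat.card U) U hUn rfl
    hsol hcop ?_
  · intro t ht; exact hout t ht.2
  · intro h; exact h.2 H.one_mem
  · intro t ht k hk0 hkp
    exact ⟨T.pow_mem ht.1 k, pow_not_mem_of_prime H hp (hout t ht.2) ht.2 hk0 hkp⟩
  · intro b hb t ht
    refine ⟨T.mul_mem ((le_sup_left : A ≤ T) hb) ht.1, fun h => ht.2 ?_⟩
    have := H.mul_mem (H.inv_mem (hAH hb)) h
    rwa [inv_mul_cancel_left] at this
  · intro b hb
    have h4 : (⟨b, hb⟩ : A) ^ Nat.card A = 1 := pow_card_eq_one'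
    have h5 := congrArg Subtype.val h4
    rw [Subgroup.coe_pow, Subgroup.coe_one] at h5
    exact h5
  · intro t ht u hu
    apply hout
    intro h
    apply ht.2
    have := H.mul_mem (H.inv_mem (hUH hu)) h
    rwa [inv_mul_cancel_left] at this

/-- Frattini argument: a Sylow subgroup of `H` is normalized by an element outside `H`. -/
theorem exists_normalizer_not_mem_of_sylow {Γ : Type*} [Group Γ] [Finite Γ] (H : Subgroup Γ)
    [H.Normal] (hH : H ≠ ⊤) {s : ℕ} [Fact s.Prime] (S₀ : Sylow s H) :
    ∃ y, y ∈ normalizer (((S₀ : Subgroup H).map H.subtype : Subgroup Γ) : Set Γ) ∧ y ∉ H := by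
  by_contra hcon
  have h1 : normalizer (((S₀ : Subgroup H).map H.subtype : Subgroup Γ) : Set Γ) ≤ H :=
    fun y hy => by_contra fun h => hcon ⟨y, hy, h⟩
  have h2 := Sylow.normalizer_sup_eq_top S₀
  rw [sup_eq_right.2 h1] at h2
  exact hH h2

/-- A subgroup containing `H` (of prime index) and an element outside `H` is everything. -/
theorem eq_top_of_le_of_not_mem {Γ : Type*} [Group Γ] {p : ℕ} (hp : p.Prime) (H N : Subgroup Γ)
    (hidx : H.index = p) (hHN : H ≤ N) {y : Γ} (hyN : y ∈ N) (hy : y ∉ H) : N = ⊤ := by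
  have h1 := Subgroup.relIndex_mul_index hHN
  rw [hidx] at h1
  have hd : H.relIndex N ∣ p := Dvd.intro _ h1
  rcases (Nat.dvd_prime hp).1 hd with h | h
  · exact absurd (Subgroup.relIndex_eq_one.1 h hyN) hy
  · rw [h] at h1
    have h2 : N.index = 1 := by
      have : p * N.index = p * 1 := by rw [h1, mul_one]
      exact Nat.eq_of_mul_eq_mul_left hp.pos this
    exact Subgroup.index_eq_one.1 h2

theorem map_conj_eq_of_mem_normalizer {Γ : Type*} [Group Γ] (K : Subgroup Γ) {y : Γ}
    (hy : y ∈ normalizer (K : Set Γ)) : K.map (MulAut.conj y).toMonoidHom = K := by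
  ext x
  simp only [Subgroup.mem_map, MulEquiv.coe_toMonoidHom, MulAut.conj_apply]
  constructor
  · rintro ⟨k, hk, rfl⟩
    exact (mem_normalizer_iff.1 hy k).1 hk
  · intro hx
    refine ⟨y⁻¹ * x * y, ?_, by group⟩
    have := (mem_normalizer_iff.1 (Subgroup.inv_mem _ hy) x).1 hx
    rwa [inv_inv] at this

theorem mem_normalizer_of_map_conj_eq {Γ : Type*} [Group Γ] (K : Subgroup Γ) {y : Γ}
    (h : K.map (MulAut.conj y).toMonoidHom = K) : y ∈ normalizer (K : Set Γ) := by
  rw [mem_normalizer_iff]
  intro k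
  constructor
  · intro hk
    rw [← h]
    exact ⟨k, hk, rfl⟩
  · intro hk
    rw [← h] at hk
    obtain ⟨k', hk', he⟩ := hk
    simp only [MulEquiv.coe_toMonoidHom, MulAut.conj_apply] at he
    have : k' = k := by
      have := congrArg (fun w => y⁻¹ * w * y) he
      simpa [mul_assoc] using this
    exact this ▸ hk'

/-- `y` normalizing `Q` normalizes `Z(Q) = Q ∩ C(Q)`. -/
theorem mem_normalizer_inf_centralizer {Γ : Type*} [Group Γ] (Q : Subgroup Γ) {y : Γ}
    (hy : y ∈ normalizer (Q : Set Γ)) :
    y ∈ normalizer ((Q ⊓ centralizer (Q : Set Γ) : Subgroup Γ) : Set Γ) := by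
  have key : ∀ g : Γ, g ∈ normalizer (Q : Set Γ) → ∀ z, z ∈ Q ⊓ centralizer (Q : Set Γ) →
      g * z * g⁻¹ ∈ Q ⊓ centralizer (Q : Set Γ) := by
    intro g hg z hz
    refine ⟨(mem_normalizer_iff.1 hg z).1 hz.1, mem_centralizer_iff.2 ?_⟩
    intro x hx
    have hx' : g⁻¹ * x * g ∈ Q := by
      have := (mem_normalizer_iff.1 (Subgroup.inv_mem _ hg) x).1 hx
      rwa [inv_inv] at this
    have h1 := mem_centralizer_iff.1 hz.2 _ hx'
    calc x * (g * z * g⁻¹) = g * ((g⁻¹ * x * g) * z) * g⁻¹ := by group
      _ = g * (z * (g⁻¹ * x * g)) * g⁻¹ := by rw [h1]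
      _ = g * z * g⁻¹ * x := by group
  rw [mem_normalizer_iff]
  intro z
  constructor
  · exact key y hy z
  · intro hz
    have := key y⁻¹ (Subgroup.inv_mem _ hy) _ hz
    have h2 : y⁻¹ * (y * z * y⁻¹) * y⁻¹⁻¹ = z := by group
    rwa [h2] at this

/-- **Hughes–Kegel–Thompson.** If `H` is normal of prime index `p` in the finite group `Γ` and
every element outside `H` has order `p`, then `H` is nilpotent. -/
theorem hughes_kegel_aux (p : ℕ) (hp : p.Prime) : ∀ (n : ℕ) (Γ : Type u) [Group Γ] [Finite Γ]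
    (H : Subgroup Γ), H.Normal → H.index = p → (∀ g : Γ, g ∉ H → g ^ p = 1) → Nat.card H = n →
    Group.IsNilpotent H := by
  intro n
  induction n using Nat.strong_induction_on with
  | _ n ih =>
  intro Γ _ _ H hHn hidx hout hcard
  haveI := hHn
  have hHtop : H ≠ ⊤ := by
    intro h
    rw [h, Subgroup.index_top] at hidx
    exact hp.one_lt.ne hidx
  -- sub-pairs
  have sub_nil : ∀ Γ₁ : Subgroup Γ, ¬ Γ₁ ≤ H → ¬ H ≤ Γ₁ →
      Group.IsNilpotent (H.subgroupOf Γ₁) := by
    intro Γ₁ h1 h2
    refine ih (Nat.card (H.subgroupOf Γ₁)) ?_ Γ₁ (H.subgroupOf Γ₁) inferInstance ?_ ?_ rfl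
    · rw [← hcard]
      have h3 : Nat.card (H.subgroupOf Γ₁) = Nat.card (H ⊓ Γ₁ : Subgroup Γ) := by
        rw [← Subgroup.subgroupOf_map_subtype]
        exact (Subgroup.card_map_of_injective Γ₁.subtype_injective).symm
      rw [h3]
      by_contra hc
      have := Subgroup.eq_of_le_of_card_ge (inf_le_left : H ⊓ Γ₁ ≤ H) (not_lt.1 hc)
      exact h2 (inf_eq_left.1 this)
    · have hd : H.relIndex Γ₁ ∣ p := hidx ▸ Subgroup.relIndex_dvd_index_of_normal H Γ₁
      rcases (Nat.dvd_prime hp).1 hd with h | h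
      · exact absurd (Subgroup.relIndex_eq_one.1 h) h1
      · exact h
    · intro g hg
      have h3 : (g : Γ) ∉ H := hg
      have h4 := hout g h3
      apply Subtype.ext
      rw [Subgroup.coe_pow, h4, Subgroup.coe_one]
  -- quotient pairs
  have quot_nil : ∀ (R : Subgroup Γ) [R.Normal], R ≤ H → R ≠ ⊥ →
      Group.IsNilpotent (H.map (QuotientGroup.mk' R)) := by
    intro R hRn hRH hRne
    have hidx' : (H.map (QuotientGroup.mk' R)).index = p := by
      rw [Subgroup.index_map_eq H (QuotientGroup.mk'_surjective R)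
        (by rw [QuotientGroup.ker_mk']; exact hRH)]
      exact hidx
    refine ih (Nat.card (H.map (QuotientGroup.mk' R))) ?_ (Γ ⧸ R) (H.map (QuotientGroup.mk' R))
      (Subgroup.Normal.map hHn _ (QuotientGroup.mk'_surjective R)) hidx' ?_ rfl
    · rw [← hcard]
      have h1 : H.index * Nat.card H = Nat.card Γ := Subgroup.index_mul_card H
      have h2 : (H.map (QuotientGroup.mk' R)).index * Nat.card (H.map (QuotientGroup.mk' R))
          = Nat.card (Γ ⧸ R) := Subgroup.index_mul_card _
      have h3 : Nat.card Γ = Nat.card (Γ ⧸ R) * Nat.card R :=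
        Subgroup.card_eq_card_quotient_mul_card_subgroup R
      rw [hidx] at h1
      rw [hidx'] at h2
      have h4 : Nat.card H = Nat.card (H.map (QuotientGroup.mk' R)) * Nat.card R := by
        have : p * Nat.card H = p * (Nat.card (H.map (QuotientGroup.mk' R)) * Nat.card R) := by
          rw [h1, h3, ← h2, mul_assoc]
        exact Nat.eq_of_mul_eq_mul_left hp.pos this
      rw [h4]
      exact lt_mul_of_one_lt_right Nat.card_pos ((Subgroup.one_lt_card_iff_ne_bot R).2 hRne)
    · intro g hg
      obtain ⟨g', rfl⟩ := QuotientGroup.mk'_surjective R g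
      have h1 : g' ∉ H := fun h => hg (Subgroup.mem_map_of_mem _ h)
      rw [← map_pow, hout g' h1, map_one]
  -- invariant proper subgroups
  have inv_nil : ∀ (A : Subgroup Γ) (y : Γ), A ≤ H → A ≠ H → y ∉ H →
      y ∈ normalizer (A : Set Γ) → Group.IsNilpotent A := by
    intro A y hAH hAne hy hyA
    have hinf : H ⊓ (A ⊔ zpowers y) ≤ A := inf_sup_zpowers_le H A hp hAH hy (hout y hy) hyA
    have h1 : ¬ (A ⊔ zpowers y) ≤ H :=
      fun h => hy (h ((le_sup_right : zpowers y ≤ A ⊔ zpowers y) (mem_zpowers y)))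
    have h2 : ¬ H ≤ A ⊔ zpowers y :=
      fun h => hAne (le_antisymm hAH ((le_inf le_rfl h).trans hinf))
    haveI := sub_nil _ h1 h2
    let f : A →* H.subgroupOf (A ⊔ zpowers y) :=
      (Subgroup.inclusion (le_sup_left : A ≤ A ⊔ zpowers y)).codRestrict _
        (fun a => by
          show ((Subgroup.inclusion (le_sup_left : A ≤ A ⊔ zpowers y)) a : Γ) ∈ H
          exact hAH a.2)
    exact isNilpotent_of_injective_hom f
      ((MonoidHom.injective_codRestrict _ _ _).2 (Subgroup.inclusion_injective _))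
  -- the case of a 2-group
  by_cases h2 : ∀ q : ℕ, q.Prime → q ∣ Nat.card H → q = 2
  · have hc : Nat.card H = 2 ^ (Nat.card H).primeFactorsList.length :=
      Nat.eq_prime_pow_of_unique_prime_dvd Nat.card_pos.ne' (fun {d} hd hdvd => h2 d hd hdvd)
    haveI : Fact (Nat.Prime 2) := ⟨Nat.prime_two⟩
    exact (IsPGroup.of_card hc).isNilpotent
  obtain ⟨q, hq, hqH, hq2⟩ : ∃ q : ℕ, q.Prime ∧ q ∣ Nat.card H ∧ q ≠ 2 := by
    by_contra hcon
    exact h2 (fun q hq hqH => by_contra fun h => hcon ⟨q, hq, hqH, h⟩)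
  haveI : Fact q.Prime := ⟨hq⟩
  obtain ⟨Q₀⟩ : Nonempty (Sylow q H) := inferInstance
  set Q : Subgroup Γ := (Q₀ : Subgroup H).map H.subtype with hQdef
  have hQH : Q ≤ H := Subgroup.map_subtype_le _
  have hQp : IsPGroup q Q := Q₀.isPGroup'.map H.subtype
  have hrelmap : ∀ (s : ℕ) [Fact s.Prime] (S₀ : Sylow s H),
      ¬ s ∣ ((S₀ : Subgroup H).map H.subtype).relIndex H := by
    intro s _ S₀
    have h1 : ((S₀ : Subgroup H).map H.subtype).relIndex H = (S₀ : Subgroup H).index := by
      rw [Subgroup.relIndex, Subgroup.subgroupOf,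
        Subgroup.comap_map_eq_self_of_injective H.subtype_injective]
    rw [h1]
    exact S₀.not_dvd_index
  have hQrel : ¬ q ∣ Q.relIndex H := hrelmap q Q₀
  have hQne : Q ≠ ⊥ := by
    rw [hQdef, Ne, Subgroup.map_eq_bot_iff_of_injective _ H.subtype_injective]
    exact Q₀.ne_bot_of_dvd_card hqH
  obtain ⟨y, hyQ, hyH⟩ := exists_normalizer_not_mem_of_sylow H hHtop Q₀
  -- first main step: `H` is `q`-nilpotent, or nilpotent outright
  have hPN : PN q H ∨ Group.IsNilpotent H := by
    by_cases hR : ∃ R : Subgroup Γ, R.Normal ∧ R ≤ H ∧ IsPGroup q R ∧ R ≠ ⊥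
    · obtain ⟨R, hRn, hRH, hRq, hRne⟩ := hR
      haveI := hRn
      by_cases hcen : H ≤ centralizer (R : Set Γ)
      · right
        haveI := quot_nil R hRH hRne
        apply Subgroup.isNilpotent_of_ker_le_center ((QuotientGroup.mk' R).subgroupMap H)
        intro x hx
        rw [MonoidHom.mem_ker] at hx
        have hx' : (x : Γ) ∈ R := by
          have h1 := congrArg Subtype.val hx
          rw [MonoidHom.subgroupMap_apply_coe, Subgroup.coe_one] at h1
          exact (QuotientGroup.eq_one_iff _).1 h1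
        rw [Subgroup.mem_center_iff]
        intro g
        apply Subtype.ext
        rw [Subgroup.coe_mul, Subgroup.coe_mul]
        exact (mem_centralizer_iff.1 (hcen g.2) _ hx').symm
      · left
        set C : Subgroup Γ := H ⊓ centralizer (R : Set Γ) with hCdef
        have hCH : C ≤ H := inf_le_left
        have hCne : C ≠ H := fun h => hcen (inf_eq_left.1 h)
        haveI hCn : C.Normal := inferInstance
        haveI hCnil : Group.IsNilpotent C := inv_nil C y hCH hCne hyH
          (by rw [Subgroup.normalizer_eq_top]; exact mem_top y)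
        have hRsol : Group.IsSolvable R := by
          haveI := hRq.isNilpotent
          infer_instance
        have key : ∀ h ∈ H, (orderOf h).Coprime q → h ∈ C := by
          intro h hh hcop
          have hcop2 : (C.relIndex H).Coprime (orderOf h) := by
            apply Nat.Coprime.symm
            apply Nat.coprime_of_dvd
            intro s hs hsdvd hsrel
            have hsq : s ≠ q := by
              rintro rfl
              exact (Nat.Prime.coprime_iff_not_dvd hs).1 hcop.symm hsdvd
            haveI : Fact s.Prime := ⟨hs⟩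
            obtain ⟨S₀⟩ : Nonempty (Sylow s H) := inferInstance
            obtain ⟨yS, hySn, hySH⟩ := exists_normalizer_not_mem_of_sylow H hHtop S₀
            have hS'H : (S₀ : Subgroup H).map H.subtype ≤ H := Subgroup.map_subtype_le _
            have hS'p : IsPGroup s ((S₀ : Subgroup H).map H.subtype) := S₀.isPGroup'.map H.subtype
            have hcopSR : (Nat.card ((S₀ : Subgroup H).map H.subtype)).Coprime (Nat.card R) := by
              obtain ⟨a, ha⟩ := IsPGroup.iff_card.1 hS'p
              obtain ⟨b, hb⟩ := IsPGroup.iff_card.1 hRq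
              rw [ha, hb]
              exact Nat.Coprime.pow _ _ ((Nat.coprime_primes hs hq).2 hsq)
            have hcomm := commute_of_outer hp H hidx hout _ hS'H yS hySH hySn R hRH hRsol hcopSR
            have hS'C : (S₀ : Subgroup H).map H.subtype ≤ C := by
              refine le_inf hS'H ?_
              intro b hb
              rw [mem_centralizer_iff]
              intro u hu
              exact (hcomm b hb u hu).symm
            exact hrelmap s S₀ (hsrel.trans (Subgroup.relIndex_dvd_of_le_left H hS'C))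
          haveI : (C.subgroupOf H).Normal := inferInstance
          have h1 : (⟨h, hh⟩ : H) ^ (C.subgroupOf H).index ∈ C.subgroupOf H :=
            Subgroup.pow_index_mem _ _
          have h1' : h ^ C.relIndex H ∈ C := h1
          obtain ⟨e, he⟩ := exists_pow_eq_self_of_coprime hcop2
          rw [← he]
          exact C.pow_mem h1' e
        have hPNC : PN q C := (Cfsg.Agent.Lib.lead.PN_top_subtype C).1 (pn_of_isNilpotent q)
        intro x hx x' hx' hox hox'
        exact hPNC x (key x hx hox) x' (key x' hx' hox') hox hox'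
    · left
      have hJne := Cfsg.Agent.Lib.lead.thompsonSubgroupOf_ne_bot Q hQp hQne
      have hZne := Cfsg.Agent.Lib.lead.inf_centralizer_ne_bot Q hQp hQne
      have hJQ : thompsonSubgroupOf q Q ≤ Q := Cfsg.Agent.Lib.helper13.thompsonSubgroupOf_le_self Q
      have hyJ : y ∈ normalizer (thompsonSubgroupOf q Q : Set Γ) := by
        apply mem_normalizer_of_map_conj_eq
        rw [← Cfsg.Agent.Lib.helper13.thompsonSubgroupOf_map_of_injOn (p := q)
          (MulAut.conj y).toMonoidHom Q ((MulAut.conj y).injective.injOn),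
          map_conj_eq_of_mem_normalizer Q hyQ]
      have hyZ := mem_normalizer_inf_centralizer Q hyQ
      have hsubPN : ∀ W : Subgroup Γ, W ≤ Q → W ≠ ⊥ → y ∈ normalizer (W : Set Γ) →
          PN q (normalizer (W : Set Γ) ⊓ H) := by
        intro W hWQ hWne hyW
        have h1 : ¬ normalizer (W : Set Γ) ≤ H := fun h => hyH (h hyW)
        have h2 : ¬ H ≤ normalizer (W : Set Γ) := by
          intro h
          apply hR
          refine ⟨W, ?_, hWQ.trans hQH, hQp.to_le hWQ, hWne⟩
          exact Subgroup.normalizer_eq_top_iff.1 (eq_top_of_le_of_not_mem hp H _ hidx h hyW hyH)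
        haveI := sub_nil _ h1 h2
        have h3 := pn_of_isNilpotent (G := H.subgroupOf (normalizer (W : Set Γ))) q
        have h4 := (Cfsg.Agent.Lib.lead.PN_top_subtype _).1 h3
        have h5 := (Cfsg.Agent.Lib.lead.PN_subgroupOf H (normalizer (W : Set Γ))).1 h4
        rwa [inf_comm] at h5
      have hJ := hsubPN _ hJQ hJne hyJ
      have hZ : PN q (centralizer ((Q ⊓ centralizer (Q : Set Γ) : Subgroup Γ) : Set Γ) ⊓ H) :=
        (hsubPN _ inf_le_left hZne hyZ).mono
          (inf_le_inf_right H (Subgroup.centralizer_le_normalizer _))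
      exact Cfsg.Agent.Lib.lead.thmAt_subgroup H
        (Cfsg.Agent.Lib.lead.thmAt_all q hq2 _ H rfl) Q hQH hQp hQrel hJ hZ
  rcases hPN with hPN | hnil
  swap
  · exact hnil
  -- second main step: the `q'`-elements of `H` form a nilpotent normal subgroup centralized by `Q`
  let K : Subgroup Γ :=
    { carrier := {h | h ∈ H ∧ (orderOf h).Coprime q}
      mul_mem' := fun {a b} ha hb => ⟨H.mul_mem ha.1 hb.1, hPN a ha.1 b hb.1 ha.2 hb.2⟩
      one_mem' := ⟨H.one_mem, by rw [orderOf_one]; exact Nat.coprime_one_left q⟩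
      inv_mem' := fun {a} ha => ⟨H.inv_mem ha.1, by rw [orderOf_inv]; exact ha.2⟩ }
  have hKmem : ∀ x : Γ, x ∈ K ↔ x ∈ H ∧ (orderOf x).Coprime q := fun x => Iff.rfl
  have hKH : K ≤ H := fun x hx => hx.1
  haveI hKn : K.Normal := ⟨fun x hx g => ⟨hHn.conj_mem x hx.1 g, by
    have : orderOf (g * x * g⁻¹) = orderOf x := by
      rw [← MulAut.conj_apply, MulEquiv.orderOf_eq]
    rw [this]; exact hx.2⟩⟩
  have hKne : K ≠ H := by
    obtain ⟨x, hx⟩ := exists_prime_orderOf_dvd_card' (G := H) q hqH
    intro h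
    have h1 : (x : Γ) ∈ K := by rw [h]; exact x.2
    have h2 := h1.2
    rw [Subgroup.orderOf_coe, hx, Nat.coprime_self] at h2
    exact hq.one_lt.ne' h2
  haveI hKnil : Group.IsNilpotent K := inv_nil K y hKH hKne hyH
    (by rw [Subgroup.normalizer_eq_top]; exact mem_top y)
  have hKq : (Nat.card K).Coprime q := by
    rw [Nat.coprime_comm, Nat.Prime.coprime_iff_not_dvd hq]
    intro hdvd
    obtain ⟨x, hx⟩ := exists_prime_orderOf_dvd_card' (G := K) q hdvd
    have h2 := x.2.2
    rw [Subgroup.orderOf_coe, hx, Nat.coprime_self] at h2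
    exact hq.one_lt.ne' h2
  have hcop : (Nat.card Q).Coprime (Nat.card K) := by
    obtain ⟨k, hk⟩ := IsPGroup.iff_card.1 hQp
    rw [hk]
    exact Nat.Coprime.pow_left k hKq.symm
  have hcomm := commute_of_outer hp H hidx hout Q hQH y hyH hyQ K hKH inferInstance hcop
  have hsup : Q ⊔ K = H := by
    apply Subgroup.eq_of_le_of_card_ge (sup_le hQH hKH)
    apply Nat.le_of_dvd Nat.card_pos
    rw [← Nat.factorization_le_iff_dvd Nat.card_pos.ne' Nat.card_pos.ne']
    intro s
    by_cases hsq : s = q
    · rw [hsq, ← Nat.Prime.pow_dvd_iff_le_factorization hq Nat.card_pos.ne']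
      have h1 : Nat.card Q = q ^ (Nat.card H).factorization q := by
        rw [hQdef, Subgroup.card_map_of_injective H.subtype_injective]
        exact Q₀.card_eq_multiplicity
      rw [← h1]
      exact Subgroup.card_dvd_of_le le_sup_left
    by_cases hs : s.Prime
    · haveI : Fact s.Prime := ⟨hs⟩
      rw [← Nat.Prime.pow_dvd_iff_le_factorization hs Nat.card_pos.ne']
      obtain ⟨S₀⟩ : Nonempty (Sylow s H) := inferInstance
      have h1 : Nat.card ((S₀ : Subgroup H).map H.subtype) = s ^ (Nat.card H).factorization s := by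
        rw [Subgroup.card_map_of_injective H.subtype_injective]
        exact S₀.card_eq_multiplicity
      rw [← h1]
      apply Subgroup.card_dvd_of_le
      refine le_trans ?_ (le_sup_right : K ≤ Q ⊔ K)
      rintro _ ⟨x, hx, rfl⟩
      refine ⟨x.2, ?_⟩
      obtain ⟨k, hk⟩ := S₀.isPGroup' ⟨x, hx⟩
      have hk' : x ^ (s ^ k) = 1 := by
        have := congrArg Subtype.val hk
        exact this
      have h2 : orderOf (H.subtype x) ∣ s ^ k := by
        rw [Subgroup.coe_subtype, Subgroup.orderOf_coe]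
        exact orderOf_dvd_of_pow_eq_one hk'
      exact Nat.Coprime.coprime_dvd_left h2
        (Nat.Coprime.pow_left k ((Nat.coprime_primes hs hq).2 hsq))
    · rw [Nat.factorization_eq_zero_of_not_prime _ hs]
      exact Nat.zero_le _
  haveI : Group.IsNilpotent Q := hQp.isNilpotent
  let μ : Q × K →* H := MonoidHom.noncommCoprod (Subgroup.inclusion hQH) (Subgroup.inclusion hKH)
    (fun a k => Subtype.ext (hcomm a a.2 k k.2))
  apply Group.nilpotent_of_surjective μ
  rintro ⟨h, hh⟩
  have h1 : h ∈ (↑(Q ⊔ K) : Set Γ) := by rw [hsup]; exact hh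
  rw [Subgroup.mul_normal Q K] at h1
  obtain ⟨a, ha, k, hk, rfl⟩ := Set.mem_mul.1 h1
  exact ⟨(⟨a, ha⟩, ⟨k, hk⟩), Subtype.ext rfl⟩

/-- **Hughes–Kegel–Thompson.** If `H` is normal of prime index `p` in the finite group `Γ` and
every element outside `H` has order `p`, then `H` is nilpotent. -/
theorem hughes_kegel {Γ : Type u} [Group Γ] [Finite Γ] {p : ℕ} (hp : p.Prime) (H : Subgroup Γ)
    [hHn : H.Normal] (hidx : H.index = p) (hout : ∀ g : Γ, g ∉ H → g ^ p = 1) :
    Group.IsNilpotent H :=
  hughes_kegel_aux p hp _ Γ H hHn hidx hout rfl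

/-- Powers in the semidirect product `G ⋊ ⟨α⟩`. -/
theorem semidirect_pow_eq {G : Type*} [Group G] (α : MulAut G) (a : G) (k : ℕ) :
    ((⟨a, ⟨α, mem_zpowers α⟩⟩ : G ⋊[(zpowers α).subtype] (zpowers α)) ^ k)
      = ⟨((List.range k).map (fun i : ℕ => (α ^ i) a)).prod, ⟨α, mem_zpowers α⟩ ^ k⟩ := by
  induction k with
  | zero => rfl
  | succ k ih =>
    rw [pow_succ, ih]
    ext
    · rw [SemidirectProduct.mul_left, List.range_succ, List.map_append, List.prod_append]
      simp
    · rw [SemidirectProduct.mul_right, pow_succ]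

/-- **Kegel's theorem**: a finite group with a splitting automorphism of prime order is
nilpotent. -/
theorem isNilpotent_of_splitting_automorphism {G : Type u} [Group G] [Finite G] (α : MulAut G)
    (hp : (orderOf α).Prime)
    (hsplit : ∀ x : G, (((List.range (orderOf α)).map (fun i : ℕ => (α ^ i) x)).prod = 1)) :
    Group.IsNilpotent G := by
  set p := orderOf α with hpdef
  haveI : Fact p.Prime := ⟨hp⟩
  let Γ := G ⋊[(zpowers α).subtype] (zpowers α)
  haveI : Finite Γ := Finite.of_equiv _ SemidirectProduct.equivProd.symm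
  have hZcard : Nat.card (zpowers α) = p := Nat.card_zpowers α
  let H : Subgroup Γ := (SemidirectProduct.rightHom : Γ →* zpowers α).ker
  have hidx : H.index = p := by
    rw [Subgroup.index_ker, MonoidHom.range_eq_top.2 SemidirectProduct.rightHom_surjective,
      Subgroup.card_top, hZcard]
  let α₀ : zpowers α := ⟨α, mem_zpowers α⟩
  have hα₀p : α₀ ^ p = 1 := Subtype.ext (by
    rw [Subgroup.coe_pow, Subgroup.coe_one]; exact pow_orderOf_eq_one α)
  have hgen : ∀ a : G, (⟨a, α₀⟩ : Γ) ^ p = 1 := by
    intro a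
    rw [semidirect_pow_eq, hsplit a, hα₀p]
    rfl
  have hout : ∀ g : Γ, g ∉ H → g ^ p = 1 := by
    intro g hg
    have hβ : g.right ≠ 1 := fun h => hg (MonoidHom.mem_ker.2 h)
    have hβp : g.right ^ p = 1 := by
      rw [← hZcard]; exact pow_card_eq_one'
    have h1 : α₀ ∈ zpowers g.right := by
      rw [zpowers_eq_top_of_prime_card hZcard hβ]; exact mem_top _
    rw [← mem_powers_iff_mem_zpowers] at h1
    obtain ⟨j, hj⟩ := (Submonoid.mem_powers_iff _ _).1 h1
    have hpj : ¬ p ∣ j := by
      rintro ⟨c, rfl⟩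
      rw [pow_mul, hβp, one_pow] at hj
      have h2 : (α₀ : MulAut G) = 1 := by rw [← hj]; rfl
      have h3 : orderOf α = 1 := orderOf_eq_one_iff.2 h2
      exact hp.one_lt.ne' h3
    have e1 : (g ^ j) ^ p = 1 := by
      have h2 : g ^ j = ⟨(g ^ j).left, α₀⟩ := by
        refine SemidirectProduct.ext rfl ?_
        show (SemidirectProduct.rightHom : Γ →* zpowers α) (g ^ j) = α₀
        rw [map_pow]; exact hj
      rw [h2]; exact hgen _
    have e2 : (g ^ (j + p)) ^ p = 1 := by
      have h2 : g ^ (j + p) = ⟨(g ^ (j + p)).left, α₀⟩ := by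
        refine SemidirectProduct.ext rfl ?_
        show (SemidirectProduct.rightHom : Γ →* zpowers α) (g ^ (j + p)) = α₀
        rw [map_pow, pow_add]
        show g.right ^ j * g.right ^ p = α₀
        rw [hβp, mul_one]; exact hj
      rw [h2]; exact hgen _
    have e3 : (g ^ p) ^ j = 1 := by rw [← pow_mul, mul_comm, pow_mul]; exact e1
    have e4 : (g ^ p) ^ (j + p) = 1 := by rw [← pow_mul, mul_comm, pow_mul]; exact e2
    have e5 : (g ^ p) ^ p = 1 := by
      rw [pow_add, e3, one_mul] at e4; exact e4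
    rcases (Nat.dvd_prime hp).1 (orderOf_dvd_of_pow_eq_one e5) with h | h
    · exact orderOf_eq_one_iff.1 h
    · exact absurd (h ▸ orderOf_dvd_of_pow_eq_one e3) hpj
  haveI := hughes_kegel hp H hidx hout
  exact isNilpotent_of_injective_hom
    ((SemidirectProduct.inl : G →* Γ).codRestrict H (fun a => by
      show (SemidirectProduct.rightHom : Γ →* zpowers α) (SemidirectProduct.inl a) = 1
      exact SemidirectProduct.rightHom_inl a))
    ((MonoidHom.injective_codRestrict _ _ _).2 SemidirectProduct.inl_injective)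

end Cfsg.Agent.Lib.helper67
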