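import Mathlib
import Cfsg.Agent.Lib.helper11.SmallSimple
import Cfsg.Agent.Lib.helper21.PrimeOrderCount
import Cfsg.Agent.Lib.helper21.SimpleIndex
import Cfsg.Agent.Lib.helper21.AutCard

/-!
# There is no simple group of order 756

Elementary counting proof: `n_7 = 36` (216 elements of order 7), `n_3 = 28`, two distinct Sylow
`3`-subgroups meet in a subgroup of order at most `3`, and if `D = P ∩ Q` has order `3` then
`|N(D)| = |C(D)| = 36`; so an element of order `3` in two Sylow `3`-subgroups lies in at most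
four of them and commutes with a subgroup of order `4`. Counting the elements of order `7`, the
nonidentity `3`-elements and the elements `x v` (`x` in two Sylow `3`-subgroups, `v ≠ 1` in a
subgroup of order `4` of `C(x)`) gives `1 + 216 + 728 > 756`.
-/

set_option autoImplicit false

namespace Cfsg.Agent.Lib.helper67.Ord756

open Subgroup Cfsg.Agent.Lib

variable {G : Type*} [Group G] [Finite G]

theorem pow_card_of_mem' (H : Subgroup G) {x : G} (hx : x ∈ H) : x ^ Nat.card H = 1 := by
  have h := pow_card_eq_one' (G := H) (x := ⟨x, hx⟩)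
  have h2 := congrArg (Subtype.val) h
  rw [Subgroup.coe_pow] at h2
  exact h2

theorem factorization_eq {p n k : ℕ} (hp : p.Prime) (hn : n ≠ 0) (h1 : p ^ k ∣ n)
    (h2 : ¬ p ^ (k + 1) ∣ n) : n.factorization p = k := by
  have a := (hp.pow_dvd_iff_le_factorization hn).mp h1
  have b : ¬ (k + 1 ≤ n.factorization p) :=
    fun h => h2 ((hp.pow_dvd_iff_le_factorization hn).mpr h)
  omega

/-- Two distinct subgroups of `M` of order `p ^ k`, the full `p`-part of `|M|`: the number `n`
of Sylow `p`-subgroups of `M` is `≡ 1 mod p`, not `1`, and `n p^k` divides `|M|`. -/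
theorem two_sylow_card {p : ℕ} [hp : Fact p.Prime] (M A B : Subgroup G) (k : ℕ)
    (hA : A ≤ M) (hB : B ≤ M) (hAB : A ≠ B) (hcA : Nat.card A = p ^ k)
    (hcB : Nat.card B = p ^ k) (hM : ¬ p ^ (k + 1) ∣ Nat.card M) :
    ∃ n : ℕ, n % p = 1 ∧ n ≠ 1 ∧ n * p ^ k ∣ Nat.card M := by
  classical
  have hcA' : Nat.card (A.subgroupOf M) = p ^ k := by
    rw [Nat.card_congr (Subgroup.subgroupOfEquivOfLe hA).toEquiv]; exact hcA
  have hcB' : Nat.card (B.subgroupOf M) = p ^ k := by
    rw [Nat.card_congr (Subgroup.subgroupOfEquivOfLe hB).toEquiv]; exact hcB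
  have hfac : (Nat.card M).factorization p = k := by
    apply factorization_eq hp.out Nat.card_pos.ne' _ hM
    rw [← hcA]; exact Subgroup.card_dvd_of_le hA
  let SA : Sylow p M := Sylow.ofCard (A.subgroupOf M) (by rw [hcA', hfac])
  let SB : Sylow p M := Sylow.ofCard (B.subgroupOf M) (by rw [hcB', hfac])
  have hne : SA ≠ SB := by
    intro h
    have h1 : A.subgroupOf M = B.subgroupOf M :=
      congrArg (fun S : Sylow p M => (S : Subgroup M)) h
    rw [Subgroup.subgroupOf_inj, inf_eq_left.mpr hA, inf_eq_left.mpr hB] at h1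
    exact hAB h1
  refine ⟨Nat.card (Sylow p M), ?_, ?_, ?_⟩
  · have := card_sylow_modEq_one p M
    rw [Nat.ModEq, Nat.mod_eq_of_lt hp.out.one_lt] at this
    exact this
  · intro h1
    rw [Nat.card_eq_one_iff_unique] at h1
    exact hne (h1.1.elim SA SB)
  · have h1 : Nat.card (Sylow p M) ∣ (SA : Subgroup M).index := Sylow.card_dvd_index SA
    have h2 : Nat.card (SA : Subgroup M) * (SA : Subgroup M).index = Nat.card M :=
      Subgroup.card_mul_index _
    have h3 : Nat.card (SA : Subgroup M) = p ^ k := hcA'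
    rw [h3] at h2
    rw [← h2, mul_comm]
    exact Nat.mul_dvd_mul_left _ h1

/-- Normalizers grow in `p`-groups. -/
theorem exists_normalizing {p : ℕ} [Fact p.Prime] (P D : Subgroup G) (hP : IsPGroup p P)
    (hDP : D ≤ P) (hne : D ≠ P) : ∃ y, y ∈ P ∧ y ∈ normalizer (D : Set G) ∧ y ∉ D := by
  haveI : Group.IsNilpotent P := hP.isNilpotent
  have hlt : D.subgroupOf P < ⊤ := by
    rw [lt_top_iff_ne_top]
    intro h
    rw [Subgroup.subgroupOf_eq_top] at h
    exact hne (le_antisymm hDP h)
  have h2 := Group.normalizerCondition_of_isNilpotent (G := P) (D.subgroupOf P) hlt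
  obtain ⟨y, hyN, hyD⟩ := SetLike.exists_of_lt h2
  refine ⟨y, y.2, ?_, ?_⟩
  · rw [Subgroup.mem_normalizer_iff] at hyN ⊢
    intro g
    constructor
    · intro hg
      have := (hyN ⟨g, hDP hg⟩).mp (by rw [Subgroup.mem_subgroupOf]; exact hg)
      rw [Subgroup.mem_subgroupOf] at this
      simpa using this
    · intro hg
      have hgP : g ∈ P := by
        have h3 : (y : G) * g * (y : G)⁻¹ ∈ P := hDP hg
        have h4 := P.mul_mem (P.mul_mem (P.inv_mem y.2) h3) y.2
        simpa [mul_assoc] using h4
      have := (hyN ⟨g, hgP⟩).mpr (by rw [Subgroup.mem_subgroupOf]; simpa using hg)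
      rw [Subgroup.mem_subgroupOf] at this
      exact this
  · intro h; exact hyD (by rw [Subgroup.mem_subgroupOf]; exact h)

section Simple

variable [IsSimpleGroup G]

theorem fact3 : Fact (Nat.Prime 3) := ⟨by norm_num⟩
theorem fact7 : Fact (Nat.Prime 7) := ⟨by norm_num⟩

theorem not_cyclic (hcard : Nat.card G = 756) : ¬ IsCyclic G := by
  intro h
  have := helper11.prime_card_of_simple_of_isCyclic h
  rw [hcard] at this
  norm_num at this

theorem index_ge (hcard : Nat.card G = 756) (H : Subgroup G) (hH : H ≠ ⊤) : 8 ≤ H.index := by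
  by_contra hlt
  rw [not_le] at hlt
  have h1 := helper21.card_dvd_factorial_index_of_simple H hH
  rw [hcard] at h1
  have h2 : H.index.factorial ∣ Nat.factorial 7 := Nat.factorial_dvd_factorial (by omega)
  have h3 : 756 ∣ Nat.factorial 7 := h1.trans h2
  revert h3
  decide

theorem card_le (hcard : Nat.card G = 756) (H : Subgroup G) (hH : H ≠ ⊤) : Nat.card H ≤ 94 := by
  have h1 := index_ge hcard H hH
  have h2 := Subgroup.card_mul_index H
  rw [hcard] at h2
  by_contra h3
  rw [not_le] at h3
  nlinarith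

theorem normalizer_ne_top (D : Subgroup G) (h1 : D ≠ ⊥) (h2 : D ≠ ⊤) :
    normalizer (D : Set G) ≠ ⊤ := by
  intro h
  rw [Subgroup.normalizer_eq_top_iff] at h
  rcases h.eq_bot_or_eq_top with h3 | h3
  · exact h1 h3
  · exact h2 h3

theorem card_sylow3 (hcard : Nat.card G = 756) (P : Sylow 3 G) :
    Nat.card (P : Subgroup G) = 27 := by
  haveI := fact3
  have := (helper11.card_sylow_of_card_eq 3 3 28 (by norm_num) (by rw [hcard]; norm_num) P).1
  simpa using this

theorem card_sylow7 (hcard : Nat.card G = 756) (P : Sylow 7 G) :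
    Nat.card (P : Subgroup G) = 7 := by
  haveI := fact7
  have := (helper11.card_sylow_of_card_eq 7 1 108 (by norm_num) (by rw [hcard]; norm_num) P).1
  simpa using this

theorem card_sylow7_eq (hcard : Nat.card G = 756) : Nat.card (Sylow 7 G) = 36 := by
  haveI := fact7
  have P : Sylow 7 G := default
  have h1 := card_sylow_modEq_one 7 G
  have h2 : Nat.card (Sylow 7 G) ∣ 108 := by
    have := Sylow.card_dvd_index P
    rwa [(helper11.card_sylow_of_card_eq 7 1 108 (by norm_num) (by rw [hcard]; norm_num) P).2] at this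
  have h3 := (helper11.sylow_facts (not_cyclic hcard) 7 (by rw [hcard]; norm_num) P).2.2.2.1
  have h4 : Nat.card (Sylow 7 G) ≤ 108 := Nat.le_of_dvd (by norm_num) h2
  rw [Nat.ModEq] at h1
  generalize Nat.card (Sylow 7 G) = n at *
  interval_cases n <;> omega

theorem card_sylow3_eq (hcard : Nat.card G = 756) : Nat.card (Sylow 3 G) = 28 := by
  haveI := fact3
  have P : Sylow 3 G := default
  have h1 := card_sylow_modEq_one 3 G
  have h2 : Nat.card (Sylow 3 G) ∣ 28 := by
    have := Sylow.card_dvd_index P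
    rwa [(helper11.card_sylow_of_card_eq 3 3 28 (by norm_num) (by rw [hcard]; norm_num) P).2] at this
  have hf := helper11.sylow_facts (not_cyclic hcard) 3 (by rw [hcard]; norm_num) P
  have h3 := hf.2.2.2.1
  have h5 := hf.2.2.2.2.1
  rw [hcard] at h5
  have h4 : Nat.card (Sylow 3 G) ≤ 28 := Nat.le_of_dvd (by norm_num) h2
  rw [Nat.ModEq] at h1
  generalize Nat.card (Sylow 3 G) = n at *
  interval_cases n <;> first | rfl | omega | (exfalso; revert h5; decide)

theorem card_normalizer_sylow7 (hcard : Nat.card G = 756) (S : Sylow 7 G) :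
    Nat.card (normalizer ((S : Subgroup G) : Set G)) = 21 := by
  haveI := fact7
  have h1 : Nat.card (Sylow 7 G) = (normalizer ((S : Subgroup G) : Set G)).index :=
    Sylow.card_eq_index_normalizer S
  rw [card_sylow7_eq hcard] at h1
  have h2 := Subgroup.card_mul_index (normalizer ((S : Subgroup G) : Set G))
  rw [← h1, hcard] at h2
  omega

/-- Two Sylow `3`-subgroups meeting in a subgroup of order at least `9` are equal. -/
theorem sylow3_eq_of_inter (hcard : Nat.card G = 756) (P Q : Sylow 3 G)
    (h : 9 ≤ Nat.card ((P : Subgroup G) ⊓ (Q : Subgroup G) : Subgroup G)) : P = Q := by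
  haveI := fact3
  by_contra hPQ
  have hPc := card_sylow3 hcard P
  have hQc := card_sylow3 hcard Q
  have h1 : Nat.card ((P : Subgroup G) ⊓ (Q : Subgroup G) : Subgroup G) ∣ 27 := by
    rw [← hPc]; exact Subgroup.card_dvd_of_le inf_le_left
  have h2 : Nat.card ((P : Subgroup G) ⊓ (Q : Subgroup G) : Subgroup G) ≠ 27 := by
    intro h27
    have h3 : (P : Subgroup G) ⊓ (Q : Subgroup G) = P :=
      Subgroup.eq_of_le_of_card_ge inf_le_left (by rw [h27, hPc])
    have h4 : (P : Subgroup G) ⊓ (Q : Subgroup G) = Q :=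
      Subgroup.eq_of_le_of_card_ge inf_le_right (by rw [h27, hQc])
    exact hPQ (Sylow.ext (h3.symm.trans h4))
  have hD9 : Nat.card ((P : Subgroup G) ⊓ (Q : Subgroup G) : Subgroup G) = 9 := by
    have h5 : Nat.card ((P : Subgroup G) ⊓ (Q : Subgroup G) : Subgroup G) ≤ 27 :=
      Nat.le_of_dvd (by norm_num) h1
    generalize Nat.card ((P : Subgroup G) ⊓ (Q : Subgroup G) : Subgroup G) = d at *
    interval_cases d <;> omega
  set D : Subgroup G := (P : Subgroup G) ⊓ (Q : Subgroup G) with hD
  have hnorm : ∀ R : Sylow 3 G, D ≤ R → (R : Subgroup G) ≤ normalizer (D : Set G) := by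
    intro R hDR
    rw [← Subgroup.normal_subgroupOf_iff_le_normalizer hDR]
    apply Subgroup.normal_of_index_eq_minFac_card
    have h6 := Subgroup.card_mul_index (D.subgroupOf R)
    rw [Nat.card_congr (Subgroup.subgroupOfEquivOfLe hDR).toEquiv, hD9, card_sylow3 hcard R] at h6
    rw [card_sylow3 hcard R]
    have h7 : (D.subgroupOf R).index = 3 := by omega
    rw [h7]
    norm_num
  have hDbot : D ≠ ⊥ := by
    intro hb
    rw [hb, Subgroup.card_bot] at hD9
    omega
  have hDtop : D ≠ ⊤ := by
    intro ht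
    rw [ht, Subgroup.card_top, hcard] at hD9
    omega
  have hNtop := normalizer_ne_top D hDbot hDtop
  have hNle := card_le hcard _ hNtop
  have hNdvd : Nat.card (normalizer (D : Set G)) ∣ 756 := by
    rw [← hcard]; exact Subgroup.card_subgroup_dvd_card _
  obtain ⟨n, hn1, hn2, hn3⟩ := two_sylow_card (p := 3) (normalizer (D : Set G))
    (P : Subgroup G) Q 3
    (hnorm P inf_le_left) (hnorm Q inf_le_right) (fun h => hPQ (Sylow.ext h))
    (by rw [hPc]; norm_num) (by rw [hQc]; norm_num)
    (fun h81 => by have := h81.trans hNdvd; norm_num at this)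
  have h8 : n * 3 ^ 3 ≤ Nat.card (normalizer (D : Set G)) := Nat.le_of_dvd Nat.card_pos hn3
  omega

/-- The structure around an element `x ≠ 1` lying in two distinct Sylow `3`-subgroups. -/
theorem key (hcard : Nat.card G = 756) (P Q : Sylow 3 G) (hPQ : P ≠ Q) (x : G) (hx1 : x ≠ 1)
    (hxP : x ∈ (P : Subgroup G)) (hxQ : x ∈ (Q : Subgroup G)) :
    x ^ 3 = 1 ∧ Nat.card {R : Sylow 3 G // x ∈ (R : Subgroup G)} ≤ 4 ∧
      ∃ V : Subgroup G, Nat.card V = 4 ∧ ∀ v ∈ V, v * x = x * v := by
  classical
  haveI := fact3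
  set D : Subgroup G := (P : Subgroup G) ⊓ (Q : Subgroup G) with hD
  have hxD : x ∈ D := ⟨hxP, hxQ⟩
  have hDcard : Nat.card D = 3 := by
    have h1 : Nat.card D ∣ 27 := by
      rw [← card_sylow3 hcard P]; exact Subgroup.card_dvd_of_le inf_le_left
    have h2 : ¬ 9 ≤ Nat.card D := fun h => hPQ (sylow3_eq_of_inter hcard P Q h)
    have h3 : Nat.card D ≠ 1 := by
      intro h
      have hb := Subgroup.eq_bot_of_card_eq D h
      rw [hb] at hxD
      exact hx1 (Subgroup.mem_bot.mp hxD)
    have h5 : 0 < Nat.card D := Nat.card_pos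
    generalize Nat.card D = d at *
    have h4 : d ≤ 8 := by omega
    interval_cases d <;> omega
  have hx3 : x ^ 3 = 1 := by rw [← hDcard]; exact pow_card_of_mem' D hxD
  have hord : orderOf x = 3 := orderOf_eq_prime hx3 hx1
  have hDz : Subgroup.zpowers x = D := by
    apply Subgroup.eq_of_le_of_card_ge (Subgroup.zpowers_le.mpr hxD)
    rw [hDcard, Nat.card_zpowers, hord]
  set N : Subgroup G := normalizer (D : Set G) with hN
  have hDN : D ≤ N := Subgroup.le_normalizer
  have hDbot : D ≠ ⊥ := by
    intro hb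
    rw [hb, Subgroup.card_bot] at hDcard
    omega
  have hDtop : D ≠ ⊤ := by
    intro ht
    rw [ht, Subgroup.card_top, hcard] at hDcard
    omega
  have hNtop : N ≠ ⊤ := normalizer_ne_top D hDbot hDtop
  have hNle : Nat.card N ≤ 94 := card_le hcard N hNtop
  have hNdvd : Nat.card N ∣ 756 := by rw [← hcard]; exact Subgroup.card_subgroup_dvd_card N
  -- every Sylow `3`-subgroup through `x` meets `N` in a subgroup of order `9` or `27`
  have hR : ∀ R : Sylow 3 G, x ∈ (R : Subgroup G) →
      9 ≤ Nat.card ((R : Subgroup G) ⊓ N : Subgroup G) ∧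
        Nat.card ((R : Subgroup G) ⊓ N : Subgroup G) ∣ 27 := by
    intro R hxR
    have hDR : D ≤ R := by rw [← hDz]; exact Subgroup.zpowers_le.mpr hxR
    have hne : D ≠ R := by
      intro h
      have h' : Nat.card D = Nat.card (R : Subgroup G) :=
        congrArg (fun S : Subgroup G => Nat.card S) h
      rw [hDcard, card_sylow3 hcard R] at h'
      omega
    obtain ⟨y, hyR, hyN, hyD⟩ := exists_normalizing (p := 3) (R : Subgroup G) D R.isPGroup' hDR hne
    have h1 : Nat.card ((R : Subgroup G) ⊓ N : Subgroup G) ∣ 27 := by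
      rw [← card_sylow3 hcard R]; exact Subgroup.card_dvd_of_le inf_le_left
    have h2 : 3 ∣ Nat.card ((R : Subgroup G) ⊓ N : Subgroup G) := by
      have h2' := Subgroup.card_dvd_of_le (le_inf hDR hDN)
      rwa [hDcard] at h2' 
    have h3 : Nat.card ((R : Subgroup G) ⊓ N : Subgroup G) ≠ 3 := by
      intro h
      have h4 : D = (R : Subgroup G) ⊓ N :=
        Subgroup.eq_of_le_of_card_ge (le_inf hDR hDN) (by rw [h, hDcard])
      exact hyD (h4 ▸ ⟨hyR, hyN⟩)
    refine ⟨?_, h1⟩
    have h5 : Nat.card ((R : Subgroup G) ⊓ N : Subgroup G) ≤ 27 := Nat.le_of_dvd (by norm_num) h1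
    generalize Nat.card ((R : Subgroup G) ⊓ N : Subgroup G) = d at *
    interval_cases d <;> omega
  have hTPQ : (P : Subgroup G) ⊓ N ≠ (Q : Subgroup G) ⊓ N := by
    intro h
    have h1 : (P : Subgroup G) ⊓ N ≤ D := le_inf inf_le_left (h ▸ inf_le_left)
    have h2 := Subgroup.card_le_of_le h1
    have h3 := (hR P hxP).1
    omega
  -- `27` does not divide `|N|`
  have h27 : ¬ 27 ∣ Nat.card N := by
    intro h27
    have hle : ∀ R : Sylow 3 G, x ∈ (R : Subgroup G) → (R : Subgroup G) ≤ N := by
      intro R hxR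
      have hp : IsPGroup 3 (((R : Subgroup G) ⊓ N).subgroupOf N) := by
        have h1 : IsPGroup 3 ((R : Subgroup G) ⊓ N : Subgroup G) := R.isPGroup'.to_le inf_le_left
        exact h1.comap_subtype
      obtain ⟨S, hS⟩ := hp.exists_le_sylow
      have hfac : (Nat.card N).factorization 3 = 3 :=
        factorization_eq (by norm_num) Nat.card_pos.ne' (by norm_num; exact h27)
          (fun h81 => by have := h81.trans hNdvd; norm_num at this)
      have hScard : Nat.card (S : Subgroup N) = 27 := by
        rw [Sylow.card_eq_multiplicity, hfac]; norm_num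
      have hSGcard : Nat.card ((S : Subgroup N).map N.subtype) = 27 := by
        rw [Subgroup.card_subtype]; exact hScard
      have hfacG : (Nat.card G).factorization 3 = 3 :=
        factorization_eq (by norm_num) Nat.card_pos.ne' (by rw [hcard]; norm_num)
          (by rw [hcard]; norm_num)
      have hSR : Sylow.ofCard ((S : Subgroup N).map N.subtype)
          (by rw [hSGcard, hfacG]; norm_num) = R := by
        apply sylow3_eq_of_inter hcard
        have h2 : (R : Subgroup G) ⊓ N ≤ (S : Subgroup N).map N.subtype ⊓ (R : Subgroup G) := by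
          intro z hz
          refine ⟨?_, hz.1⟩
          exact ⟨⟨z, hz.2⟩, hS (by rw [Subgroup.mem_subgroupOf]; exact hz), rfl⟩
        exact (hR R hxR).1.trans (Subgroup.card_le_of_le h2)
      have h3 : (R : Subgroup G) = (S : Subgroup N).map N.subtype := by
        rw [← hSR]; rfl
      rw [h3]; exact Subgroup.map_subtype_le _
    obtain ⟨n, hn1, hn2, hn3⟩ := two_sylow_card (p := 3) N (P : Subgroup G) Q 3
      (hle P hxP) (hle Q hxQ) (fun h => hPQ (Sylow.ext h))
      (by rw [card_sylow3 hcard P]; norm_num) (by rw [card_sylow3 hcard Q]; norm_num)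
      (fun h81 => by have := h81.trans hNdvd; norm_num at this)
    have h8 : n * 3 ^ 3 ≤ Nat.card N := Nat.le_of_dvd Nat.card_pos hn3
    omega
  -- so `P ∩ N`, `Q ∩ N` have order `9`
  have hT : ∀ R : Sylow 3 G, x ∈ (R : Subgroup G) →
      Nat.card ((R : Subgroup G) ⊓ N : Subgroup G) = 9 := by
    intro R hxR
    obtain ⟨h1, h2⟩ := hR R hxR
    have h3 : Nat.card ((R : Subgroup G) ⊓ N : Subgroup G) ∣ Nat.card N :=
      Subgroup.card_dvd_of_le inf_le_right
    have h5 : Nat.card ((R : Subgroup G) ⊓ N : Subgroup G) ≤ 27 := Nat.le_of_dvd (by norm_num) h2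
    generalize Nat.card ((R : Subgroup G) ⊓ N : Subgroup G) = d at *
    interval_cases d <;> first | rfl | omega
  obtain ⟨n, hn1, hn2, hn3⟩ := two_sylow_card (p := 3) N ((P : Subgroup G) ⊓ N)
    ((Q : Subgroup G) ⊓ N) 2 inf_le_right inf_le_right hTPQ
    (by rw [hT P hxP]; norm_num) (by rw [hT Q hxQ]; norm_num) (by norm_num; exact h27)
  have hNcard : Nat.card N = 36 ∨ Nat.card N = 63 := by
    obtain ⟨c, hc⟩ := hn3
    have hc0 : 0 < Nat.card N := Nat.card_pos
    have hc' : Nat.card N = n * 9 * c := by rw [hc]; norm_num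
    clear hc
    generalize Nat.card N = m at *
    have hn10 : n ≤ 10 := by
      by_contra hlt
      rw [not_le] at hlt
      have : 0 < c := by
        rcases Nat.eq_zero_or_pos c with h | h
        · rw [h] at hc'; omega
        · exact h
      nlinarith
    have hc2 : c ≤ 2 := by
      by_contra hlt
      rw [not_le] at hlt
      have : 4 ≤ n := by omega
      nlinarith
    interval_cases n <;> interval_cases c <;>
      first | omega | (exfalso; subst hc'; norm_num at hNdvd)
  -- `|N| = 63` is impossible: `N` would normalize a Sylow `7`-subgroup of `G`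
  have h63 : Nat.card N ≠ 63 := by
    intro h63
    haveI := fact7
    have S : Sylow 7 N := default
    have hfac : (Nat.card N).factorization 7 = 1 :=
      factorization_eq (by norm_num) (by rw [h63]; norm_num) (by rw [h63]; norm_num)
        (by rw [h63]; norm_num)
    have hScard : Nat.card (S : Subgroup N) = 7 := by
      rw [Sylow.card_eq_multiplicity, hfac]; norm_num
    have hn7 : Nat.card (Sylow 7 N) = 1 := by
      have h1 := card_sylow_modEq_one 7 N
      have h2 : Nat.card (Sylow 7 N) ∣ 9 := by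
        have h3 := Sylow.card_dvd_index S
        have h4 := Subgroup.card_mul_index (S : Subgroup N)
        rw [hScard, h63] at h4
        have h5 : (S : Subgroup N).index = 9 := by omega
        rwa [h5] at h3
      have h6 : Nat.card (Sylow 7 N) ≤ 9 := Nat.le_of_dvd (by norm_num) h2
      rw [Nat.ModEq] at h1
      generalize Nat.card (Sylow 7 N) = k at *
      interval_cases k <;> omega
    haveI : Subsingleton (Sylow 7 N) := (Nat.card_eq_one_iff_unique.mp hn7).1
    have hSn : (S : Subgroup N).Normal := Sylow.normal_of_subsingleton S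
    have hSGcard : Nat.card ((S : Subgroup N).map N.subtype) = 7 := by
      rw [Subgroup.card_subtype]; exact hScard
    have hfacG : (Nat.card G).factorization 7 = 1 :=
      factorization_eq (by norm_num) Nat.card_pos.ne' (by rw [hcard]; norm_num)
        (by rw [hcard]; norm_num)
    have hNS : N ≤ normalizer (((Sylow.ofCard ((S : Subgroup N).map N.subtype)
        (by rw [hSGcard, hfacG]; norm_num) : Sylow 7 G) : Subgroup G) : Set G) := by
      intro g hg
      rw [Subgroup.mem_normalizer_iff]
      intro z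
      show z ∈ (S : Subgroup N).map N.subtype ↔ g * z * g⁻¹ ∈ (S : Subgroup N).map N.subtype
      constructor
      · rintro ⟨w, hw, rfl⟩
        exact ⟨⟨g, hg⟩ * w * ⟨g, hg⟩⁻¹, hSn.conj_mem w hw ⟨g, hg⟩, rfl⟩
      · rintro ⟨w, hw, hwe⟩
        refine ⟨⟨g, hg⟩⁻¹ * w * ⟨g, hg⟩, ?_, ?_⟩
        · have h8 := hSn.conj_mem w hw ⟨g, hg⟩⁻¹
          rw [inv_inv] at h8
          exact h8
        · simp only [Subgroup.coe_subtype, Subgroup.coe_mul, Subgroup.coe_inv]
          have hwe' : (w : G) = g * z * g⁻¹ := hwe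
          rw [hwe']; group
    have h7 := Subgroup.card_dvd_of_le hNS
    rw [h63, card_normalizer_sylow7 hcard] at h7
    omega
  have hN36 : Nat.card N = 36 := by
    rcases hNcard with h | h
    · exact h
    · exact absurd h h63
  have hfacN : (Nat.card N).factorization 3 = 2 :=
    factorization_eq (by norm_num) Nat.card_pos.ne' (by rw [hN36]; norm_num)
      (by rw [hN36]; norm_num)
  have hcardT' : ∀ R : Sylow 3 G, x ∈ (R : Subgroup G) →
      Nat.card (((R : Subgroup G) ⊓ N).subgroupOf N) = 3 ^ (Nat.card N).factorization 3 := by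
    intro R hxR
    rw [Nat.card_congr (Subgroup.subgroupOfEquivOfLe
      (inf_le_right : (R : Subgroup G) ⊓ N ≤ N)).toEquiv, hT R hxR, hfacN]
    norm_num
  let φ : {R : Sylow 3 G // x ∈ (R : Subgroup G)} → Sylow 3 N :=
    fun R => Sylow.ofCard (((R.1 : Subgroup G) ⊓ N).subgroupOf N) (hcardT' R.1 R.2)
  have hφ : Function.Injective φ := by
    intro R R' h
    have h1 : ((R.1 : Subgroup G) ⊓ N).subgroupOf N = ((R'.1 : Subgroup G) ⊓ N).subgroupOf N :=
      congrArg (fun S : Sylow 3 N => (S : Subgroup N)) h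
    rw [Subgroup.subgroupOf_inj, inf_eq_left.mpr inf_le_right, inf_eq_left.mpr inf_le_right] at h1
    apply Subtype.ext
    apply sylow3_eq_of_inter hcard
    have h2 : (R.1 : Subgroup G) ⊓ N ≤ (R.1 : Subgroup G) ⊓ (R'.1 : Subgroup G) :=
      le_inf inf_le_left (h1 ▸ inf_le_left)
    have h3 := Subgroup.card_le_of_le h2
    rw [hT R.1 R.2] at h3
    exact h3
  have hs4 : Nat.card (Sylow 3 N) ≤ 4 := by
    have S : Sylow 3 N := default
    have h3 := Sylow.card_dvd_index S
    have h4 := Subgroup.card_mul_index (S : Subgroup N)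
    rw [Sylow.card_eq_multiplicity, hfacN, hN36] at h4
    have h5 : (S : Subgroup N).index = 4 := by norm_num at h4; omega
    rw [h5] at h3
    exact Nat.le_of_dvd (by norm_num) h3
  have hsx : Nat.card {R : Sylow 3 G // x ∈ (R : Subgroup G)} ≤ 4 :=
    (Nat.card_le_card_of_injective φ hφ).trans hs4
  -- the centralizer of `D` is all of `N`
  set C : Subgroup G := centralizer (D : Set G) with hC
  have hCN : C ≤ N := Subgroup.centralizer_le_normalizer _
  have hrel : C.relIndex N ∣ 2 := by
    have h1 := helper21.relIndex_centralizer_normalizer_dvd_card_mulAut D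
    have h2 := helper21.card_mulAut_dvd_factorial D
    rw [hDcard] at h2
    exact h1.trans (by simpa using h2)
  have hCcard : Nat.card C * C.relIndex N = 36 := by
    have h1 := Subgroup.card_mul_index (C.subgroupOf N)
    rw [Nat.card_congr (Subgroup.subgroupOfEquivOfLe hCN).toEquiv, hN36] at h1
    exact h1
  have hTC : ∀ R : Sylow 3 G, x ∈ (R : Subgroup G) → (R : Subgroup G) ⊓ N ≤ C := by
    intro R hxR t ht
    rw [hC, Subgroup.mem_centralizer_iff]
    intro d hd
    have hDR : D ≤ R := by rw [← hDz]; exact Subgroup.zpowers_le.mpr hxR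
    have hcomm := IsPGroup.isMulCommutative_of_card_eq_prime_sq (p := 3)
      (G := ((R : Subgroup G) ⊓ N : Subgroup G)) (by rw [hT R hxR]; norm_num)
    have h1 := hcomm.is_comm.comm ⟨d, hDR hd, hDN hd⟩ ⟨t, ht⟩
    exact congrArg Subtype.val h1
  have hC36 : Nat.card C = 36 := by
    have h2 : C.relIndex N = 1 ∨ C.relIndex N = 2 := by
      have h3 := Nat.le_of_dvd (by norm_num) hrel
      have h0 : C.relIndex N ≠ 0 := by
        intro h0; rw [h0] at hCcard; omega
      omega
    rcases h2 with h2 | h2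
    · rw [h2] at hCcard; omega
    · exfalso
      rw [h2] at hCcard
      have hC18 : Nat.card C = 18 := by omega
      obtain ⟨n', hn1', hn2', hn3'⟩ := two_sylow_card (p := 3) C ((P : Subgroup G) ⊓ N)
        ((Q : Subgroup G) ⊓ N) 2 (hTC P hxP) (hTC Q hxQ) hTPQ
        (by rw [hT P hxP]; norm_num) (by rw [hT Q hxQ]; norm_num) (by rw [hC18]; norm_num)
      rw [hC18] at hn3'
      have h4 := Nat.le_of_dvd (by norm_num) hn3'
      omega
  haveI : Fact (Nat.Prime 2) := ⟨by norm_num⟩
  obtain ⟨K, hK⟩ := Sylow.exists_subgroup_card_pow_prime (G := C) 2 (n := 2)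
    (by rw [hC36]; norm_num)
  refine ⟨hx3, hsx, K.map C.subtype, ?_, ?_⟩
  · rw [Subgroup.card_subtype, hK]; norm_num
  · rintro v ⟨w, hw, rfl⟩
    have h1 : (w : G) ∈ centralizer (D : Set G) := w.2
    rw [Subgroup.mem_centralizer_iff] at h1
    exact (h1 x hxD).symm

end Simple

/-- **There is no simple group of order `756`.** -/
theorem no_simple_756 {G : Type*} [Group G] [Finite G] [IsSimpleGroup G] : Nat.card G ≠ 756 := by
  classical
  intro hcard
  haveI := fact3
  haveI := fact7
  haveI : Fintype G := Fintype.ofFinite G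
  haveI : Fintype (Sylow 3 G) := Fintype.ofFinite _
  have hs_nat : ∀ g : G, Nat.card {R : Sylow 3 G // g ∈ (R : Subgroup G)} =
      (Finset.univ.filter (fun R : Sylow 3 G => g ∈ (R : Subgroup G))).card := by
    intro g
    rw [Nat.card_eq_fintype_card, Fintype.card_subtype]
  have hkey : ∀ g : G, g ≠ 1 →
      2 ≤ (Finset.univ.filter (fun R : Sylow 3 G => g ∈ (R : Subgroup G))).card →
      g ^ 3 = 1 ∧ (Finset.univ.filter (fun R : Sylow 3 G => g ∈ (R : Subgroup G))).card ≤ 4 ∧
        ∃ V : Subgroup G, Nat.card V = 4 ∧ ∀ v ∈ V, v * g = g * v := by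
    intro g hg1 hg2
    obtain ⟨P, hP, Q, hQ, hPQ⟩ := Finset.one_lt_card.mp hg2
    rw [Finset.mem_filter] at hP hQ
    have h1 := key hcard P Q hPQ g hg1 hP.2 hQ.2
    rw [hs_nat] at h1
    exact h1
  obtain ⟨s, hs⟩ : ∃ s : G → ℕ, ∀ g, s g =
      (Finset.univ.filter (fun R : Sylow 3 G => g ∈ (R : Subgroup G))).card := ⟨_, fun g => rfl⟩
  simp only [← hs] at hkey
  -- the four sets
  obtain ⟨A, hA⟩ : ∃ A : Finset G, A = Finset.univ.filter (fun g => orderOf g = 7) := ⟨_, rfl⟩
  obtain ⟨B, hB⟩ : ∃ B : Finset G, B = Finset.univ.filter (fun g => g ≠ 1 ∧ 0 < s g) := ⟨_, rfl⟩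
  obtain ⟨M, hM⟩ : ∃ M : Finset G, M = Finset.univ.filter (fun g => g ≠ 1 ∧ 2 ≤ s g) := ⟨_, rfl⟩
  obtain ⟨E, hE⟩ : ∃ E : Finset G,
      E = Finset.univ.filter (fun y => y ^ 12 = 1 ∧ y ^ 3 ≠ 1 ∧ y ^ 4 ∈ M) := ⟨_, rfl⟩
  have hAcard : A.card = 216 := by
    have h1 := helper21.card_orderOf_eq_prime_of_sylow_card (G := G) (p := 7)
      (fun Q => card_sylow7 hcard Q)
    rw [card_sylow7_eq hcard, Nat.card_eq_fintype_card, Fintype.card_subtype] at h1
    rw [hA, h1]
  -- double counting of the pairs (g, R), g ≠ 1 in the Sylow 3-subgroup R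
  have hdc : ∑ g ∈ Finset.univ.filter (fun g : G => g ≠ 1), s g = 728 := by
    have h1 := Finset.sum_card_bipartiteAbove_eq_sum_card_bipartiteBelow
      (s := Finset.univ.filter (fun g : G => g ≠ 1)) (t := (Finset.univ : Finset (Sylow 3 G)))
      (r := fun (g : G) (R : Sylow 3 G) => g ∈ (R : Subgroup G))
    have h2 : ∀ R : Sylow 3 G, ((Finset.univ.filter (fun g : G => g ≠ 1)).bipartiteBelow
        (fun g (R : Sylow 3 G) => g ∈ (R : Subgroup G)) R).card = 26 := by
      intro R
      have h3 : (Finset.univ.filter (fun g : G => g ≠ 1)).bipartiteBelow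
          (fun g (R : Sylow 3 G) => g ∈ (R : Subgroup G)) R =
          (Finset.univ.filter (fun g : G => g ∈ (R : Subgroup G))).erase 1 := by
        ext g
        simp only [Finset.bipartiteBelow, Finset.mem_filter, Finset.mem_univ, true_and,
          Finset.mem_erase]
      have h4 : (Finset.univ.filter (fun g : G => g ∈ (R : Subgroup G))).card = 27 := by
        rw [← card_sylow3 hcard R, Nat.card_eq_fintype_card, Fintype.card_subtype]
      rw [h3, Finset.card_erase_of_mem (by simp), h4]
    rw [Finset.sum_congr rfl (fun R _ => h2 R), Finset.sum_const, Finset.card_univ,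
      ← Nat.card_eq_fintype_card, card_sylow3_eq hcard] at h1
    have h5 : (28 • 26 : ℕ) = 728 := by norm_num
    rw [← h5, ← h1]
    apply Finset.sum_congr rfl
    intro g _
    rw [hs]
    rfl
  have hB3M : 728 ≤ B.card + 3 * M.card := by
    rw [← hdc]
    have hpt : ∀ g ∈ Finset.univ.filter (fun g : G => g ≠ 1),
        s g ≤ (if 0 < s g then 1 else 0) + 3 * (if 2 ≤ s g then 1 else 0) := by
      intro g hg
      rw [Finset.mem_filter] at hg
      by_cases h2 : 2 ≤ s g
      · have h3 := (hkey g hg.2 h2).2.1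
        rw [if_pos (by omega), if_pos h2]; omega
      · rw [if_neg h2]
        by_cases h0 : 0 < s g
        · rw [if_pos h0]; omega
        · rw [if_neg h0]; omega
    refine (Finset.sum_le_sum hpt).trans ?_
    rw [Finset.sum_add_distrib, ← Finset.mul_sum, ← Finset.card_filter, ← Finset.card_filter,
      Finset.filter_filter, Finset.filter_filter, hB, hM]
  have hE3M : 3 * M.card ≤ E.card := by
    have hmaps : ∀ y ∈ E, y ^ 4 ∈ M := by
      intro y hy
      rw [hE, Finset.mem_filter] at hy
      exact hy.2.2.2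
    rw [Finset.card_eq_sum_card_fiberwise hmaps, mul_comm, ← smul_eq_mul, ← Finset.sum_const]
    apply Finset.sum_le_sum
    intro x hx
    rw [hM, Finset.mem_filter] at hx
    obtain ⟨hx3, -, V, hV4, hVc⟩ := hkey x hx.2.1 hx.2.2
    have hVf : ((Finset.univ.filter (fun v : G => v ∈ V)).erase 1).card = 3 := by
      have h4 : (Finset.univ.filter (fun v : G => v ∈ V)).card = 4 := by
        rw [← hV4, Nat.card_eq_fintype_card, Fintype.card_subtype]
      rw [Finset.card_erase_of_mem (by simp), h4]
    rw [← hVf]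
    apply Finset.card_le_card_of_injOn (fun v => x * v)
    · intro v hv
      rw [Finset.mem_coe, Finset.mem_erase, Finset.mem_filter] at hv
      obtain ⟨hv1, -, hvV⟩ := hv
      have hv4 : v ^ 4 = 1 := by rw [← hV4]; exact pow_card_of_mem' V hvV
      have hcomm : Commute x v := (hVc v hvV).symm
      have hp4 : (x * v) ^ 4 = x := by
        rw [hcomm.mul_pow, hv4, mul_one]
        calc x ^ 4 = x ^ 3 * x := by rw [pow_succ]
          _ = x := by rw [hx3, one_mul]
      rw [Finset.mem_coe, Finset.mem_filter]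
      refine ⟨?_, hp4⟩
      rw [hE, Finset.mem_filter]
      refine ⟨Finset.mem_univ _, ?_, ?_, ?_⟩
      · calc (x * v) ^ 12 = ((x * v) ^ 4) ^ 3 := by rw [← pow_mul]
          _ = 1 := by rw [hp4, hx3]
      · rw [hcomm.mul_pow, hx3, one_mul]
        intro hv3
        apply hv1
        calc v = v ^ 4 * (v ^ 3)⁻¹ := by group
          _ = 1 := by rw [hv4, hv3]; simp
      · rw [hp4, hM, Finset.mem_filter]; exact ⟨Finset.mem_univ _, hx.2.1, hx.2.2⟩
    · intro v _ v' _ h
      exact mul_left_cancel h
  have hdisj : A.card + B.card + E.card + 1 ≤ 756 := by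
    have hB27 : ∀ g ∈ B, g ^ 27 = 1 := by
      intro g hgB
      rw [hB, Finset.mem_filter, hs] at hgB
      obtain ⟨R, hR⟩ := Finset.card_pos.mp hgB.2.2
      rw [Finset.mem_filter] at hR
      rw [← card_sylow3 hcard R]; exact pow_card_of_mem' _ hR.2
    have hAB : Disjoint A B := by
      rw [Finset.disjoint_left]
      intro g hgA hgB
      rw [hA, Finset.mem_filter] at hgA
      have h2 := orderOf_dvd_of_pow_eq_one (hB27 g hgB)
      rw [hgA.2] at h2
      omega
    have hAE : Disjoint A E := by
      rw [Finset.disjoint_left]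
      intro g hgA hgE
      rw [hA, Finset.mem_filter] at hgA
      rw [hE, Finset.mem_filter] at hgE
      have h2 := orderOf_dvd_of_pow_eq_one hgE.2.1
      rw [hgA.2] at h2
      omega
    have hBE : Disjoint B E := by
      rw [Finset.disjoint_left]
      intro g hgB hgE
      rw [hE, Finset.mem_filter] at hgE
      have h1 : g ^ Nat.gcd 27 12 = 1 := pow_gcd_eq_one.mpr ⟨hB27 g hgB, hgE.2.1⟩
      have h2 : Nat.gcd 27 12 = 3 := by decide
      rw [h2] at h1
      exact hgE.2.2.1 h1
    have h1A : (1 : G) ∉ A := by rw [hA, Finset.mem_filter]; simp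
    have h1B : (1 : G) ∉ B := by rw [hB, Finset.mem_filter]; simp
    have h1E : (1 : G) ∉ E := by rw [hE, Finset.mem_filter]; simp
    have hunion : (A ∪ B ∪ E ∪ {1}).card = A.card + B.card + E.card + 1 := by
      rw [Finset.card_union_of_disjoint, Finset.card_union_of_disjoint,
        Finset.card_union_of_disjoint hAB, Finset.card_singleton]
      · rw [Finset.disjoint_union_left]; exact ⟨hAE, hBE⟩
      · rw [Finset.disjoint_singleton_right]; simp [h1A, h1B, h1E]
    rw [← hunion, ← hcard, Nat.card_eq_fintype_card]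
    exact Finset.card_le_univ _
  omega

end Cfsg.Agent.Lib.helper67.Ord756
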