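import Mathlib
import Cfsg.Agent.Lib.helper26.S4409Defs

/-!
S4409 split (helper26), piece C0 (racer copy by helper67): in the minimal setting, if `H`
centralizes `X` then `X` is abelian.
-/

set_option autoImplicit false

namespace Cfsg.Agent.Lib.helper26.S4409

variable {G : Type*} [Group G]

theorem h67_c0 (X H : Subgroup G) (hM : MinSet X H) (hc : H ≤ Subgroup.centralizer (X : Set G)) :
    IsMulCommutative ↥X := by
  obtain ⟨-, -, -, hmin, hnot⟩ := hM
  unfold NoP at hnot
  push Not at hnot
  obtain ⟨A, hAX, hAc, hA8, hAnc⟩ := hnot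
  by_cases hAeq : A = X
  · subst hAeq; exact hAc
  · exfalso
    have hHA : H ≤ Subgroup.normalizer (A : Set G) := by
      intro h hh
      have key : ∀ k ∈ H, ∀ a ∈ A, k * a * k⁻¹ = a := by
        intro k hk a ha
        have h1 := (Subgroup.mem_centralizer_iff.mp (hc hk)) a (hAX ha)
        rw [← h1, mul_inv_cancel_right]
      rw [Subgroup.mem_normalizer_iff]
      intro a
      constructor
      · intro ha
        have ha' : a ∈ A := ha
        rw [key h hh a ha']; exact ha
      · intro ha
        have ha' : h * a * h⁻¹ ∈ A := ha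
        have h2 := key h⁻¹ (H.inv_mem hh) _ ha'
        have h3 : h⁻¹ * (h * a * h⁻¹) * h⁻¹⁻¹ = a := by group
        rw [h3] at h2
        have : a ∈ A := by rw [h2]; exact ha'
        exact this
    exact hAnc (hmin A hAX hAeq hHA A le_rfl hAc hA8)

end Cfsg.Agent.Lib.helper26.S4409
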