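import Mathlib
import Cfsg.Agent.Lib.helper95.APDefs
import Cfsg.Agent.Lib.helper37.APTAU

/-!
S2276 split (helper95), piece INTV, racer copy by helper67: core with the GPC statement as a
hypothesis.  Design: `b := (forward cycle on [0, l₁))⁻¹ * (forward cycles on the following
intervals)`, all interval cycles being Mathlib's `Fin.cycleIcc`.
-/

set_option autoImplicit false

namespace Cfsg.Agent.Lib.helper95.AP

open Equiv

theorem h67_finRotate_val (M : ℕ) (z : Fin M) :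
    ((finRotate M z : Fin M) : ℕ) = if (z : ℕ) + 1 = M then 0 else (z : ℕ) + 1 := by
  cases M with
  | zero => exact z.elim0
  | succ N =>
    rw [coe_finRotate]
    by_cases h : z = Fin.last N
    · subst h; simp
    · have h' : (z : ℕ) ≠ N := fun h' => h (Fin.ext (by simpa using h'))
      rw [if_neg h, if_neg (by omega)]

/-- forward cycle on the interval `[s, s + l)` of `Fin M` -/
noncomputable def h67_fc (M : ℕ) [NeZero M] (s l : ℕ) : Perm (Fin M) :=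
  Fin.cycleIcc (Fin.ofNat M s) (Fin.ofNat M (s + l - 1))

theorem h67_fc_apply (M : ℕ) [NeZero M] (s l : ℕ) (hl : 1 ≤ l) (h : s + l ≤ M) (z : Fin M) :
    ((h67_fc M s l z : Fin M) : ℕ) =
      if s ≤ (z : ℕ) ∧ (z : ℕ) + 1 < s + l then (z : ℕ) + 1
      else if (z : ℕ) + 1 = s + l then s else (z : ℕ) := by
  have hi : ((Fin.ofNat M s : Fin M) : ℕ) = s := by
    rw [Fin.val_ofNat]; exact Nat.mod_eq_of_lt (by omega)
  have hj : ((Fin.ofNat M (s + l - 1) : Fin M) : ℕ) = s + l - 1 := by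
    rw [Fin.val_ofNat]; exact Nat.mod_eq_of_lt (by omega)
  unfold h67_fc
  rcases lt_or_ge z (Fin.ofNat M s) with h1 | h1
  · rw [Fin.cycleIcc_of_lt h1]
    have : (z : ℕ) < s := by rw [← hi]; exact h1
    rw [if_neg (by omega), if_neg (by omega)]
  · rcases lt_or_ge (Fin.ofNat M (s + l - 1)) z with h2 | h2
    · rw [Fin.cycleIcc_of_gt h2]
      have : s + l - 1 < (z : ℕ) := by rw [← hj]; exact h2
      rw [if_neg (by omega), if_neg (by omega)]
    · rw [Fin.cycleIcc_of_le_of_le h1 h2]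
      have h1' : s ≤ (z : ℕ) := by rw [← hi]; exact h1
      have h2' : (z : ℕ) ≤ s + l - 1 := by rw [← hj]; exact h2
      by_cases hz : z = Fin.ofNat M (s + l - 1)
      · rw [if_pos hz, hi]
        have : (z : ℕ) = s + l - 1 := by rw [hz, hj]
        rw [if_neg (by omega), if_pos (by omega)]
      · rw [if_neg hz]
        have hne : (z : ℕ) ≠ s + l - 1 := fun h' => hz (Fin.ext (by rw [hj]; exact h'))
        have h3 : ((z + 1 : Fin M) : ℕ) = (z : ℕ) + 1 := Fin.val_add_one_of_lt' (by omega)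
        rw [h3, if_pos (by omega)]

theorem h67_fc_inv_apply (M : ℕ) [NeZero M] (s l : ℕ) (hl : 1 ≤ l) (h : s + l ≤ M) (z : Fin M) :
    (((h67_fc M s l)⁻¹ z : Fin M) : ℕ) =
      if s < (z : ℕ) ∧ (z : ℕ) < s + l then (z : ℕ) - 1
      else if (z : ℕ) = s then s + l - 1 else (z : ℕ) := by
  have hz := z.isLt
  have hw : (if s < (z : ℕ) ∧ (z : ℕ) < s + l then (z : ℕ) - 1
      else if (z : ℕ) = s then s + l - 1 else (z : ℕ)) < M := by
    split_ifs <;> omega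
  have key : h67_fc M s l ⟨_, hw⟩ = z := by
    apply Fin.ext
    rw [h67_fc_apply M s l hl h]
    simp only
    split_ifs <;> omega
  have : (h67_fc M s l)⁻¹ z = ⟨_, hw⟩ := by
    rw [Perm.inv_eq_iff_eq]; exact key.symm
  rw [this]

theorem h67_fc_cycleType (M : ℕ) [NeZero M] (s l : ℕ) (hl : 2 ≤ l) (h : s + l ≤ M) :
    (h67_fc M s l).cycleType = {l} := by
  have hi : ((Fin.ofNat M s : Fin M) : ℕ) = s := by
    rw [Fin.val_ofNat]; exact Nat.mod_eq_of_lt (by omega)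
  have hj : ((Fin.ofNat M (s + l - 1) : Fin M) : ℕ) = s + l - 1 := by
    rw [Fin.val_ofNat]; exact Nat.mod_eq_of_lt (by omega)
  unfold h67_fc
  rw [Fin.cycleType_cycleIcc_of_lt (by rw [Fin.lt_def, hi, hj]; omega), hi, hj]
  congr 1
  omega

/-- forward cycles on consecutive intervals of lengths `L` starting at `s` -/
noncomputable def h67_fw (M : ℕ) [NeZero M] : ℕ → List ℕ → Perm (Fin M)
  | _, [] => 1
  | s, l :: L => h67_fc M s l * h67_fw M (s + l) L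

theorem h67_fw_props (M : ℕ) [NeZero M] (p : ℕ) (L : List ℕ) :
    ∀ s : ℕ, s + L.sum ≤ M → (∀ l ∈ L, 3 ≤ l ∧ p ∣ l) → p ∣ s →
      (h67_fw M s L).cycleType = (L : Multiset ℕ) ∧
      (∀ z : Fin M, (z : ℕ) < s → h67_fw M s L z = z) ∧
      (∀ z : Fin M, ((h67_fw M s L z : Fin M) : ℕ) = z ∨
        ((h67_fw M s L z : Fin M) : ℕ) = (z : ℕ) + 1 ∨
        (((h67_fw M s L z : Fin M) : ℕ) + 2 ≤ z ∧ p ∣ (z : ℕ) + 1)) := by
  induction L with
  | nil =>
    intro s _ _ _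
    refine ⟨?_, fun z _ => rfl, fun z => Or.inl rfl⟩
    show (1 : Perm (Fin M)).cycleType = _
    simp
  | cons l L ih =>
    intro s hs hL hps
    have hl3 : 3 ≤ l := (hL l (by simp)).1
    have hpl : p ∣ l := (hL l (by simp)).2
    have hsum : s + l + L.sum ≤ M := by simp only [List.sum_cons] at hs; omega
    obtain ⟨ih1, ih2, ih3⟩ :=
      ih (s + l) hsum (fun x hx => hL x (by simp [hx])) (dvd_add hps hpl)
    have hsl : s + l ≤ M := by omega
    have hc_fix : ∀ z : Fin M, s + l ≤ (z : ℕ) → h67_fc M s l z = z := by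
      intro z hz
      apply Fin.ext
      rw [h67_fc_apply M s l (by omega) hsl, if_neg (by omega), if_neg (by omega)]
    have hg_ge : ∀ z : Fin M, s + l ≤ (z : ℕ) →
        s + l ≤ ((h67_fw M (s + l) L z : Fin M) : ℕ) := by
      intro z hz
      by_contra hlt
      push Not at hlt
      have h1 := ih2 _ hlt
      have h2 := (h67_fw M (s + l) L).injective h1
      rw [h2] at hlt
      omega
    have hdef : h67_fw M s (l :: L) = h67_fc M s l * h67_fw M (s + l) L := rfl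
    rw [hdef]
    refine ⟨?_, ?_, ?_⟩
    · have hdisj : Perm.Disjoint (h67_fc M s l) (h67_fw M (s + l) L) := by
        intro z
        by_cases hz : (z : ℕ) < s + l
        · exact Or.inr (ih2 z hz)
        · exact Or.inl (hc_fix z (by omega))
      rw [hdisj.cycleType_mul, ih1, h67_fc_cycleType M s l (by omega) hsl]
      rfl
    · intro z hz
      rw [Perm.mul_apply, ih2 z (by omega)]
      apply Fin.ext
      rw [h67_fc_apply M s l (by omega) hsl, if_neg (by omega), if_neg (by omega)]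
    · intro z
      rw [Perm.mul_apply]
      by_cases hz : (z : ℕ) < s + l
      · rw [ih2 z hz, h67_fc_apply M s l (by omega) hsl]
        split_ifs with h1 h2
        · exact Or.inr (Or.inl rfl)
        · refine Or.inr (Or.inr ⟨by omega, ?_⟩)
          rw [h2]; exact dvd_add hps hpl
        · exact Or.inl rfl
      · rw [hc_fix _ (hg_ge z (by omega))]
        exact ih3 z

theorem h67_b_props (M : ℕ) [NeZero M] (p : ℕ) (l₁ : ℕ) (L' : List ℕ) (hl₁3 : 3 ≤ l₁)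
    (hpl₁ : p ∣ l₁) (hsum : l₁ + L'.sum ≤ M) (hlt : l₁ < M) (hL' : ∀ l ∈ L', 3 ≤ l ∧ p ∣ l) :
    ∃ b : Perm (Fin M), b.cycleType = ((l₁ :: L' : List ℕ) : Multiset ℕ) ∧
      (∀ z : Fin M, (z : ℕ) < l₁ →
        ((b z : Fin M) : ℕ) = if (z : ℕ) = 0 then l₁ - 1 else (z : ℕ) - 1) ∧
      (∀ z : Fin M, l₁ ≤ (z : ℕ) → ((b z : Fin M) : ℕ) = z ∨
        ((b z : Fin M) : ℕ) = (z : ℕ) + 1 ∨ (((b z : Fin M) : ℕ) + 2 ≤ z ∧ p ∣ (z : ℕ) + 1)) ∧
      (Finset.univ.filter (fun z : Fin M => (finRotate M * b) z = z)).card = l₁ - 1 := by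
  obtain ⟨g1, g2, g3⟩ := h67_fw_props M p L' l₁ hsum hL' hpl₁
  have hl₁M' : 0 + l₁ ≤ M := by omega
  have hci : ∀ z : Fin M, (((h67_fc M 0 l₁)⁻¹ z : Fin M) : ℕ) =
      if 0 < (z : ℕ) ∧ (z : ℕ) < 0 + l₁ then (z : ℕ) - 1
      else if (z : ℕ) = 0 then 0 + l₁ - 1 else (z : ℕ) :=
    fun z => h67_fc_inv_apply M 0 l₁ (by omega) hl₁M' z
  have hci_fix : ∀ z : Fin M, l₁ ≤ (z : ℕ) → (h67_fc M 0 l₁)⁻¹ z = z := by
    intro z hz
    apply Fin.ext
    rw [hci, if_neg (by omega), if_neg (by omega)]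
  have hg_ge : ∀ z : Fin M, l₁ ≤ (z : ℕ) → l₁ ≤ ((h67_fw M l₁ L' z : Fin M) : ℕ) := by
    intro z hz
    by_contra hlt'
    push Not at hlt'
    have h1 := g2 _ hlt'
    have h2 := (h67_fw M l₁ L').injective h1
    rw [h2] at hlt'
    omega
  have hb_lo : ∀ z : Fin M, (z : ℕ) < l₁ →
      ((((h67_fc M 0 l₁)⁻¹ * h67_fw M l₁ L') z : Fin M) : ℕ) =
        if (z : ℕ) = 0 then l₁ - 1 else (z : ℕ) - 1 := by
    intro z hz
    rw [Perm.mul_apply, g2 z hz, hci]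
    split_ifs <;> omega
  have hb_hi : ∀ z : Fin M, l₁ ≤ (z : ℕ) →
      ((h67_fc M 0 l₁)⁻¹ * h67_fw M l₁ L') z = h67_fw M l₁ L' z := by
    intro z hz
    rw [Perm.mul_apply, hci_fix _ (hg_ge z hz)]
  refine ⟨(h67_fc M 0 l₁)⁻¹ * h67_fw M l₁ L', ?_, hb_lo, ?_, ?_⟩
  · have hdisj : Perm.Disjoint (h67_fc M 0 l₁)⁻¹ (h67_fw M l₁ L') := by
      intro z
      by_cases hz : (z : ℕ) < l₁
      · exact Or.inr (g2 z hz)
      · exact Or.inl (hci_fix z (by omega))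
    rw [hdisj.cycleType_mul, g1, Perm.cycleType_inv, h67_fc_cycleType M 0 l₁ (by omega) hl₁M']
    rfl
  · intro z hz
    rw [hb_hi z hz]
    exact g3 z
  · have hset : Finset.univ.filter
        (fun z : Fin M => (finRotate M * ((h67_fc M 0 l₁)⁻¹ * h67_fw M l₁ L')) z = z) =
        Finset.Ioo (⟨0, by omega⟩ : Fin M) ⟨l₁, hlt⟩ := by
      ext z
      simp only [Finset.mem_filter, Finset.mem_univ, true_and, Finset.mem_Ioo, Fin.lt_def]
      rw [Perm.mul_apply, Fin.ext_iff, h67_finRotate_val]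
      have hzM := z.isLt
      by_cases hz : (z : ℕ) < l₁
      · rw [hb_lo z hz]
        split_ifs <;> omega
      · rw [hb_hi z (by omega)]
        have hw := (h67_fw M l₁ L' z).isLt
        rcases g3 z with h | h | ⟨h, -⟩
        · rw [h]; split_ifs <;> omega
        · rw [h]; split_ifs <;> omega
        · split_ifs <;> omega
    rw [hset, Fin.card_Ioo]
    show l₁ - 0 - 1 = l₁ - 1
    omega

/-- INTV with the GPC statement as a hypothesis. -/
theorem h67_intv_core (p : ℕ) (hp : p.Prime) (hp3 : 3 ≤ p) (e : ℕ)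
    (hgpc : ∀ (b : Perm (Fin (p ^ e))) (x y : Fin (p ^ e)),
      ((p ^ (e - 1) : ℕ) : ℤ) ∣ ((x : ℕ) : ℤ) - ((y : ℕ) : ℤ) →
      ¬ (p : ℤ) ∣ (((b x : Fin (p ^ e)) : ℕ) : ℤ) - (((b y : Fin (p ^ e)) : ℕ) : ℤ) →
      ∀ f : ℕ,
        (Finset.univ.filter (fun z : Fin (p ^ e) => (finRotate (p ^ e) * b) z = z)).card = f →
        2 ≤ f → ¬ p ∣ f → Good p (finRotate (p ^ e)) b)
    (L : List ℕ) (hL0 : L ≠ [])
    (hpow : ∀ l ∈ L, ∃ j : ℕ, 1 ≤ j ∧ l = p ^ j ∧ l < p ^ e)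
    (hsum : L.sum ≤ p ^ e) :
    ∃ b : Perm (Fin (p ^ e)), b.cycleType = (L : Multiset ℕ) ∧
      GoodBoth p (finRotate (p ^ e)) b := by
  haveI : NeZero (p ^ e) := ⟨(pow_pos hp.pos e).ne'⟩
  obtain ⟨l₁, L', rfl⟩ := List.exists_cons_of_ne_nil hL0
  obtain ⟨j, hj1, hl₁, hl₁M⟩ := hpow l₁ (by simp)
  have hpl₁ : p ∣ l₁ := by rw [hl₁]; exact dvd_pow_self p (by omega)
  have hl₁3 : 3 ≤ l₁ := by
    rw [hl₁]
    calc 3 ≤ p := hp3
      _ = p ^ 1 := (pow_one p).symm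
      _ ≤ p ^ j := Nat.pow_le_pow_right hp.pos hj1
  have hje : j < e := by
    rw [hl₁] at hl₁M
    exact (Nat.pow_lt_pow_iff_right hp.one_lt).mp hl₁M
  have hy : l₁ ≤ p ^ (e - 1) := by
    rw [hl₁]; exact Nat.pow_le_pow_right hp.pos (by omega)
  have hyM : p ^ (e - 1) < p ^ e := Nat.pow_lt_pow_right hp.one_lt (by omega)
  have hpy : p ∣ p ^ (e - 1) := dvd_pow_self p (by omega)
  have hL' : ∀ l ∈ L', 3 ≤ l ∧ p ∣ l := by
    intro l hl
    obtain ⟨j', hj', hle, -⟩ := hpow l (by simp [hl])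
    refine ⟨?_, by rw [hle]; exact dvd_pow_self p (by omega)⟩
    rw [hle]
    calc 3 ≤ p := hp3
      _ = p ^ 1 := (pow_one p).symm
      _ ≤ p ^ j' := Nat.pow_le_pow_right hp.pos hj'
  have hsum' : l₁ + L'.sum ≤ p ^ e := by simpa using hsum
  obtain ⟨b, hbct, hb_lo, hb_hi, hcount⟩ :=
    h67_b_props (p ^ e) p l₁ L' hl₁3 hpl₁ hsum' hl₁M hL'
  refine ⟨b, hbct, ?_⟩
  apply h37_goodBoth_of_good p hp e (l₁ :: L') hL0 hpow hsum b hbct
  have hM0 : 0 < p ^ e := pow_pos hp.pos e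
  have key : ∀ (u v : ℕ), u = l₁ - 1 → (v = p ^ (e - 1) ∨ v = p ^ (e - 1) + 1) →
      ¬ (p : ℤ) ∣ (u : ℤ) - (v : ℤ) := by
    intro u v hu hv hd
    have huv : u ≤ v := by omega
    rw [dvd_sub_comm, ← Nat.cast_sub huv, Int.natCast_dvd_natCast] at hd
    have h1 : p ∣ p ^ (e - 1) - l₁ := Nat.dvd_sub hpy hpl₁
    have h2 : p ∣ (v - u) - (p ^ (e - 1) - l₁) := Nat.dvd_sub hd h1
    have h3 : (v - u) - (p ^ (e - 1) - l₁) = 1 ∨ (v - u) - (p ^ (e - 1) - l₁) = 2 := by omega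
    rcases h3 with h3 | h3 <;> rw [h3] at h2
    · exact hp.one_lt.ne' (Nat.dvd_one.mp h2)
    · have := Nat.le_of_dvd (by norm_num) h2
      omega
  refine hgpc b ⟨0, hM0⟩ ⟨p ^ (e - 1), hyM⟩ ?_ ?_ (l₁ - 1) hcount (by omega) ?_
  · simp
  · intro hd
    have hx := hb_lo ⟨0, hM0⟩ (by show 0 < l₁; omega)
    rw [if_pos rfl] at hx
    rcases hb_hi ⟨p ^ (e - 1), hyM⟩ hy with h | h | ⟨-, h⟩
    · exact key _ _ hx (Or.inl h) hd
    · exact key _ _ hx (Or.inr h) hd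
    · have h1 : p ∣ 1 := (Nat.dvd_add_right hpy).mp h
      exact hp.one_lt.ne' (Nat.dvd_one.mp h1)
  · intro hd
    have h1 : p ∣ l₁ - (l₁ - 1) := Nat.dvd_sub hpl₁ hd
    have h2 : l₁ - (l₁ - 1) = 1 := by omega
    rw [h2] at h1
    exact hp.one_lt.ne' (Nat.dvd_one.mp h1)

end Cfsg.Agent.Lib.helper95.AP
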