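import Cfsg.Agent.Lib.helper28.BG1436Imp
import Cfsg.Agent.Lib.helper28.BG1436Defs
import Cfsg.Agent.Lib.helper28.BG1436Base
import Cfsg.Agent.Lib.helper26.BG1436_PCa

/-!
# S1436, piece PCb: `τ₂(M) = ∅` for a B-G 14.4 pair `(M, x) → N` with `π(M) ∩ σ(N) ≠ ∅`

`p ∈ β(N)` divides `|M|`, `κ(M) = ∅`.  Suppose `s ∈ τ₂(M)`.  A Sylow `p`-subgroup of `M` is cyclic
and (as `p ∉ κ(M)`) some element `z` of order `p` of `M` acts fixed-point-freely on `M_σ`.  The local
dichotomy (PCa) gives an elementary abelian `As ≤ M` of order `s ^ 2`; `conj_beta` gives `c` with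
`c z c⁻¹ ∈ N_σ` and `c C_G(z) c⁻¹ ≤ N`.
-/

set_option autoImplicit false

namespace Cfsg.Agent.Lib.helper28.BG1436

open Cfsg Subgroup

variable {G : Type*} [Group G]

/-- In a finite cyclic group, an element killed by `s` is a power of any element of order `s`. -/
theorem pcb_mem_zpowers_of_cyclic {P : Type*} [Group P] [Finite P] [IsCyclic P] {s : ℕ}
    (hs : 0 < s) {w u : P} (hw : orderOf w = s) (hu : u ^ s = 1) : u ∈ Subgroup.zpowers w := by
  classical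
  have := Fintype.ofFinite P
  have hle := IsCyclic.card_pow_eq_one_le (α := P) hs
  have hsub : (Finset.univ.filter (fun a : P => a ∈ Subgroup.zpowers w)) ⊆
      Finset.univ.filter (fun a : P => a ^ s = 1) := by
    intro a ha
    simp only [Finset.mem_filter, Finset.mem_univ, true_and] at ha ⊢
    obtain ⟨j, rfl⟩ := Subgroup.mem_zpowers_iff.mp ha
    rw [← zpow_natCast, ← zpow_mul, mul_comm, zpow_mul, zpow_natCast, ← hw, pow_orderOf_eq_one,
      one_zpow]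
  have hcard : (Finset.univ.filter (fun a : P => a ∈ Subgroup.zpowers w)).card = s := by
    rw [← hw, ← Nat.card_zpowers, Nat.card_eq_fintype_card, Fintype.card_subtype]
  have heq := Finset.eq_of_subset_of_card_le hsub (by rw [hcard]; exact hle)
  have hu' : u ∈ Finset.univ.filter (fun a : P => a ^ s = 1) := by simp [hu]
  rw [← heq] at hu'
  simpa using hu'

/-- Two elements of prime order `s` of a subgroup `N` whose Sylow `s`-subgroups are cyclic: one is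
a power of an `N`-conjugate of the other. -/
theorem pcb_conj_zpowers [Finite G] (N : Subgroup G) (s : ℕ) [Fact s.Prime]
    (hcyc : ∀ Q : Sylow s N, IsCyclic Q) (a b : G) (haN : a ∈ N) (hbN : b ∈ N)
    (ha : orderOf a = s) (hb : orderOf b = s) :
    ∃ n ∈ N, b ∈ zpowers (n * a * n⁻¹) := by
  have hsp : s.Prime := Fact.out
  have haN' : orderOf (⟨a, haN⟩ : N) = s := by rw [Subgroup.orderOf_mk]; exact ha
  have hbN' : orderOf (⟨b, hbN⟩ : N) = s := by rw [Subgroup.orderOf_mk]; exact hb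
  have hpa : IsPGroup s (zpowers (⟨a, haN⟩ : N)) :=
    IsPGroup.of_card (n := 1) (by rw [Nat.card_zpowers, haN', pow_one])
  have hpb : IsPGroup s (zpowers (⟨b, hbN⟩ : N)) :=
    IsPGroup.of_card (n := 1) (by rw [Nat.card_zpowers, hbN', pow_one])
  obtain ⟨Qa, hQa⟩ := hpa.exists_le_sylow
  obtain ⟨Qb, hQb⟩ := hpb.exists_le_sylow
  obtain ⟨n, hn⟩ := MulAction.exists_smul_eq N Qa Qb
  have h1 : (⟨a, haN⟩ : N) ∈ (Qa : Subgroup N) := hQa (mem_zpowers _)
  have hmem : n * (⟨a, haN⟩ : N) * n⁻¹ ∈ (Qb : Subgroup N) := by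
    rw [← hn, Sylow.coe_subgroup_smul]
    exact ⟨_, h1, rfl⟩
  have hb' : (⟨b, hbN⟩ : N) ∈ (Qb : Subgroup N) := hQb (mem_zpowers _)
  haveI := hcyc Qb
  have key := pcb_mem_zpowers_of_cyclic (P := Qb) hsp.pos
    (w := ⟨n * (⟨a, haN⟩ : N) * n⁻¹, hmem⟩) (u := ⟨⟨b, hbN⟩, hb'⟩)
    (by
      rw [Subgroup.orderOf_mk]
      have : n * (⟨a, haN⟩ : N) * n⁻¹ = MulAut.conj n ⟨a, haN⟩ := rfl
      rw [this, MulEquiv.orderOf_eq, haN'])
    (by
      apply Subtype.ext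
      apply Subtype.ext
      simp only [Subgroup.coe_pow, Subgroup.coe_one]
      rw [← hb]; exact pow_orderOf_eq_one b)
  refine ⟨n, n.2, ?_⟩
  obtain ⟨k, hk⟩ := mem_zpowers_iff.mp key
  refine mem_zpowers_iff.mpr ⟨k, ?_⟩
  have := congrArg (fun t : Qb => ((t : N) : G)) hk
  simpa using this

/-- (PCb) `τ₂(M) = ∅`. -/
theorem pair_tau2 [Finite G] (hG : IsMinSimpleOddOrder G) {M N : Subgroup G} {x : G} {r : ℕ}
    {A : Subgroup G} (hM : IsCoatom M) (hN : IsCoatom N) (F : PairFacts M N x r A)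
    (hβ : ∀ q ∈ sigma N, q ∣ Nat.card M → q ∈ beta N)
    (p : ℕ) (hp : p ∈ beta N) (hpM : p ∣ Nat.card M) (hκ : kappa M = ∅) : tau2 M = ∅ := by
  rw [Set.eq_empty_iff_forall_notMem]
  intro s hs
  have hU := Cfsg.Agent.Lib.helper13.bgx_uniq hG
  have hpp : p.Prime := hp.1.1
  have hsp : s.Prime := hs.1
  haveI : Fact p.Prime := ⟨hpp⟩
  haveI : Fact s.Prime := ⟨hsp⟩
  have hpσN : p ∈ sigma N := Cfsg.Agent.Lib.helper8.bg_alpha_sub_sigma hG hU N hN hp.1
  have hpσM : p ∉ sigma M := by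
    intro hqM
    obtain ⟨g, hg⟩ := (Cfsg.Agent.S1378.result hG).2 M N hM hN ⟨p, hqM, hpσN⟩
    exact F.hnc g hg
  have hp2 : PRankLE p 2 M := by
    by_contra h
    exact hpσM (Cfsg.Agent.Lib.helper8.bg_alpha_sub_sigma hG hU M hM ⟨hpp, h⟩)
  have hp1 : PRankLE p 1 M := by
    by_contra h
    exact (Cfsg.Agent.S1408.result hG M hM p hpσM hp2 h).1 hp.2
  have hcycM : ∀ P : Sylow p M, IsCyclic P := fun P =>
    Cfsg.Agent.Lib.helper8.bg_sylow_cyclic_of_prank_one hG.1 (le_refl M) p hp1 P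
  -- `κ(M) = ∅`: some Sylow `p`-subgroup acts fixed-point-freely on `M_σ`
  have hpκ : p ∉ kappa M := by rw [hκ]; exact Set.notMem_empty p
  have hex : ∃ P : Sylow p M, ∀ x' : M, x' ∈ (P : Subgroup M) → x' ≠ 1 →
      ∀ y ∈ sigmaCore M, y ≠ 1 → (x' : G) * y ≠ y * x' := by
    by_contra hcon
    push Not at hcon
    apply hpκ
    refine ⟨hpp, hpM, hpσM, fun P => ⟨hcycM P, ?_⟩⟩
    obtain ⟨x', hx', hx'1, y, hy, hy1, hc⟩ := hcon P
    exact ⟨x', hx', hx'1, y, hy, hy1, hc⟩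
  obtain ⟨P, hP⟩ := hex
  have hPcard : p ∣ Nat.card P := P.dvd_card_of_dvd_card hpM
  obtain ⟨z0, hz0⟩ := exists_prime_orderOf_dvd_card' p hPcard
  have hzM : ((z0 : M) : G) ∈ M := (z0 : M).2
  have hz : orderOf ((z0 : M) : G) = p := by
    rw [Subgroup.orderOf_coe, Subgroup.orderOf_coe]; exact hz0
  have hz1 : ((z0 : M) : G) ≠ 1 := by
    intro h
    rw [h, orderOf_one] at hz
    exact hpp.one_lt.ne hz
  have hz01 : (z0 : M) ≠ 1 := by
    intro h
    apply hz1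
    rw [h]; rfl
  have hfpf : ∀ y ∈ sigmaCore M, ((z0 : M) : G) * y = y * ((z0 : M) : G) → y = 1 := by
    intro y hy hc
    by_contra hy1
    exact hP (z0 : M) z0.2 hz01 y hy hy1 hc
  have hσ1 : sigmaCore M ≠ ⊥ := by
    intro h
    have := F.hx
    rw [h, Subgroup.mem_bot] at this
    exact F.hx1 this
  obtain ⟨As, hAsM, hAsel, hAscard, halt⟩ :=
    tau2_dichotomy hG M hM hσ1 s hs p hpp hpσM ((z0 : M) : G) hzM hz hfpf
  obtain ⟨c, hcz, hcw⟩ := conj_beta hG N hN p hp ((z0 : M) : G) hz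
  generalize ((z0 : M) : G) = z at hzM hz hz1 hfpf halt hcz hcw
  -- conjugate objects
  have hMc : IsCoatom (M.map (MulAut.conj c).toMonoidHom) :=
    Cfsg.Agent.Lib.helper71.BGA.isCoatom_map_conj hM c
  have hMcN : M.map (MulAut.conj c).toMonoidHom ≠ N := fun h => F.hnc c h.symm
  have hsM : s ∣ Nat.card M := by
    have h1 : Nat.card As ∣ Nat.card M := Subgroup.card_dvd_of_le hAsM
    rw [hAscard] at h1
    exact (dvd_pow_self s (by norm_num)).trans h1
  have hsσN : s ∉ sigma N := fun h =>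
    (Cfsg.Agent.S1408.result hG M hM s hs.2.1 hs.2.2.1 hs.2.2.2).1 (hβ s h hsM).2
  have hs2N : PRankLE s 2 N := by
    by_contra h
    exact hsσN (Cfsg.Agent.Lib.helper8.bg_alpha_sub_sigma hG hU N hN ⟨hsp, h⟩)
  have hAscel : IsElementaryAbelian s (As.map (MulAut.conj c).toMonoidHom) :=
    Cfsg.Agent.Lib.helper12.isElementaryAbelian_map_conj hAsel c
  have hAsccard : Nat.card (As.map (MulAut.conj c).toMonoidHom) = s ^ 2 := by
    rw [Subgroup.card_map_of_injective (MulAut.conj c).injective, hAscard]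
  have hczne : c * z * c⁻¹ ≠ 1 := by
    intro h
    apply hz1
    have : z = c⁻¹ * (c * z * c⁻¹) * c := by group
    rw [this, h]; group
  -- (i) `As ^ c` is not contained in `N`
  have hi : ¬ As.map (MulAut.conj c).toMonoidHom ≤ N := by
    intro hle
    have hs1N : ¬ PRankLE s 1 N :=
      Cfsg.Agent.Lib.helper87.BG133.not_prankLE_one hsp hle hAscel hAsccard
    have hsτN : s ∈ tau2 N := ⟨hsp, hsσN, hs2N, hs1N⟩
    have h17 := (Cfsg.Agent.S1417.result hG N hN s hsτN _ ⟨hle, hAscel, hAsccard⟩).2.2.2.2.1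
      _ hMc hMcN (Subgroup.map_mono hAsM)
    have hmem : c * z * c⁻¹ ∈ sigmaCore N ⊓ M.map (MulAut.conj c).toMonoidHom :=
      ⟨hcz, ⟨z, hzM, rfl⟩⟩
    rw [h17] at hmem
    exact hczne (Subgroup.mem_bot.mp hmem)
  rcases halt with hleft | ⟨⟨b, hbAs, hb1, hbσ⟩, a₀, ha₀As, ha₀1, ha₀z⟩
  · -- `z` centralizes `As`
    apply hi
    rintro _ ⟨a, ha, rfl⟩
    exact hcw a (hleft a ha).symm
  · -- orders
    have hordAs : ∀ a ∈ As, a ≠ 1 → orderOf a = s := fun a ha ha1 =>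
      orderOf_eq_prime (hAsel.2 a ha) ha1
    have ha₀o : orderOf (c * a₀ * c⁻¹) = s := by
      have : c * a₀ * c⁻¹ = MulAut.conj c a₀ := rfl
      rw [this, MulEquiv.orderOf_eq]; exact hordAs a₀ ha₀As ha₀1
    have hbo : orderOf b = s := hordAs b hbAs hb1
    have ha₀N : c * a₀ * c⁻¹ ∈ N := hcw a₀ ha₀z.symm
    have ha₀c1 : c * a₀ * c⁻¹ ≠ 1 := by
      intro h
      rw [h, orderOf_one] at ha₀o
      exact hsp.one_lt.ne ha₀o
    have hcomm : c * a₀ * c⁻¹ * (c * z * c⁻¹) = c * z * c⁻¹ * (c * a₀ * c⁻¹) := by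
      calc c * a₀ * c⁻¹ * (c * z * c⁻¹) = c * (a₀ * z) * c⁻¹ := by group
        _ = c * (z * a₀) * c⁻¹ := by rw [ha₀z]
        _ = c * z * c⁻¹ * (c * a₀ * c⁻¹) := by group
    -- (ii) the `s`-rank of `N` is one
    have hs1N : PRankLE s 1 N := by
      by_contra h
      have hsτN : s ∈ tau2 N := ⟨hsp, hsσN, hs2N, h⟩
      have h20 := ((Cfsg.Agent.S1420.result hG N hN (M ⊓ N) F.hcompl).2.2.2 (c * a₀ * c⁻¹) ha₀N
        ha₀c1 (by
          intro q hq hqd
          rw [ha₀o] at hqd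
          rw [(Nat.prime_dvd_prime_iff_eq hq hsp).mp hqd]; exact hsτN)
        ⟨ha₀N, c * z * c⁻¹, hcz, hczne, hcomm⟩).1
      apply hi
      rintro _ ⟨a, ha, rfl⟩
      apply h20
      rw [mem_centralizer_iff]
      intro y hy
      rw [Set.mem_singleton_iff] at hy
      subst hy
      have hab : a₀ * a = a * a₀ := by
        have := hAsel.1.is_comm.comm (⟨a₀, ha₀As⟩ : As) ⟨a, ha⟩
        exact congrArg Subtype.val this
      simp only [MulEquiv.coe_toMonoidHom, MulAut.conj_apply]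
      calc c * a₀ * c⁻¹ * (c * a * c⁻¹) = c * (a₀ * a) * c⁻¹ := by group
        _ = c * (a * a₀) * c⁻¹ := by rw [hab]
        _ = c * a * c⁻¹ * (c * a₀ * c⁻¹) := by group
    have hcycN : ∀ Q : Sylow s N, IsCyclic Q := fun Q =>
      Cfsg.Agent.Lib.helper8.bg_sylow_cyclic_of_prank_one hG.1 (le_refl N) s hs1N Q
    -- (iii) `b` centralizes `x`, so lies in `N`, and `C_G(b) ≤ M`
    have hbx : b * x = x * b := hbσ x F.hx
    have hbN : b ∈ N := by
      apply F.hxN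
      rw [mem_centralizer_iff]
      intro y hy
      rw [Set.mem_singleton_iff] at hy
      subst hy
      exact hbx.symm
    have hbM : b ∈ M := hAsM hbAs
    obtain ⟨E, hE, -⟩ := Cfsg.Agent.Lib.helper69.bg1210_exists_compl_ge M
      (Cfsg.Agent.S1350.result hG M hM).1 ⊥ bot_le (by
        intro q hq hqd
        rw [Subgroup.card_bot] at hqd
        exact absurd (Nat.dvd_one.mp hqd) hq.one_lt.ne') inferInstance
    have hCb := ((Cfsg.Agent.S1420.result hG M hM E hE).2.2.2 b hbM hb1 (by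
        intro q hq hqd
        rw [hbo] at hqd
        rw [(Nat.prime_dvd_prime_iff_eq hq hsp).mp hqd]; exact hs)
      ⟨hbM, x, F.hx, F.hx1, hbx⟩).1
    obtain ⟨n, hnN, hbn⟩ := pcb_conj_zpowers N s hcycN (c * a₀ * c⁻¹) b ha₀N hbN ha₀o hbo
    -- `y'' = n (c z c⁻¹) n⁻¹ ∈ N_σ` commutes with `b`
    have hy''σ : n * (c * z * c⁻¹) * n⁻¹ ∈ sigmaCore N :=
      (mem_normalizer_iff.mp (Cfsg.Agent.Lib.helper71.BGA.le_normalizer_sigmaCore N hnN) _).mp hcz
    have hy''1 : n * (c * z * c⁻¹) * n⁻¹ ≠ 1 := by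
      intro h
      apply hczne
      have : c * z * c⁻¹ = n⁻¹ * (n * (c * z * c⁻¹) * n⁻¹) * n := by group
      rw [this, h]; group
    have hcomm2 : Commute (n * (c * a₀ * c⁻¹) * n⁻¹) (n * (c * z * c⁻¹) * n⁻¹) := by
      show n * (c * a₀ * c⁻¹) * n⁻¹ * (n * (c * z * c⁻¹) * n⁻¹) =
        n * (c * z * c⁻¹) * n⁻¹ * (n * (c * a₀ * c⁻¹) * n⁻¹)
      calc n * (c * a₀ * c⁻¹) * n⁻¹ * (n * (c * z * c⁻¹) * n⁻¹)
          = n * (c * a₀ * c⁻¹ * (c * z * c⁻¹)) * n⁻¹ := by group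
        _ = n * (c * z * c⁻¹ * (c * a₀ * c⁻¹)) * n⁻¹ := by rw [hcomm]
        _ = n * (c * z * c⁻¹) * n⁻¹ * (n * (c * a₀ * c⁻¹) * n⁻¹) := by group
    obtain ⟨k, hk⟩ := mem_zpowers_iff.mp hbn
    have hbcomm : Commute b (n * (c * z * c⁻¹) * n⁻¹) := by
      rw [← hk]; exact hcomm2.zpow_left k
    have hy''M : n * (c * z * c⁻¹) * n⁻¹ ∈ M := by
      apply hCb
      rw [mem_centralizer_iff]
      intro y hy
      rw [Set.mem_singleton_iff] at hy
      subst hy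
      exact hbcomm.eq
    have hmem : n * (c * z * c⁻¹) * n⁻¹ ∈ sigmaCore N ⊓ M := ⟨hy''σ, hy''M⟩
    rw [F.hdisj] at hmem
    exact hy''1 (Subgroup.mem_bot.mp hmem)

end Cfsg.Agent.Lib.helper28.BG1436
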