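import Mathlib
import Cfsg.Agent.Lib.helper12.FrobFixB
import Cfsg.Agent.Lib.helper65.Fitting

/-!
# Two pure action lemmas (for B-G 14.13 / S1436)

* `comm_sub`: for an abelian subgroup `A` normalized by `y` with `y ^ p = 1`, `|A|` prime to `p`,
  the subgroup `[A, y] = {a⁻¹ * (y a y⁻¹)}` is `y`-invariant, `y` has no nontrivial fixed point
  on it, and it is nontrivial unless `y` centralizes `A`.
* `cent_of_fpf`: if `y` of prime order acts fixed-point-freely on `U` and on `H` (coprime,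
  solvable, normalized by `U` and `y`), then `U` centralizes `H` (Frobenius–Wielandt formula).
-/

set_option autoImplicit false

namespace Cfsg.Agent.Lib.helper67.BGAct

variable {X : Type*} [Group X]

/-- the commutator subgroup `[A, y]` of an abelian subgroup normalized by `y` -/
def commSub (A : Subgroup X) (y : X) (hAc : ∀ a ∈ A, ∀ b ∈ A, a * b = b * a)
    (hyA : ∀ a ∈ A, y * a * y⁻¹ ∈ A) : Subgroup X where
  carrier := {c | ∃ a ∈ A, c = a⁻¹ * (y * a * y⁻¹)}
  one_mem' := ⟨1, A.one_mem, by simp⟩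
  mul_mem' := by
    rintro _ _ ⟨a, ha, rfl⟩ ⟨b, hb, rfl⟩
    refine ⟨a * b, A.mul_mem ha hb, ?_⟩
    have h1 : y * (a * b) * y⁻¹ = (y * a * y⁻¹) * (y * b * y⁻¹) := by group
    have h2 := hAc _ (hyA a ha) _ (A.inv_mem hb)
    have h3 := hAc _ (A.inv_mem ha) _ (A.inv_mem hb)
    rw [h1, mul_inv_rev]
    calc a⁻¹ * (y * a * y⁻¹) * (b⁻¹ * (y * b * y⁻¹))
        = a⁻¹ * ((y * a * y⁻¹) * b⁻¹) * (y * b * y⁻¹) := by group
      _ = a⁻¹ * (b⁻¹ * (y * a * y⁻¹)) * (y * b * y⁻¹) := by rw [h2]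
      _ = (a⁻¹ * b⁻¹) * ((y * a * y⁻¹) * (y * b * y⁻¹)) := by group
      _ = b⁻¹ * a⁻¹ * ((y * a * y⁻¹) * (y * b * y⁻¹)) := by rw [h3]
  inv_mem' := by
    rintro _ ⟨a, ha, rfl⟩
    refine ⟨a⁻¹, A.inv_mem ha, ?_⟩
    have h2 := hAc _ (hyA a⁻¹ (A.inv_mem ha)) a ha
    have h1 : y * a⁻¹ * y⁻¹ = (y * a * y⁻¹)⁻¹ := by group
    rw [mul_inv_rev, inv_inv, ← h1]
    exact h2

theorem mem_commSub {A : Subgroup X} {y : X} {hAc : ∀ a ∈ A, ∀ b ∈ A, a * b = b * a}
    {hyA : ∀ a ∈ A, y * a * y⁻¹ ∈ A} {c : X} :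
    c ∈ commSub A y hAc hyA ↔ ∃ a ∈ A, c = a⁻¹ * (y * a * y⁻¹) := Iff.rfl

theorem comm_sub [Finite X] (A : Subgroup X) (y : X) (p : ℕ)
    (hAc : ∀ a ∈ A, ∀ b ∈ A, a * b = b * a) (hyA : ∀ a ∈ A, y * a * y⁻¹ ∈ A)
    (hy : y ^ p = 1) (hcop : (Nat.card A).Coprime p) :
    ∃ B : Subgroup X, B ≤ A ∧ (∀ b ∈ B, y * b * y⁻¹ ∈ B) ∧ (∀ c ∈ B, y * c = c * y → c = 1) ∧
      ((∀ a ∈ A, y * a = a * y) ∨ B ≠ ⊥) := by
  refine ⟨commSub A y hAc hyA, ?_, ?_, ?_, ?_⟩
  · rintro _ ⟨a, ha, rfl⟩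
    exact A.mul_mem (A.inv_mem ha) (hyA a ha)
  · rintro _ ⟨a, ha, rfl⟩
    refine ⟨y * a * y⁻¹, hyA a ha, ?_⟩
    group
  · rintro c ⟨a, ha, rfl⟩ hc
    set c := a⁻¹ * (y * a * y⁻¹) with hcdef
    have hcA : c ∈ A := A.mul_mem (A.inv_mem ha) (hyA a ha)
    have h1 : y * a * y⁻¹ = a * c := by rw [hcdef]; group
    have h2 : y * c * y⁻¹ = c := by rw [hc]; group
    have h3 : ∀ k : ℕ, y ^ k * a * (y ^ k)⁻¹ = a * c ^ k := by
      intro k
      induction k with
      | zero => simp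
      | succ k ih =>
        have h4 : y ^ (k + 1) * a * (y ^ (k + 1))⁻¹ = y * (y ^ k * a * (y ^ k)⁻¹) * y⁻¹ := by
          rw [pow_succ']; group
        have h5 : y * c ^ k * y⁻¹ = c ^ k := by
          have : y * c ^ k * y⁻¹ = (y * c * y⁻¹) ^ k := by
            rw [conj_pow]
          rw [this, h2]
        rw [h4, ih]
        calc y * (a * c ^ k) * y⁻¹ = (y * a * y⁻¹) * (y * c ^ k * y⁻¹) := by group
          _ = a * c * c ^ k := by rw [h1, h5]
          _ = a * c ^ (k + 1) := by rw [pow_succ']; group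
    have h6 := h3 p
    rw [hy] at h6
    have h7 : c ^ p = 1 := by
      have : a * c ^ p = a := by rw [← h6]; simp
      exact mul_eq_left.mp this
    have h8 : (⟨c, hcA⟩ : A) ^ Nat.card A = 1 := pow_card_eq_one'
    have h9 : c ^ Nat.card A = 1 := by
      have h := congrArg Subtype.val h8
      rwa [Subgroup.coe_pow, Subgroup.coe_one] at h
    have h10 : orderOf c ∣ Nat.gcd (Nat.card A) p :=
      Nat.dvd_gcd (orderOf_dvd_of_pow_eq_one h9) (orderOf_dvd_of_pow_eq_one h7)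
    rw [hcop] at h10
    exact orderOf_eq_one_iff.mp (Nat.dvd_one.mp h10)
  · by_cases h : ∀ a ∈ A, y * a = a * y
    · exact Or.inl h
    · right
      push Not at h
      obtain ⟨a, ha, hne⟩ := h
      intro hB
      have h1 : a⁻¹ * (y * a * y⁻¹) ∈ commSub A y hAc hyA := ⟨a, ha, rfl⟩
      rw [hB, Subgroup.mem_bot] at h1
      apply hne
      have h2 : y * a * y⁻¹ = a := by
        have := congrArg (fun z => a * z) h1
        simpa using this
      calc y * a = (y * a * y⁻¹) * y := by group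
        _ = a * y := by rw [h2]

open Subgroup in
/-- If `y` (of prime order `p`) acts fixed-point-freely on `U` and on the solvable coprime
subgroup `H` normalized by `U` and `y`, then `U` centralizes `H`. -/
theorem cent_of_fpf [Finite X] (U H : Subgroup X) (y : X) (p : ℕ) (hp : p.Prime)
    (hy : orderOf y = p)
    (hyU : ∀ u ∈ U, y * u * y⁻¹ ∈ U) (hyH : ∀ h ∈ H, y * h * y⁻¹ ∈ H)
    (hUH : ∀ u ∈ U, ∀ h ∈ H, u * h * u⁻¹ ∈ H) (hsolv : Group.IsSolvable H)
    (hcop : (Nat.card H).Coprime (p * Nat.card U))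
    (hfpf : ∀ u ∈ U, y * u = u * y → u = 1)
    (hHy : H ⊓ centralizer ({y} : Set X) = ⊥) :
    H ≤ centralizer (U : Set X) := by
  have hy1 : y ≠ 1 := by
    intro h
    rw [h, orderOf_one] at hy
    exact hp.one_lt.ne hy
  set E : Subgroup X := zpowers y with hE
  have hEcard : Nat.card E = p := by rw [hE, Nat.card_zpowers, hy]
  have hE1 : E ≠ ⊥ := by
    intro h
    apply hy1
    have : y ∈ E := mem_zpowers y
    rw [h] at this
    exact mem_bot.mp this
  have hyUn : y ∈ normalizer (U : Set X) := by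
    have hle : U.map (MulAut.conj y).toMonoidHom ≤ U := by
      rintro _ ⟨u, hu, rfl⟩
      exact hyU u hu
    have heq : U.map (MulAut.conj y).toMonoidHom = U :=
      Subgroup.eq_of_le_of_card_ge hle
        (by rw [Subgroup.card_map_of_injective (MulAut.conj y).injective])
    rw [mem_normalizer_iff]
    intro u
    refine ⟨hyU u, fun hu => ?_⟩
    rw [← heq] at hu
    obtain ⟨v, hv, hvu⟩ := hu
    have : v = u := by
      have h1 : y * v * y⁻¹ = y * u * y⁻¹ := hvu
      have h2 := congrArg (fun z => y⁻¹ * z * y) h1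
      simpa [mul_assoc] using h2
    rwa [← this]
  have hEU : E ≤ normalizer (U : Set X) := by
    rw [hE, zpowers_le]; exact hyUn
  have hUn : ∀ e ∈ E, ∀ u ∈ U, e * u * e⁻¹ ∈ U := fun e he u hu =>
    (mem_normalizer_iff.mp (hEU he) u).mp hu
  have hfpf' : ∀ e ∈ E, e ≠ 1 → ∀ u ∈ U, e * u = u * e → u = 1 := by
    intro e he he1 u hu hcomm
    apply hfpf u hu
    -- `y ∈ zpowers e`
    have h1 : zpowers e = E := by
      have hle : zpowers e ≤ E := by rw [zpowers_le]; exact he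
      apply Subgroup.eq_of_le_of_card_ge hle
      rw [hEcard, Nat.card_zpowers]
      have h2 : orderOf e ∣ p := by
        rw [← hEcard, ← Nat.card_zpowers e]
        exact Subgroup.card_dvd_of_le hle
      rcases (Nat.dvd_prime hp).mp h2 with h3 | h3
      · exact absurd (orderOf_eq_one_iff.mp h3) he1
      · exact h3.ge
    have h4 : y ∈ zpowers e := by rw [h1]; exact mem_zpowers y
    obtain ⟨k, rfl⟩ := mem_zpowers_iff.mp h4
    have h5 : Commute e u := hcomm
    exact (h5.zpow_left k).eq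
  have hEH : E ≤ normalizer (H : Set X) := by
    rw [hE, zpowers_le]
    have hle : H.map (MulAut.conj y).toMonoidHom ≤ H := by
      rintro _ ⟨u, hu, rfl⟩
      exact hyH u hu
    have heq : H.map (MulAut.conj y).toMonoidHom = H :=
      Subgroup.eq_of_le_of_card_ge hle
        (by rw [Subgroup.card_map_of_injective (MulAut.conj y).injective])
    rw [mem_normalizer_iff]
    intro u
    refine ⟨hyH u, fun hu => ?_⟩
    rw [← heq] at hu
    obtain ⟨v, hv, hvu⟩ := hu
    have : v = u := by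
      have h1 : y * v * y⁻¹ = y * u * y⁻¹ := hvu
      have h2 := congrArg (fun z => y⁻¹ * z * y) h1
      simpa [mul_assoc] using h2
    rwa [← this]
  have hUHn : U ≤ normalizer (H : Set X) := by
    intro u hu
    have hle : H.map (MulAut.conj u).toMonoidHom ≤ H := by
      rintro _ ⟨h, hh, rfl⟩
      exact hUH u hu h hh
    have heq : H.map (MulAut.conj u).toMonoidHom = H :=
      Subgroup.eq_of_le_of_card_ge hle
        (by rw [Subgroup.card_map_of_injective (MulAut.conj u).injective])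
    rw [mem_normalizer_iff]
    intro h
    refine ⟨hUH u hu h, fun hh => ?_⟩
    rw [← heq] at hh
    obtain ⟨v, hv, hvu⟩ := hh
    have : v = h := by
      have h1 : u * v * u⁻¹ = u * h * u⁻¹ := hvu
      have h2 := congrArg (fun z => u⁻¹ * z * u) h1
      simpa [mul_assoc] using h2
    rwa [← this]
  have hHn : ∀ x ∈ U ⊔ E, ∀ h ∈ H, x * h * x⁻¹ ∈ H := fun x hx h hh =>
    (mem_normalizer_iff.mp ((sup_le hUHn hEH) hx) h).mp hh
  have hcard : Nat.card (U ⊔ E : Subgroup X) ∣ p * Nat.card U := by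
    have h1 : Nat.card (E ⊔ U : Subgroup X) ∣ Nat.card E * Nat.card U :=
      Cfsg.Agent.Lib.helper65.card_sup_dvd_mul hEU
    rwa [sup_comm, hEcard] at h1
  have hcop' : Nat.Coprime (Nat.card H) (Nat.card ↥(U ⊔ E)) :=
    Nat.Coprime.coprime_dvd_right hcard hcop
  have hff := Cfsg.Agent.Lib.helper12.ff_formula U E H hE1 hUn hfpf' hHn hsolv hcop'
  have h1 : H ⊓ centralizer (E : Set X) = ⊥ := by
    rw [eq_bot_iff, ← hHy]
    refine inf_le_inf_left _ (centralizer_le ?_)
    rw [Set.singleton_subset_iff]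
    exact mem_zpowers y
  have h2 : H ⊓ centralizer ((U ⊔ E : Subgroup X) : Set X) = ⊥ := by
    rw [eq_bot_iff, ← h1]
    exact inf_le_inf_left _ (centralizer_le (by exact_mod_cast (le_sup_right : E ≤ U ⊔ E)))
  rw [h1, h2] at hff
  simp only [Subgroup.card_bot, one_pow, one_mul] at hff
  have h3 : H ⊓ centralizer (U : Set X) = H :=
    Subgroup.eq_of_le_of_card_ge inf_le_left hff.le
  rw [← h3]
  exact inf_le_right

end Cfsg.Agent.Lib.helper67.BGAct
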