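import Mathlib
import Cfsg.Prelude.Def_GeometricClasses
import Cfsg.Prelude.Def_Classical
import Cfsg.Agent.Lib.helper17.CartanDieudonne
import Cfsg.Agent.Lib.helper69.FeNDP
import Cfsg.Agent.Lib.helper69.FeNDM

/-!
S5977 / S5978, interface hypothesis `HSQ` of block [A] (helper67): in odd characteristic the
square of every isometry of a nondegenerate quadratic form lies in `Ω` (the commutator subgroup
of the isometry group).  Proof: Cartan–Dieudonné (landed, helper17) + a group generated by
involutions has all squares in its commutator subgroup.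
-/

set_option autoImplicit false

namespace Cfsg.Agent.Lib.helper67

/-- In the subgroup generated by a set of involutions every square lies in the commutator
subgroup of the ambient group. -/
theorem h67_sq_mem_commutator {G : Type*} [Group G] (S : Set G) (hS : ∀ s ∈ S, s * s = 1)
    (x : G) (hx : x ∈ Subgroup.closure S) : x * x ∈ commutator G := by
  have key : ∀ y ∈ Subgroup.closure S,
      (Abelianization.of y : Abelianization G) * Abelianization.of y = 1 := by
    intro y hy
    induction hy using Subgroup.closure_induction with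
    | mem s hs => rw [← map_mul, hS s hs, map_one]
    | one => simp
    | mul a b _ _ ha hb => rw [map_mul, mul_mul_mul_comm, ha, hb, one_mul]
    | inv a _ ha => rw [map_inv, ← mul_inv, ha, inv_one]
  have h1 := key x hx
  rw [← map_mul] at h1
  rw [← Abelianization.ker_of]
  exact MonoidHom.mem_ker.mpr h1

/-- `HSQ` for a general nondegenerate quadratic form in odd characteristic. -/
theorem h67_hsq {ι : Type} [Fintype ι] [DecidableEq ι] {F : Type*} [Field F] (h2 : (2 : F) ≠ 0)
    (Q : (ι → F) → F) (hQ : Cfsg.Geo.IsNondegenerateQuadraticForm Q) :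
    ∀ x ∈ Cfsg.isometryGroup F Q, x * x ∈ Cfsg.Geo.omegaGL Q := by
  intro x hx
  let Q' : QuadraticForm F (ι → F) :=
    QuadraticMap.ofPolar Q (fun a v => by rw [hQ.smul, smul_eq_mul, sq])
      (fun v v' w => hQ.polar_bilinear.add_left v v' w)
      (fun a v w => by rw [hQ.polar_bilinear.smul_left, smul_eq_mul])
  have hnd : (QuadraticMap.polarBilin Q').Nondegenerate := by
    constructor
    · intro v hv
      by_contra hv0
      obtain ⟨y, hy⟩ := (hQ.nondegenerate v hv0).2
      exact hy (hv y)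
    · intro y hy
      by_contra hy0
      obtain ⟨v, hv⟩ := (hQ.nondegenerate y hy0).1
      exact hv (hy v)
  have hmem : (⟨x, hx⟩ : Cfsg.isometryGroup F ⇑Q') ∈ Cfsg.Agent.Lib.helper17.reflSubgroup Q' :=
    Cfsg.Agent.Lib.helper17.cartan_dieudonne h2 Q' hnd ⟨x, hx⟩
  have hsq := h67_sq_mem_commutator
    {g : Cfsg.isometryGroup F ⇑Q' | ∃ v, ∃ hv : Q' v ≠ 0,
      g = Cfsg.Agent.Lib.helper17.reflectionIsom Q' v hv}
    (by
      rintro s ⟨v, hv, rfl⟩
      exact Cfsg.Agent.Lib.helper17.reflectionIsom_mul_self Q' v hv) _ hmem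
  exact ⟨_, hsq, rfl⟩

theorem h67_two_ne_zero {F : Type*} [Field F] [Fintype F] (hodd : Odd (Fintype.card F)) :
    (2 : F) ≠ 0 := by
  intro h
  have h1 : ringChar F ∣ 2 := by
    have : ((2 : ℕ) : F) = 0 := by exact_mod_cast h
    exact ringChar.dvd this
  have h2 : ringChar F = 2 := by
    rcases (Nat.dvd_prime Nat.prime_two).mp h1 with h3 | h3
    · exact absurd h3 (CharP.ringChar_ne_one)
    · exact h3
  have h3 : Fintype.card F % 2 = 0 := FiniteField.even_card_iff_char_two.mp h2
  rcases hodd with ⟨k, hk⟩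
  omega

/-- `HSQ` of `h20_s5977_core` (plus type). -/
theorem h67_hsq_plus {F : Type*} [Field F] [Fintype F] {q : ℕ} (hq : Fintype.card F = q)
    (hodd : Odd q) (d : ℕ) :
    ∀ x ∈ Cfsg.isometryGroup F (Cfsg.quadFormPlus d F),
      x * x ∈ Cfsg.Geo.omegaGL (Cfsg.quadFormPlus d F) :=
  h67_hsq (h67_two_ne_zero (hq ▸ hodd)) _ (Cfsg.Agent.Lib.helper96.FE.fe_nd_plus d)

/-- `HSQ` of `h20_s5978_core` (minus type). -/
theorem h67_hsq_minus {F : Type*} [Field F] [Fintype F] {q : ℕ} (hq : Fintype.card F = q)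
    (hodd : Odd q) (m : ℕ) (a b : F)
    (hab : ∀ x y : F, x ^ 2 + a * x * y + b * y ^ 2 = 0 → x = 0 ∧ y = 0) :
    ∀ x ∈ Cfsg.isometryGroup F (Cfsg.quadFormMinus m F a b),
      x * x ∈ Cfsg.Geo.omegaGL (Cfsg.quadFormMinus m F a b) :=
  h67_hsq (h67_two_ne_zero (hq ▸ hodd)) _
    (Cfsg.Agent.Lib.helper96.FE.fe_nd_minus (h67_two_ne_zero (hq ▸ hodd)) m a b hab)

end Cfsg.Agent.Lib.helper67
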