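import Mathlib
import Cfsg.Prelude.Def_OddOrderLocal
import Cfsg.Agent.S1403
import Cfsg.Agent.S1410
import Cfsg.Agent.S1411
import Cfsg.Agent.Lib.helper8.BGTen9
import Cfsg.Agent.Lib.helper29.Trans4
import Cfsg.Agent.Lib.helper40.Cores

/-!
# The "kill" lemma for B-G S1430 (statement (I))

`mem_commutator_of_fixed`: a coprime group `V` acting on `S` with `S = [S,V]` fixes no element of
`S` of order `p` outside `[S,S]` (norm map into the abelianization).

`bg_kill`: the final contradiction of the proof of (I).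
-/

set_option autoImplicit false
open Cfsg
open scoped commutatorElement

namespace Cfsg.Agent.Lib.helper67.BGKill

variable {G : Type*} [Group G]

/-- Norm-map lemma. -/
theorem mem_commutator_of_fixed [Finite G] {p : ℕ} (S V : Subgroup G)
    (hVS : V ≤ Subgroup.normalizer (S : Set G)) (hcop : (Nat.card V).Coprime p)
    (hSV : S ≤ ⁅S, V⁆) (x : G) (hxS : x ∈ S) (hxp : x ^ p = 1)
    (hfix : ∀ v ∈ V, v * x = x * v) : x ∈ ⁅S, S⁆ := by
  classical
  haveI : Fintype ↥V := Fintype.ofFinite _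
  -- conjugation by `v` on `S`
  let φ : ↥V → (↥S →* ↥S) := fun v =>
    MonoidHom.mk' (fun s : ↥S => ⟨(v : G) * s * (v : G)⁻¹,
      (Subgroup.mem_normalizer_iff.mp (hVS v.2) s).mp s.2⟩)
      (by intro a b; apply Subtype.ext; simp [mul_assoc])
  have hφ : ∀ (v : ↥V) (s : ↥S), ((φ v s : ↥S) : G) = (v : G) * s * (v : G)⁻¹ := fun v s => rfl
  let N : ↥S →* Abelianization ↥S := ∏ v : ↥V, (Abelianization.of).comp (φ v)
  have hN : ∀ s : ↥S, N s = ∏ v : ↥V, Abelianization.of (φ v s) := by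
    intro s
    simp only [N, MonoidHom.finsetProd_apply, MonoidHom.comp_apply]
  have hNφ : ∀ (w : ↥V) (s : ↥S), N (φ w s) = N s := by
    intro w s
    rw [hN, hN]
    refine Fintype.prod_equiv (Equiv.mulRight w) _ _ ?_
    intro v
    congr 1
    apply Subtype.ext
    rw [hφ, hφ, hφ]
    simp [mul_assoc]
  -- generators of `[S,V]` lie in the kernel
  have hker : ⁅S, V⁆ ≤ (N.ker).map S.subtype := by
    rw [Subgroup.commutator_le]
    intro s hs v hv
    refine Subgroup.mem_map.mpr ⟨⟨s, hs⟩ * (φ ⟨v, hv⟩ ⟨s, hs⟩)⁻¹, ?_, ?_⟩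
    · rw [MonoidHom.mem_ker, map_mul, map_inv, hNφ, mul_inv_cancel]
    · simp only [Subgroup.coe_subtype, Subgroup.coe_mul, Subgroup.coe_inv, hφ,
        commutatorElement_def]
      group
  obtain ⟨y, hy, hyx⟩ := Subgroup.mem_map.mp (hker (hSV hxS))
  have hyx' : y = ⟨x, hxS⟩ := Subtype.ext hyx
  rw [hyx', MonoidHom.mem_ker, hN] at hy
  have hconst : ∀ v : ↥V, Abelianization.of (φ v ⟨x, hxS⟩) = Abelianization.of (⟨x, hxS⟩ : ↥S) := by
    intro v
    congr 1
    apply Subtype.ext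
    rw [hφ]
    show (v : G) * x * (v : G)⁻¹ = x
    rw [hfix v v.2, mul_inv_cancel_right]
  rw [Finset.prod_congr rfl (fun v _ => hconst v), Finset.prod_const, Finset.card_univ,
    ← Nat.card_eq_fintype_card] at hy
  have hp' : (Abelianization.of (⟨x, hxS⟩ : ↥S)) ^ p = 1 := by
    rw [← map_pow]
    have : (⟨x, hxS⟩ : ↥S) ^ p = 1 := Subtype.ext (by simpa using hxp)
    rw [this, map_one]
  have h1 := pow_gcd_eq_one.mpr ⟨hy, hp'⟩
  rw [Nat.Coprime.gcd_eq_one hcop, pow_one] at h1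
  have h2 : (⟨x, hxS⟩ : ↥S) ∈ commutator ↥S := by
    rw [← Abelianization.ker_of]
    exact h1
  have h3 : x ∈ (commutator ↥S).map S.subtype := Subgroup.mem_map.mpr ⟨_, h2, rfl⟩
  rwa [Subgroup.map_subtype_commutator] at h3


/-- An element of `O_{p',p}(X)` of order prime to `p` lies in `O_{p'}(X)`. -/
theorem mem_pPrimeCore_of_coprime {X : Type*} [Group X] [Finite X] {p : ℕ} [Fact p.Prime] {x : X}
    (h : x ∈ pPrimePCore p X) (hc : (orderOf x).Coprime p) : x ∈ pPrimeCore p X := by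
  have h1 : (QuotientGroup.mk' (pPrimeCore p X)) x ∈ pCore p (X ⧸ pPrimeCore p X) := h
  obtain ⟨j, hj⟩ := Cfsg.Agent.Lib.helper40.pCore_isPGroup p (X ⧸ pPrimeCore p X) ⟨_, h1⟩
  have hj' : ((QuotientGroup.mk' (pPrimeCore p X)) x) ^ p ^ j = 1 := congrArg Subtype.val hj
  have hk : ((QuotientGroup.mk' (pPrimeCore p X)) x) ^ orderOf x = 1 := by
    rw [← map_pow, pow_orderOf_eq_one, map_one]
  have h2 := pow_gcd_eq_one.mpr ⟨hk, hj'⟩
  have h3 : Nat.gcd (orderOf x) (p ^ j) = 1 := Nat.Coprime.pow_right j hc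
  rw [h3, pow_one] at h2
  exact (QuotientGroup.eq_one_iff x).mp h2

/-- In a maximal subgroup `L` with `p ∉ β(L)`: a commutator of elements of `L` that has order prime
to `p` and normalizes the `p`-subgroup `S ≤ L` centralizes `S`. -/
theorem comm_centralizes [Finite G] (hG : IsMinSimpleOddOrder G) (p : ℕ) [Fact p.Prime]
    (L : Subgroup G) (hL : IsCoatom L) (hpL : p ∣ Nat.card L) (hβ : p ∉ beta L)
    (S : Subgroup G) (hS : IsPGroup p S) (hSL : S ≤ L)
    (a b : G) (ha : a ∈ L) (hb : b ∈ L) (hc : (orderOf (a * b * a⁻¹ * b⁻¹)).Coprime p)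
    (hN : a * b * a⁻¹ * b⁻¹ ∈ Subgroup.normalizer (S : Set G)) :
    ∀ s ∈ S, (a * b * a⁻¹ * b⁻¹) * s = s * (a * b * a⁻¹ * b⁻¹) := by
  have hpp : p.Prime := Fact.out
  have hU : Cfsg.Agent.Lib.helper8.BGUniqHyp G :=
    fun K hK h1 h2 => Cfsg.Agent.S1403.result hG K hK h1 h2
  have hPL : Cfsg.Agent.Lib.helper8.BGPLenHyp G := by
    intro q hq H hH
    have : Fact q.Prime := ⟨hq⟩
    exact Cfsg.Agent.S1410.result hG q H hH
  obtain ⟨-, -, hkey⟩ := Cfsg.Agent.Lib.helper8.bg_beta_key hG hU hPL L hL p hpL hβ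
  set c : G := a * b * a⁻¹ * b⁻¹ with hcdef
  have hcL : c ∈ L := L.mul_mem (L.mul_mem (L.mul_mem ha hb) (L.inv_mem ha)) (L.inv_mem hb)
  have hc1 : (⟨c, hcL⟩ : ↥L) ∈ commutator ↥L := by
    have h1 : ⁅(⟨a, ha⟩ : ↥L), (⟨b, hb⟩ : ↥L)⁆ ∈ ⁅(⊤ : Subgroup ↥L), (⊤ : Subgroup ↥L)⁆ :=
      Subgroup.commutator_mem_commutator (Subgroup.mem_top _) (Subgroup.mem_top _)
    rw [← commutator_def] at h1
    have h2 : ⁅(⟨a, ha⟩ : ↥L), (⟨b, hb⟩ : ↥L)⁆ = (⟨c, hcL⟩ : ↥L) := by
      apply Subtype.ext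
      simp [commutatorElement_def, hcdef]
    rwa [h2] at h1
  have hc2 : (⟨c, hcL⟩ : ↥L) ∈ pPrimeCore p ↥L := by
    apply mem_pPrimeCore_of_coprime (hkey hc1)
    have : orderOf (⟨c, hcL⟩ : ↥L) = orderOf c := by
      rw [← Subgroup.orderOf_coe]
    rw [this]; exact hc
  set K : Subgroup G := (pPrimeCore p ↥L).map L.subtype with hK
  have hcK : c ∈ K := Subgroup.mem_map.mpr ⟨_, hc2, rfl⟩
  have hKn : L ≤ Subgroup.normalizer (K : Set G) :=
    Cfsg.Agent.Lib.helper29.le_normalizer_map_pPrimeCore L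
  have hKc : (Nat.card K).Coprime p := Cfsg.Agent.Lib.helper29.card_map_pPrimeCore_coprime L
  intro s hs
  have h1 : c * s * c⁻¹ ∈ S := (Subgroup.mem_normalizer_iff.mp hN s).mp hs
  have h2 : c * s * c⁻¹ * s⁻¹ ∈ S := S.mul_mem h1 (S.inv_mem hs)
  have h3 : c * s * c⁻¹ * s⁻¹ ∈ K := by
    have h4 : s * c⁻¹ * s⁻¹ ∈ K :=
      (Subgroup.mem_normalizer_iff.mp (hKn (hSL hs)) c⁻¹).mp (K.inv_mem hcK)
    have : c * s * c⁻¹ * s⁻¹ = c * (s * c⁻¹ * s⁻¹) := by group
    rw [this]; exact K.mul_mem hcK h4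
  have h5 : c * s * c⁻¹ * s⁻¹ = 1 := by
    obtain ⟨k, hk⟩ := hS ⟨_, h2⟩
    have hk' : (c * s * c⁻¹ * s⁻¹) ^ p ^ k = 1 := congrArg Subtype.val hk
    have h6 : orderOf (c * s * c⁻¹ * s⁻¹) ∣ p ^ k := orderOf_dvd_of_pow_eq_one hk'
    have h7 : orderOf (c * s * c⁻¹ * s⁻¹) ∣ Nat.card K := by
      have := orderOf_dvd_natCard (⟨_, h3⟩ : ↥K)
      rwa [← Subgroup.orderOf_coe] at this
    have h8 : (Nat.card K).Coprime (p ^ k) := Nat.Coprime.pow_right k hKc
    have h9 : orderOf (c * s * c⁻¹ * s⁻¹) = 1 := Nat.eq_one_of_dvd_coprimes h8 h7 h6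
    exact orderOf_eq_one_iff.mp h9
  calc c * s = (c * s * c⁻¹ * s⁻¹) * (s * c) := by group
    _ = s * c := by rw [h5, one_mul]


/-- **The kill lemma.**  `S` a Sylow `p`-subgroup of `G`, `V` a complement of `S` in `N_G(S) ≤ L`
(`L` maximal, `p ∉ β(L)`), `d ∈ V` centralizing `X ≤ S` of order `p`; `X` is the only subgroup of
order `p` commuting with `X` and `d`; `N_G(X) = C_G(X)`; `X ≰ [S,S]`.  Contradiction. -/
theorem bg_kill [Finite G] (hG : IsMinSimpleOddOrder G) (p : ℕ) [Fact p.Prime] (S : Sylow p G)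
    (X : Subgroup G) (hXS : X ≤ (S : Subgroup G)) (hX : Nat.card X = p)
    (d : G) (V : Subgroup G)
    (hV : IsComplIn (S : Subgroup G) V (Subgroup.normalizer ((S : Subgroup G) : Set G)))
    (hdV : d ∈ V) (hdX : d ∈ Subgroup.centralizer (X : Set G))
    (L : Subgroup G) (hL : IsCoatom L)
    (hNL : Subgroup.normalizer ((S : Subgroup G) : Set G) ≤ L) (hβ : p ∉ beta L)
    (huniq : ∀ X' : Subgroup G, Nat.card X' = p → X' ≤ Subgroup.centralizer (X : Set G) →
      d ∈ Subgroup.centralizer (X' : Set G) → X' = X)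
    (hNC : Subgroup.normalizer (X : Set G) ≤ Subgroup.centralizer (X : Set G))
    (hx : ¬ X ≤ ⁅(S : Subgroup G), (S : Subgroup G)⁆) : False := by
  classical
  have hpp : p.Prime := Fact.out
  have h11 := (Cfsg.Agent.S1411.result hG p S V hV).1
  obtain ⟨hSN, hVN, hSVbot, -⟩ := hV
  have hSL : (S : Subgroup G) ≤ L := hSN.trans hNL
  have hVL : V ≤ L := hVN.trans hNL
  have hSp : IsPGroup p ↥(S : Subgroup G) := S.isPGroup'
  have hpL : p ∣ Nat.card L := by
    rw [← hX]; exact Subgroup.card_dvd_of_le (hXS.trans hSL)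
  -- `|V|` is prime to `p`
  have hVcop : (Nat.card V).Coprime p := by
    rw [Nat.coprime_comm, hpp.coprime_iff_not_dvd]
    intro hdvd
    obtain ⟨v, hv⟩ := exists_prime_orderOf_dvd_card' (G := ↥V) p hdvd
    have hvo : orderOf (v : G) = p := by rw [Subgroup.orderOf_coe]; exact hv
    have hvp : IsPGroup p ↥(Subgroup.zpowers (v : G)) := by
      apply IsPGroup.of_card (n := 1)
      rw [Nat.card_zpowers, hvo, pow_one]
    have h1 := hvp.inf_normalizer_sylow S
    have h2 : (v : G) ∈ Subgroup.zpowers (v : G) ⊓ (S : Subgroup G) := by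
      rw [← h1]
      exact ⟨Subgroup.mem_zpowers _, hVN v.2⟩
    have h3 : (v : G) ∈ (S : Subgroup G) ⊓ V := ⟨h2.2, v.2⟩
    rw [hSVbot, Subgroup.mem_bot] at h3
    rw [h3, orderOf_one] at hvo
    exact hpp.one_lt.ne hvo
  have hVelt : ∀ c ∈ V, (orderOf c).Coprime p := by
    intro c hc
    have h1 := orderOf_dvd_natCard (⟨c, hc⟩ : ↥V)
    have h0 : orderOf (⟨c, hc⟩ : ↥V) = orderOf c := by
      rw [← Subgroup.orderOf_coe]
    rw [h0] at h1
    exact Nat.Coprime.coprime_dvd_left h1 hVcop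
  -- claim 1
  have claim1 : ∀ t ∈ (S : Subgroup G), d * t = t * d → ∀ v ∈ V,
      d * (v * t * v⁻¹) = (v * t * v⁻¹) * d := by
    intro t ht hdt v hv
    have ht' : v * t * v⁻¹ ∈ (S : Subgroup G) :=
      (Subgroup.mem_normalizer_iff.mp (hVN hv) t).mp ht
    have hcV : d⁻¹ * v * d⁻¹⁻¹ * v⁻¹ ∈ V :=
      V.mul_mem (V.mul_mem (V.mul_mem (V.inv_mem hdV) hv) (V.inv_mem (V.inv_mem hdV)))
        (V.inv_mem hv)
    have hcc := comm_centralizes hG p L hL hpL hβ (S : Subgroup G) hSp hSL d⁻¹ v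
      (L.inv_mem (hVL hdV)) (hVL hv) (hVelt _ hcV) (hVN hcV) (v * t * v⁻¹) ht'
    -- `v d v⁻¹ = d * c`
    have h1 : (v * d * v⁻¹) * (v * t * v⁻¹) = (v * t * v⁻¹) * (v * d * v⁻¹) := by
      have : (v * d * v⁻¹) * (v * t * v⁻¹) = v * (d * t) * v⁻¹ := by group
      rw [this, hdt]; group
    have h2 : v * d * v⁻¹ = d * (d⁻¹ * v * d⁻¹⁻¹ * v⁻¹) := by group
    rw [h2] at h1
    -- d * c * t' = t' * d * c, c * t' = t' * c
    have h3 : d * (v * t * v⁻¹) * (d⁻¹ * v * d⁻¹⁻¹ * v⁻¹)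
        = (v * t * v⁻¹) * d * (d⁻¹ * v * d⁻¹⁻¹ * v⁻¹) := by
      calc d * (v * t * v⁻¹) * (d⁻¹ * v * d⁻¹⁻¹ * v⁻¹)
          = d * ((v * t * v⁻¹) * (d⁻¹ * v * d⁻¹⁻¹ * v⁻¹)) := mul_assoc _ _ _
        _ = d * ((d⁻¹ * v * d⁻¹⁻¹ * v⁻¹) * (v * t * v⁻¹)) := by rw [hcc]
        _ = d * (d⁻¹ * v * d⁻¹⁻¹ * v⁻¹) * (v * t * v⁻¹) := (mul_assoc _ _ _).symm
        _ = (v * t * v⁻¹) * (d * (d⁻¹ * v * d⁻¹⁻¹ * v⁻¹)) := h1
        _ = (v * t * v⁻¹) * d * (d⁻¹ * v * d⁻¹⁻¹ * v⁻¹) := (mul_assoc _ _ _).symm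
    exact mul_right_cancel h3
  -- `T = C_S(d)`
  have hXd : ∀ x ∈ X, d * x = x * d := fun x hx =>
    ((Subgroup.mem_centralizer_iff.mp hdX) x hx).symm
  -- a central element of order `p` of `T`
  obtain ⟨T, hT⟩ : ∃ T : Subgroup G, T = (S : Subgroup G) ⊓ Subgroup.centralizer ({d} : Set G) :=
    ⟨_, rfl⟩
  have hTmem : ∀ t : G, t ∈ T ↔ t ∈ (S : Subgroup G) ∧ d * t = t * d := by
    intro t
    rw [hT, Subgroup.mem_inf, Subgroup.mem_centralizer_iff]
    constructor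
    · rintro ⟨h1, h2⟩; exact ⟨h1, h2 d rfl⟩
    · rintro ⟨h1, h2⟩; exact ⟨h1, fun h hh => by rw [Set.mem_singleton_iff.mp hh]; exact h2⟩
  have hXT : X ≤ T := fun x hx => (hTmem x).mpr ⟨hXS hx, hXd x hx⟩
  have hTp : IsPGroup p ↥T := hSp.to_le (by rw [hT]; exact inf_le_left)
  have hXone : 1 < Nat.card X := by rw [hX]; exact hpp.one_lt
  have hTnt : Nontrivial ↥T := by
    obtain ⟨x, hx⟩ : ∃ x : ↥X, x ≠ 1 := by
      have : Nontrivial ↥X := Finite.one_lt_card_iff_nontrivial.mp hXone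
      exact exists_ne 1
    exact ⟨⟨⟨x.1, hXT x.2⟩, 1, fun h => hx (Subtype.ext (congrArg Subtype.val h :))⟩⟩
  have hZnt : Nontrivial ↥(Subgroup.center ↥T) := hTp.center_nontrivial
  have hZp : IsPGroup p ↥(Subgroup.center ↥T) := hTp.to_subgroup _
  have hZdvd : p ∣ Nat.card ↥(Subgroup.center ↥T) := by
    rcases hZp.card_eq_or_dvd with h | h
    · exact absurd (Finite.one_lt_card_iff_nontrivial.mpr hZnt) (by rw [h]; exact lt_irrefl 1)
    · exact h
  obtain ⟨z, hz⟩ := exists_prime_orderOf_dvd_card' (G := ↥(Subgroup.center ↥T)) p hZdvd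
  obtain ⟨zG, hzG⟩ : ∃ zG : G, zG = ((z : ↥T) : G) := ⟨_, rfl⟩
  have hzo : orderOf zG = p := by
    rw [hzG, Subgroup.orderOf_coe, Subgroup.orderOf_coe]; exact hz
  have hzT : zG ∈ T := by rw [hzG]; exact (z : ↥T).2
  have hzc : ∀ t ∈ T, zG * t = t * zG := by
    intro t ht
    have h1 := Subgroup.mem_center_iff.mp z.2 ⟨t, ht⟩
    have h2 := congrArg Subtype.val h1
    rw [hzG]
    simpa using h2.symm
  have hZ1 : Subgroup.zpowers zG = X := by
    apply huniq
    · rw [Nat.card_zpowers, hzo]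
    · rw [Subgroup.zpowers_le, Subgroup.mem_centralizer_iff]
      intro x hx
      exact (hzc x (hXT hx)).symm
    · rw [Subgroup.mem_centralizer_iff]
      intro h hh
      obtain ⟨k, rfl⟩ := Subgroup.mem_zpowers_iff.mp hh
      have : Commute zG d := ((hTmem zG).mp hzT).2.symm
      exact (this.zpow_left k).eq
  have hXc : ∀ x ∈ X, ∀ t ∈ T, x * t = t * x := by
    intro x hx t ht
    rw [← hZ1] at hx
    obtain ⟨k, rfl⟩ := Subgroup.mem_zpowers_iff.mp hx
    have : Commute zG t := hzc t ht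
    exact (this.zpow_left k).eq
  -- `V` normalizes, hence centralizes, `X`
  have hfix : ∀ v ∈ V, ∀ x ∈ X, v * x = x * v := by
    intro v hv
    have hconjT : ∀ x ∈ X, v * x * v⁻¹ ∈ T := fun x hx =>
      (hTmem _).mpr ⟨(Subgroup.mem_normalizer_iff.mp (hVN hv) x).mp (hXS hx),
        claim1 x (hXS hx) (hXd x hx) v hv⟩
    have hmap : X.map (MulAut.conj v).toMonoidHom = X := by
      apply huniq
      · rw [Subgroup.card_map_of_injective (MulAut.conj v).injective, hX]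
      · rintro _ ⟨x, hx, rfl⟩
        rw [Subgroup.mem_centralizer_iff]
        intro h hh
        have : (MulAut.conj v).toMonoidHom x = v * x * v⁻¹ := by simp [MulAut.conj_apply]
        rw [this]
        exact hXc h hh _ (hconjT x hx)
      · rw [Subgroup.mem_centralizer_iff]
        rintro _ ⟨x, hx, rfl⟩
        have : (MulAut.conj v).toMonoidHom x = v * x * v⁻¹ := by simp [MulAut.conj_apply]
        rw [this]
        exact (((hTmem _).mp (hconjT x hx)).2).symm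
    have hvN : v ∈ Subgroup.normalizer (X : Set G) := by
      rw [Subgroup.mem_normalizer_iff]
      intro h
      constructor
      · intro hh
        rw [← hmap]
        exact ⟨h, hh, by simp [MulAut.conj_apply]⟩
      · intro hh
        rw [← hmap] at hh
        obtain ⟨h', hh', he⟩ := hh
        have he' : v * h' * v⁻¹ = v * h * v⁻¹ := by simpa [MulAut.conj_apply] using he
        have : h' = h := by
          have := mul_right_cancel he'
          exact mul_left_cancel this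
        rw [← this]; exact hh'
    intro x hx
    exact ((Subgroup.mem_centralizer_iff.mp (hNC hvN)) x hx).symm
  -- conclusion
  apply hx
  intro x hxX
  have hxp : x ^ p = 1 := by
    have := pow_card_eq_one' (G := ↥X) (x := ⟨x, hxX⟩)
    rw [hX] at this
    exact congrArg Subtype.val this
  exact mem_commutator_of_fixed (S : Subgroup G) V hVN hVcop h11.le x (hXS hxX) hxp
    (fun v hv => hfix v hv x hxX)

end Cfsg.Agent.Lib.helper67.BGKill
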