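import Mathlib
import Cfsg.Prelude.Def_Characters
import Cfsg.Prelude.Def_Blocks
import Cfsg.Prelude.Def_Solvable
import Cfsg.Prelude.Def_CaseTheorems

/-!
# S4471 piece C4 (race copy, helper67): `pcore_index_of_comm_normal`

A commutative normal subgroup `C` with `|G : C|` dividing `n!`, `n < 2p`: then `p ^ 2` does not
divide `|G : O_p(G)|` (the `p`-elements of `C` form a normal `p`-subgroup of `G`).
-/

set_option autoImplicit false

namespace Cfsg.Agent.Lib.helper68.BL

open Cfsg
open scoped ComplexConjugate Matrix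

universe u

/-- C4 (race copy of `pcore_index_of_comm_normal`, verbatim statement). -/
theorem helper67_pcore_index_of_comm_normal {G : Type u} [Group G] [Finite G] (p n : ℕ)
    (hp : p.Prime)
    (hn : n < 2 * p) (C : Subgroup G) [C.Normal] (hC : ∀ a ∈ C, ∀ b ∈ C, a * b = b * a)
    (hidx : C.index ∣ n.factorial) : ¬ p ^ 2 ∣ (Cfsg.pCore p G).index := by
  haveI : Fact p.Prime := ⟨hp⟩
  -- the subgroup of `p`-elements of `C`
  let S : Subgroup G :=
    { carrier := {x | x ∈ C ∧ ∃ k : ℕ, x ^ (p ^ k) = 1}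
      one_mem' := ⟨C.one_mem, 0, by simp⟩
      mul_mem' := by
        rintro x y ⟨hx, k, hk⟩ ⟨hy, l, hl⟩
        refine ⟨C.mul_mem hx hy, k + l, ?_⟩
        have hcomm : Commute x y := hC x hx y hy
        rw [hcomm.mul_pow, pow_add, pow_mul, hk, one_pow, one_mul, mul_comm (p ^ k), pow_mul, hl,
          one_pow]
      inv_mem' := by
        rintro x ⟨hx, k, hk⟩
        exact ⟨C.inv_mem hx, k, by rw [inv_pow, hk, inv_one]⟩ }
  have hSC : S ≤ C := fun x hx => hx.1
  have hSn : S.Normal := by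
    constructor
    intro x hx g
    obtain ⟨hxC, k, hk⟩ := hx
    refine ⟨‹C.Normal›.conj_mem x hxC g, k, ?_⟩
    rw [conj_pow, hk, mul_one, mul_inv_cancel]
  have hSp : IsPGroup p S := by
    rintro ⟨x, hxC, k, hk⟩
    exact ⟨k, Subtype.ext hk⟩
  have hle : S ≤ Cfsg.pCore p G := le_sSup ⟨hSn, hSp⟩
  have h1 : (Cfsg.pCore p G).index ∣ S.index := Subgroup.index_dvd_of_le hle
  have h2 : S.relIndex C * C.index = S.index := Subgroup.relIndex_mul_index hSC
  -- `p ∤ |C : S|`
  have h3 : ¬ p ∣ S.relIndex C := by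
    obtain ⟨Q⟩ : Nonempty (Sylow p C) := inferInstance
    have hQ : (Q : Subgroup C) ≤ S.subgroupOf C := by
      intro x hx
      obtain ⟨k, hk⟩ := Q.isPGroup' ⟨x, hx⟩
      rw [Subgroup.mem_subgroupOf]
      refine ⟨x.2, k, ?_⟩
      have h := congrArg (fun t : (Q : Subgroup C) => ((t : C) : G)) hk
      simpa using h
    have h4 : (S.subgroupOf C).index ∣ (Q : Subgroup C).index := Subgroup.index_dvd_of_le hQ
    intro hdvd
    exact Q.not_dvd_index (dvd_trans hdvd h4)
  intro hp2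
  have h5 : p ^ 2 ∣ S.relIndex C * C.index := h2 ▸ dvd_trans hp2 h1
  have hcop : Nat.Coprime (p ^ 2) (S.relIndex C) :=
    Nat.Coprime.pow_left 2 ((Nat.Prime.coprime_iff_not_dvd hp).mpr h3)
  have h6 : p ^ 2 ∣ C.index := hcop.dvd_of_dvd_mul_left h5
  have h7 : p ^ 2 ∣ n.factorial := dvd_trans h6 hidx
  have hlog : Nat.log p n < 2 := by
    rcases Nat.eq_zero_or_pos n with h0 | h0
    · rw [h0, Nat.log_zero_right]; norm_num
    · rw [Nat.log_lt_iff_lt_pow hp.one_lt (by omega)]
      have h2p : 2 * p ≤ p ^ 2 := by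
        rw [pow_two]; exact Nat.mul_le_mul_right p hp.two_le
      omega
  have h8 := (Nat.Prime.pow_dvd_factorial_iff hp hlog).mp h7
  have h9 : n / p < 2 := (Nat.div_lt_iff_lt_mul hp.pos).mpr hn
  simp at h8
  omega

end Cfsg.Agent.Lib.helper68.BL
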