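import Mathlib

/-!
Ito's lemma: if `A` and `B` are abelian subgroups of a group with `⟨A, B⟩ = A B` (as sets), then
the commutator subgroup `⁅A, B⁆` is abelian.
-/

set_option autoImplicit false

namespace Cfsg.Agent.Lib.helper67.Ito

open scoped commutatorElement

variable {G : Type*} [Group G]

theorem conj_commutatorElement (g x y : G) :
    g * ⁅x, y⁆ * g⁻¹ = ⁅g * x * g⁻¹, g * y * g⁻¹⁆ := by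
  rw [commutatorElement_def, commutatorElement_def]; group

/-- If `x` and `y` commute then `⁅x, z * y⁆ = ⁅x, z⁆`. -/
theorem commutatorElement_mul_right_of_comm {x y z : G} (h : x * y = y * x) :
    ⁅x, z * y⁆ = ⁅x, z⁆ := by
  have h' : y * x⁻¹ * y⁻¹ = x⁻¹ := by
    have : y * x⁻¹ = x⁻¹ * y := by
      calc y * x⁻¹ = x⁻¹ * (x * y) * x⁻¹ := by group
        _ = x⁻¹ * (y * x) * x⁻¹ := by rw [h]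
        _ = x⁻¹ * y := by group
    rw [this]; group
  calc ⁅x, z * y⁆ = x * z * (y * x⁻¹ * y⁻¹) * z⁻¹ := by rw [commutatorElement_def]; group
    _ = x * z * x⁻¹ * z⁻¹ := by rw [h']
    _ = ⁅x, z⁆ := by rw [commutatorElement_def]

/-- If `y` and `z` commute then `⁅x * y, z⁆ = ⁅x, z⁆`. -/
theorem commutatorElement_mul_left_of_comm {x y z : G} (h : y * z = z * y) :
    ⁅x * y, z⁆ = ⁅x, z⁆ := by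
  have h' : y * z * y⁻¹ = z := by rw [h]; group
  calc ⁅x * y, z⁆ = x * (y * z * y⁻¹) * x⁻¹ * z⁻¹ := by rw [commutatorElement_def]; group
    _ = x * z * x⁻¹ * z⁻¹ := by rw [h']
    _ = ⁅x, z⁆ := by rw [commutatorElement_def]

theorem conj_eq_self_of_comm {x y : G} (h : x * y = y * x) : x * y * x⁻¹ = y := by
  rw [h]; group

/-- The core computation of Ito's lemma. -/
theorem ito_elt {a a₁ a₂ a₃ b b₁ b₂ b₃ : G}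
    (haa₁ : a₁ * a = a * a₁) (haa₂ : a * a₂ = a₂ * a) (ha₁a₃ : a₁ * a₃ = a₃ * a₁)
    (ha₃a₂ : a₃ * a₂ = a₂ * a₃)
    (hbb₁ : b₁ * b = b * b₁) (hb₁b₂ : b₁ * b₂ = b₂ * b₁) (hb₃b₂ : b₃ * b₂ = b₂ * b₃)
    (hb₃b : b₃ * b = b * b₃)
    (h1 : a₁ * b * a₁⁻¹ = b₂ * a₂) (h2 : b₁ * a * b₁⁻¹ = a₃ * b₃) :
    (b₁ * a₁) * ⁅a, b⁆ * (b₁ * a₁)⁻¹ = (a₁ * b₁) * ⁅a, b⁆ * (a₁ * b₁)⁻¹ := by
  have L : (b₁ * a₁) * ⁅a, b⁆ * (b₁ * a₁)⁻¹ = ⁅a₃, b₂⁆ := by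
    calc (b₁ * a₁) * ⁅a, b⁆ * (b₁ * a₁)⁻¹ = b₁ * (a₁ * ⁅a, b⁆ * a₁⁻¹) * b₁⁻¹ := by group
      _ = b₁ * ⁅a₁ * a * a₁⁻¹, a₁ * b * a₁⁻¹⁆ * b₁⁻¹ := by rw [conj_commutatorElement]
      _ = b₁ * ⁅a, b₂ * a₂⁆ * b₁⁻¹ := by rw [conj_eq_self_of_comm haa₁, h1]
      _ = b₁ * ⁅a, b₂⁆ * b₁⁻¹ := by rw [commutatorElement_mul_right_of_comm haa₂]
      _ = ⁅b₁ * a * b₁⁻¹, b₁ * b₂ * b₁⁻¹⁆ := by rw [conj_commutatorElement]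
      _ = ⁅a₃ * b₃, b₂⁆ := by rw [h2, conj_eq_self_of_comm hb₁b₂]
      _ = ⁅a₃, b₂⁆ := commutatorElement_mul_left_of_comm hb₃b₂
  have R : (a₁ * b₁) * ⁅a, b⁆ * (a₁ * b₁)⁻¹ = ⁅a₃, b₂⁆ := by
    calc (a₁ * b₁) * ⁅a, b⁆ * (a₁ * b₁)⁻¹ = a₁ * (b₁ * ⁅a, b⁆ * b₁⁻¹) * a₁⁻¹ := by group
      _ = a₁ * ⁅b₁ * a * b₁⁻¹, b₁ * b * b₁⁻¹⁆ * a₁⁻¹ := by rw [conj_commutatorElement]
      _ = a₁ * ⁅a₃ * b₃, b⁆ * a₁⁻¹ := by rw [h2, conj_eq_self_of_comm hbb₁]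
      _ = a₁ * ⁅a₃, b⁆ * a₁⁻¹ := by rw [commutatorElement_mul_left_of_comm hb₃b]
      _ = ⁅a₁ * a₃ * a₁⁻¹, a₁ * b * a₁⁻¹⁆ := by rw [conj_commutatorElement]
      _ = ⁅a₃, b₂ * a₂⁆ := by rw [conj_eq_self_of_comm ha₁a₃, h1]
      _ = ⁅a₃, b₂⁆ := commutatorElement_mul_right_of_comm ha₃a₂
  rw [L, R]

/-- **Ito's lemma.** If `A`, `B` are abelian subgroups and every element of `A ⊔ B` is a product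
`a * b` with `a ∈ A`, `b ∈ B`, then `⁅A, B⁆` is abelian (in the form `⁅A, B⁆ ≤ C(⁅A, B⁆)`). -/
theorem commutator_le_centralizer_commutator (A B : Subgroup G)
    (hA : A ≤ Subgroup.centralizer (A : Set G)) (hB : B ≤ Subgroup.centralizer (B : Set G))
    (h : ∀ x ∈ A ⊔ B, ∃ a ∈ A, ∃ b ∈ B, x = a * b) :
    ⁅A, B⁆ ≤ Subgroup.centralizer ((⁅A, B⁆ : Subgroup G) : Set G) := by
  have cA : ∀ {x y : G}, x ∈ A → y ∈ A → x * y = y * x := fun hx hy =>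
    (Subgroup.mem_centralizer_iff.mp (hA hy)) _ hx
  have cB : ∀ {x y : G}, x ∈ B → y ∈ B → x * y = y * x := fun hx hy =>
    (Subgroup.mem_centralizer_iff.mp (hB hy)) _ hx
  -- elementwise: conjugating by `b₁ a₁` and by `a₁ b₁` agree on `⁅a, b⁆`
  have key : ∀ a ∈ A, ∀ b ∈ B, ∀ a₁ ∈ A, ∀ b₁ ∈ B,
      (b₁ * a₁) * ⁅a, b⁆ * (b₁ * a₁)⁻¹ = (a₁ * b₁) * ⁅a, b⁆ * (a₁ * b₁)⁻¹ := by
    intro a ha b hb a₁ ha₁ b₁ hb₁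
    -- a₁ b a₁⁻¹ = b₂ a₂
    have m1 : a₁ * b⁻¹ * a₁⁻¹ ∈ A ⊔ B :=
      Subgroup.mul_mem _ (Subgroup.mul_mem _ (Subgroup.mem_sup_left ha₁)
        (Subgroup.mem_sup_right (B.inv_mem hb))) (Subgroup.mem_sup_left (A.inv_mem ha₁))
    obtain ⟨a', ha', b', hb', e1⟩ := h _ m1
    have h1 : a₁ * b * a₁⁻¹ = b'⁻¹ * a'⁻¹ := by
      calc a₁ * b * a₁⁻¹ = (a₁ * b⁻¹ * a₁⁻¹)⁻¹ := by group
        _ = (a' * b')⁻¹ := by rw [e1]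
        _ = b'⁻¹ * a'⁻¹ := by group
    -- b₁ a b₁⁻¹ = a₃ b₃
    have m2 : b₁ * a * b₁⁻¹ ∈ A ⊔ B :=
      Subgroup.mul_mem _ (Subgroup.mul_mem _ (Subgroup.mem_sup_right hb₁)
        (Subgroup.mem_sup_left ha)) (Subgroup.mem_sup_right (B.inv_mem hb₁))
    obtain ⟨a₃, ha₃, b₃, hb₃, h2⟩ := h _ m2
    exact ito_elt (cA ha₁ ha) (cA ha (A.inv_mem ha')) (cA ha₁ ha₃) (cA ha₃ (A.inv_mem ha'))
      (cB hb₁ hb) (cB hb₁ (B.inv_mem hb')) (cB hb₃ (B.inv_mem hb')) (cB hb₃ hb) h1 h2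
  -- hence `⁅a, b⁆` commutes with `⁅a₁, b₁⁆`
  have comm : ∀ a ∈ A, ∀ b ∈ B, ∀ a₁ ∈ A, ∀ b₁ ∈ B, ⁅a₁, b₁⁆ * ⁅a, b⁆ = ⁅a, b⁆ * ⁅a₁, b₁⁆ := by
    intro a ha b hb a₁ ha₁ b₁ hb₁
    have k := key a ha b hb a₁⁻¹ (A.inv_mem ha₁) b₁⁻¹ (B.inv_mem hb₁)
    -- k : (b₁⁻¹ a₁⁻¹) x (b₁⁻¹ a₁⁻¹)⁻¹ = (a₁⁻¹ b₁⁻¹) x (a₁⁻¹ b₁⁻¹)⁻¹
    generalize ⁅a, b⁆ = x at k ⊢
    have e : ⁅a₁, b₁⁆ * x * ⁅a₁, b₁⁆⁻¹ = x := by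
      calc ⁅a₁, b₁⁆ * x * ⁅a₁, b₁⁆⁻¹
          = (b₁⁻¹ * a₁⁻¹)⁻¹ * ((a₁⁻¹ * b₁⁻¹) * x * (a₁⁻¹ * b₁⁻¹)⁻¹) * (b₁⁻¹ * a₁⁻¹) := by
            rw [commutatorElement_def a₁ b₁]; group
        _ = (b₁⁻¹ * a₁⁻¹)⁻¹ * ((b₁⁻¹ * a₁⁻¹) * x * (b₁⁻¹ * a₁⁻¹)⁻¹) * (b₁⁻¹ * a₁⁻¹) := by rw [k]
        _ = x := by group
    calc ⁅a₁, b₁⁆ * x = (⁅a₁, b₁⁆ * x * ⁅a₁, b₁⁆⁻¹) * ⁅a₁, b₁⁆ := by group
      _ = x * ⁅a₁, b₁⁆ := by rw [e]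
  rw [Subgroup.commutator_le]
  intro a ha b hb
  have hle : ⁅A, B⁆ ≤ Subgroup.centralizer ({⁅a, b⁆} : Set G) := by
    rw [Subgroup.commutator_le]
    intro a₁ ha₁ b₁ hb₁
    rw [Subgroup.mem_centralizer_iff]
    intro y hy
    rw [Set.mem_singleton_iff] at hy
    subst hy
    exact (comm a ha b hb a₁ ha₁ b₁ hb₁).symm
  rw [Subgroup.mem_centralizer_iff]
  intro y hy
  exact ((Subgroup.mem_centralizer_iff.mp (hle hy)) _ rfl).symm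

end Cfsg.Agent.Lib.helper67.Ito
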