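import Mathlib
import Cfsg.Prelude.Def_BaumannBlocks
import Cfsg.Agent.Lib.helper56.CLA
import Cfsg.Agent.Lib.helper67.Ito

/-!
A replacement lemma for the centres of minimal centrally large subgroups of a finite nilpotent
group, and the resulting normalization statement: a minimal centrally large subgroup `Q` whose
centre `A = C(Q)` maximizes the potential `∏_j |A ∩ γ_j|` is normalized by every element `b` for
which `⁅A, ⟨b⟩⁆` is abelian.
-/

set_option autoImplicit false

namespace Cfsg.Agent.Lib.helper67.CLRepl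

open Cfsg.Agent.Lib.helper56
open scoped Pointwise commutatorElement

variable {S : Type*} [Group S]

/-- The join of a nonempty family of subgroups of largest Chermak–Delgado measure has largest
measure. -/
theorem isCDMax_sSup [Finite S] (𝒮 : Set (Subgroup S)) (hne : 𝒮.Nonempty)
    (h : ∀ R ∈ 𝒮, IsCDMax R) : IsCDMax (sSup 𝒮) := by
  have key : ∀ (𝒯 : Set (Subgroup S)), 𝒯.Finite → (∀ R ∈ 𝒯, IsCDMax R) →
      𝒯 = ∅ ∨ IsCDMax (sSup 𝒯) := by
    intro 𝒯 hfin
    induction 𝒯, hfin using Set.Finite.induction_on with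
    | empty => intro _; exact Or.inl rfl
    | @insert a s _ _ ih =>
      intro hall
      right
      rw [sSup_insert]
      rcases ih (fun R hR => hall R (Set.mem_insert_of_mem _ hR)) with hs | hs
      · rw [hs, sSup_empty, sup_bot_eq]
        exact hall a (Set.mem_insert _ _)
      · exact (cd_main (hall a (Set.mem_insert _ _)) hs).2.1
  rcases key 𝒮 (Set.toFinite _) h with h0 | h0
  · exact absurd h0 hne.ne_empty
  · exact h0

theorem comm_of_le_centralizer {A : Subgroup S} (hA : A ≤ Subgroup.centralizer (A : Set S))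
    {x y : S} (hx : x ∈ A) (hy : y ∈ A) : x * y = y * x :=
  (Subgroup.mem_centralizer_iff.mp (hA hy)) x hx

theorem mem_map_conj_iff (H : Subgroup S) (g x : S) :
    x ∈ H.map (MulAut.conj g).toMonoidHom ↔ g⁻¹ * x * g ∈ H := by
  constructor
  · rintro ⟨h, hh, rfl⟩
    simp only [MulEquiv.coe_toMonoidHom, MulAut.conj_apply]
    have : g⁻¹ * (g * h * g⁻¹) * g = h := by group
    rw [this]; exact hh
  · intro hx
    refine ⟨g⁻¹ * x * g, hx, ?_⟩
    simp only [MulEquiv.coe_toMonoidHom, MulAut.conj_apply]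
    group

theorem conj_mem_map_conj {H : Subgroup S} (g : S) {x : S} (hx : x ∈ H) :
    g * x * g⁻¹ ∈ H.map (MulAut.conj g).toMonoidHom :=
  ⟨x, hx, by simp only [MulEquiv.coe_toMonoidHom, MulAut.conj_apply]⟩

/-- If `H^g ≤ H` for all `g` in a subgroup `B` then `B` normalizes `H`. -/
theorem le_normalizer_of_map_conj_le {B H : Subgroup S}
    (h : ∀ g ∈ B, H.map (MulAut.conj g).toMonoidHom ≤ H) :
    B ≤ Subgroup.normalizer (H : Set S) := by
  intro g hg
  rw [Subgroup.mem_normalizer_iff]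
  intro x
  constructor
  · intro hx
    exact h g hg (conj_mem_map_conj g hx)
  · intro hx
    have := h g⁻¹ (B.inv_mem hg) (conj_mem_map_conj g⁻¹ hx)
    have e : g⁻¹ * (g * x * g⁻¹) * g⁻¹⁻¹ = x := by group
    rw [e] at this
    exact this

theorem map_conj_eq_of_mem_normalizer {H : Subgroup S} {g : S}
    (hg : g ∈ Subgroup.normalizer (H : Set S)) : H.map (MulAut.conj g).toMonoidHom = H := by
  ext x
  rw [mem_map_conj_iff]
  have hg' : g⁻¹ ∈ Subgroup.normalizer (H : Set S) := Subgroup.inv_mem _ hg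
  rw [Subgroup.mem_normalizer_iff] at hg'
  have := hg' x
  rw [inv_inv] at this
  exact this.symm

/-! ### The normal closure of `A` under `⟨b⟩` -/

/-- `A ⊔ ⁅A, ⟨b⟩⁆`, the subgroup generated by the conjugates of `A` under powers of `b`. -/
def ncl (A : Subgroup S) (b : S) : Subgroup S := A ⊔ ⁅A, Subgroup.zpowers b⁆

theorem le_ncl (A : Subgroup S) (b : S) : A ≤ ncl A b := le_sup_left

theorem comm_le_ncl (A : Subgroup S) (b : S) : ⁅A, Subgroup.zpowers b⁆ ≤ ncl A b := le_sup_right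

theorem conj_mem_ncl {A : Subgroup S} {b : S} {a g : S} (ha : a ∈ A)
    (hg : g ∈ Subgroup.zpowers b) : g * a * g⁻¹ ∈ ncl A b := by
  have e : g * a * g⁻¹ = ⁅a, g⁆⁻¹ * a := by rw [commutatorElement_def]; group
  rw [e]
  exact Subgroup.mul_mem _ (Subgroup.inv_mem _ (comm_le_ncl A b
    (Subgroup.commutator_mem_commutator ha hg))) (le_ncl A b ha)

theorem map_conj_le_ncl (A : Subgroup S) (b : S) {g : S} (hg : g ∈ Subgroup.zpowers b) :
    A.map (MulAut.conj g).toMonoidHom ≤ ncl A b := by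
  rintro _ ⟨a, ha, rfl⟩
  simp only [MulEquiv.coe_toMonoidHom, MulAut.conj_apply]
  exact conj_mem_ncl ha hg

theorem ncl_eq_sSup (A : Subgroup S) (b : S) :
    ncl A b = sSup {L : Subgroup S | ∃ g ∈ Subgroup.zpowers b,
      L = A.map (MulAut.conj g).toMonoidHom} := by
  apply le_antisymm
  · have hA : A ≤ sSup {L : Subgroup S | ∃ g ∈ Subgroup.zpowers b,
        L = A.map (MulAut.conj g).toMonoidHom} := by
      refine le_sSup ⟨1, Subgroup.one_mem _, ?_⟩
      ext x
      rw [mem_map_conj_iff]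
      simp
    refine sup_le hA ?_
    rw [Subgroup.commutator_le]
    intro a ha g hg
    have e : ⁅a, g⁆ = a * (g * a⁻¹ * g⁻¹) := by rw [commutatorElement_def]; group
    rw [e]
    refine Subgroup.mul_mem _ (hA ha) ?_
    exact (le_sSup (show A.map (MulAut.conj g).toMonoidHom ∈ {L : Subgroup S |
      ∃ g ∈ Subgroup.zpowers b, L = A.map (MulAut.conj g).toMonoidHom} from ⟨g, hg, rfl⟩))
      (conj_mem_map_conj g (A.inv_mem ha))
  · apply sSup_le
    rintro L ⟨g, hg, rfl⟩
    exact map_conj_le_ncl A b hg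

theorem isCDMax_ncl [Finite S] {A : Subgroup S} (hA : IsCDMax A) (b : S) :
    IsCDMax (ncl A b) := by
  rw [ncl_eq_sSup]
  apply isCDMax_sSup
  · exact ⟨_, 1, Subgroup.one_mem _, rfl⟩
  · rintro L ⟨g, hg, rfl⟩
    exact hA.map_conj g

/-- `⟨b⟩` normalizes `ncl A b`. -/
theorem zpowers_le_normalizer_ncl (A : Subgroup S) (b : S) :
    Subgroup.zpowers b ≤ Subgroup.normalizer (ncl A b : Set S) := by
  apply le_normalizer_of_map_conj_le
  intro g hg
  unfold ncl
  rw [Subgroup.map_sup]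
  refine sup_le (map_conj_le_ncl A b hg) ?_
  have h1 : Subgroup.zpowers b ≤
      Subgroup.normalizer ((⁅A, Subgroup.zpowers b⁆ : Subgroup S) : Set S) :=
    Subgroup.normalizer_commutator_ge_right _ _
  rw [map_conj_eq_of_mem_normalizer (h1 hg)]
  exact le_sup_right

/-- Membership in the centralizer of `ncl A b` for elements of an abelian `A`. -/
theorem mem_centralizer_ncl {A : Subgroup S} (hA : A ≤ Subgroup.centralizer (A : Set S)) {b u : S}
    (hu : u ∈ A) (h : ∀ g ∈ Subgroup.zpowers b, g⁻¹ * u * g ∈ A) :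
    u ∈ Subgroup.centralizer (ncl A b : Set S) := by
  unfold ncl
  rw [centralizer_sup]
  refine Subgroup.mem_inf.mpr ⟨hA hu, ?_⟩
  have hle : ⁅A, Subgroup.zpowers b⁆ ≤ Subgroup.centralizer ({u} : Set S) := by
    rw [Subgroup.commutator_le]
    intro a ha g hg
    rw [Subgroup.mem_centralizer_iff]
    intro y hy
    rw [Set.mem_singleton_iff] at hy
    subst hy
    have hv := h g hg
    have c1 : y * a = a * y := comm_of_le_centralizer hA hu ha
    have c2 : (g⁻¹ * y * g) * a⁻¹ = a⁻¹ * (g⁻¹ * y * g) :=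
      comm_of_le_centralizer hA hv (A.inv_mem ha)
    calc y * ⁅a, g⁆ = (y * a) * g * a⁻¹ * g⁻¹ := by rw [commutatorElement_def]; group
      _ = a * g * ((g⁻¹ * y * g) * a⁻¹) * g⁻¹ := by rw [c1]; group
      _ = a * g * (a⁻¹ * (g⁻¹ * y * g)) * g⁻¹ := by rw [c2]
      _ = ⁅a, g⁆ * y := by rw [commutatorElement_def]; group
  rw [Subgroup.mem_centralizer_iff]
  intro y hy
  exact ((Subgroup.mem_centralizer_iff.mp (hle hy)) _ rfl).symm

theorem mem_normalizer_of_map_conj_eq {H : Subgroup S} {g : S}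
    (h : H.map (MulAut.conj g).toMonoidHom = H) : g ∈ Subgroup.normalizer (H : Set S) := by
  rw [Subgroup.mem_normalizer_iff]
  intro x
  have h1 := mem_map_conj_iff H g (g * x * g⁻¹)
  rw [h] at h1
  have e : g⁻¹ * (g * x * g⁻¹) * g = x := by group
  rw [e] at h1
  exact h1.symm

/-- The elements normalizing `Z` and fixing the coset `u Z` under conjugation. -/
def stab (Z : Subgroup S) (u : S) : Subgroup S where
  carrier := {g | g ∈ Subgroup.normalizer (Z : Set S) ∧ g * u * g⁻¹ * u⁻¹ ∈ Z}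
  mul_mem' := by
    rintro g h ⟨hg, hgu⟩ ⟨hh, hhu⟩
    refine ⟨Subgroup.mul_mem _ hg hh, ?_⟩
    have e : (g * h) * u * (g * h)⁻¹ * u⁻¹ =
        (g * (h * u * h⁻¹ * u⁻¹) * g⁻¹) * (g * u * g⁻¹ * u⁻¹) := by group
    rw [e]
    exact Z.mul_mem ((Subgroup.mem_normalizer_iff.mp hg _).mp hhu) hgu
  one_mem' := ⟨Subgroup.one_mem _, by simp⟩
  inv_mem' := by
    rintro g ⟨hg, hgu⟩
    refine ⟨Subgroup.inv_mem _ hg, ?_⟩
    have e : g⁻¹ * u * g⁻¹⁻¹ * u⁻¹ = g⁻¹ * (g * u * g⁻¹ * u⁻¹)⁻¹ * g⁻¹⁻¹ := by group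
    rw [e]
    exact (Subgroup.mem_normalizer_iff.mp (Subgroup.inv_mem _ hg) _).mp (Z.inv_mem hgu)

/-! ### Centres of minimal centrally large subgroups -/

section repl

variable [Finite S]

/-- Basic facts on a minimal centrally large `Q` and `A = C(Q)`. -/
theorem minCL_basic {Q : Subgroup S} (hQ : IsMinCL Q) :
    IsCDMax Q ∧ Subgroup.centralizer (Q : Set S) ≤ Q ∧
    IsCDMax (Subgroup.centralizer (Q : Set S)) ∧
    Q = Subgroup.centralizer ((Subgroup.centralizer (Q : Set S) : Subgroup S) : Set S) ∧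
    Subgroup.centralizer (Q : Set S) ≤
      Subgroup.centralizer ((Subgroup.centralizer (Q : Set S) : Subgroup S) : Set S) := by
  obtain ⟨hQcd, hZQ⟩ := hQ.1.isCDMax_and_le
  obtain ⟨-, -, -, hC, hQC, -, -⟩ := cd_main hQcd hQcd
  exact ⟨hQcd, hZQ, hC, hQC, hZQ.trans hQC.le⟩

/-- An abelian subgroup of largest measure containing `C(Q)` equals `C(Q)`. -/
theorem eq_of_abelian_isCDMax_ge {Q E : Subgroup S} (hQ : IsMinCL Q) (hE : IsCDMax E)
    (hEc : E ≤ Subgroup.centralizer (E : Set S)) (hle : Subgroup.centralizer (Q : Set S) ≤ E) :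
    E = Subgroup.centralizer (Q : Set S) := by
  obtain ⟨hQcd, hZQ, hAcd, hQC, hAc⟩ := minCL_basic hQ
  obtain ⟨-, -, -, hCE, hEC, -, -⟩ := cd_main hE hE
  have h1 : Subgroup.centralizer (E : Set S) ≤ Q := by
    have : Subgroup.centralizer (E : Set S) ≤
        Subgroup.centralizer ((Subgroup.centralizer (Q : Set S) : Subgroup S) : Set S) :=
      Subgroup.centralizer_le (fun x hx => hle hx)
    exact this.trans hQC.ge
  have h2 : IsCLMax (Subgroup.centralizer (E : Set S)) := by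
    rw [hCE.isCLMax_iff, ← hEC]
    exact hEc
  have h3 : Subgroup.centralizer (E : Set S) = Q := hQ.2 _ h1 h2
  calc E = Subgroup.centralizer ((Subgroup.centralizer (E : Set S) : Subgroup S) : Set S) := hEC
    _ = Subgroup.centralizer (Q : Set S) := by rw [h3]

/-- An abelian subgroup of largest measure of the same order as `C(Q)` is the centre of the
minimal centrally large subgroup `C(E)`. -/
theorem isMinCL_centralizer_of_card {Q E : Subgroup S} (hQ : IsMinCL Q) (hE : IsCDMax E)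
    (hEc : E ≤ Subgroup.centralizer (E : Set S))
    (hcard : Nat.card E = Nat.card ↥(Subgroup.centralizer (Q : Set S))) :
    IsMinCL (Subgroup.centralizer (E : Set S)) := by
  obtain ⟨hQcd, hZQ, hAcd, hQC, hAc⟩ := minCL_basic hQ
  obtain ⟨-, -, -, hCE, hEC, -, -⟩ := cd_main hE hE
  have hCL : IsCLMax (Subgroup.centralizer (E : Set S)) := by
    rw [hCE.isCLMax_iff, ← hEC]; exact hEc
  obtain ⟨R, hRle, hR⟩ := hCL.exists_isMinCL_le
  obtain ⟨-, hcardR, -⟩ := hR.uniform hQ
  have h1 : cdm E = cdm Q := hE.cdm_eq hQcd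
  unfold cdm at h1
  rw [hcard] at h1
  have h2 : Nat.card ↥(Subgroup.centralizer (E : Set S)) = Nat.card Q := by
    have : Nat.card ↥(Subgroup.centralizer (Q : Set S)) *
        Nat.card ↥(Subgroup.centralizer (E : Set S)) =
        Nat.card ↥(Subgroup.centralizer (Q : Set S)) * Nat.card Q := by rw [h1, mul_comm]
    exact Nat.eq_of_mul_eq_mul_left Nat.card_pos this
  have h3 : R = Subgroup.centralizer (E : Set S) :=
    Subgroup.eq_of_le_of_card_ge hRle (by rw [hcardR, h2])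
  rw [← h3]; exact hR

/-- `K = ⟨A^{b^i} : i⟩` for `A = C(Q)`. -/
def rK (Q : Subgroup S) (b : S) : Subgroup S := ncl (Subgroup.centralizer (Q : Set S)) b

/-- `Z = Z(K)`. -/
def rZ (Q : Subgroup S) (b : S) : Subgroup S :=
  rK Q b ⊓ Subgroup.centralizer (rK Q b : Set S)

/-- The replacement `A* = ⁅A, ⟨b⟩⁆ Z(K)` of `A = C(Q)`. -/
def rA (Q : Subgroup S) (b : S) : Subgroup S :=
  ⁅Subgroup.centralizer (Q : Set S), Subgroup.zpowers b⁆ ⊔ rZ Q b

omit [Finite S] in
theorem rZ_le_rK (Q : Subgroup S) (b : S) : rZ Q b ≤ rK Q b := inf_le_left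

omit [Finite S] in
theorem rZ_le_centralizer_rK (Q : Subgroup S) (b : S) :
    rZ Q b ≤ Subgroup.centralizer (rK Q b : Set S) := inf_le_right

omit [Finite S] in
theorem rZ_abelian (Q : Subgroup S) (b : S) :
    rZ Q b ≤ Subgroup.centralizer (rZ Q b : Set S) :=
  (rZ_le_centralizer_rK Q b).trans (Subgroup.centralizer_le (fun x hx => rZ_le_rK Q b hx))

omit [Finite S] in
theorem rK_coe (Q : Subgroup S) (b : S) :
    ((rK Q b : Subgroup S) : Set S) = (Subgroup.centralizer (Q : Set S) : Set S) *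
      ((⁅Subgroup.centralizer (Q : Set S), Subgroup.zpowers b⁆ : Subgroup S) : Set S) :=
  Subgroup.coe_mul_of_left_le_normalizer_right _ _ (Subgroup.normalizer_commutator_ge_left _ _)

theorem isCDMax_rK {Q : Subgroup S} (hQ : IsMinCL Q) (b : S) : IsCDMax (rK Q b) :=
  isCDMax_ncl (minCL_basic hQ).2.2.1 b

theorem isCDMax_rZ {Q : Subgroup S} (hQ : IsMinCL Q) (b : S) : IsCDMax (rZ Q b) := by
  have hK := isCDMax_rK hQ b
  exact (cd_main hK (cd_main hK hK).2.2.2.1).2.2.1

/-- `Z(K) ≤ A`. -/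
theorem rZ_le {Q : Subgroup S} (hQ : IsMinCL Q) (b : S) :
    rZ Q b ≤ Subgroup.centralizer (Q : Set S) := by
  obtain ⟨hQcd, hZQ, hAcd, hQC, hAc⟩ := minCL_basic hQ
  have hZcd := isCDMax_rZ hQ b
  have h1 : rZ Q b ≤
      Subgroup.centralizer ((Subgroup.centralizer (Q : Set S) : Subgroup S) : Set S) :=
    (rZ_le_centralizer_rK Q b).trans (Subgroup.centralizer_le (fun x hx => le_ncl _ b hx))
  have hE : IsCDMax (Subgroup.centralizer (Q : Set S) ⊔ rZ Q b) := (cd_main hAcd hZcd).2.1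
  have hEc : Subgroup.centralizer (Q : Set S) ⊔ rZ Q b ≤
      Subgroup.centralizer ((Subgroup.centralizer (Q : Set S) ⊔ rZ Q b : Subgroup S) : Set S) := by
    rw [centralizer_sup]
    exact sup_le (le_inf hAc (Subgroup.le_centralizer_iff.mp h1)) (le_inf h1 (rZ_abelian Q b))
  have := eq_of_abelian_isCDMax_ge hQ hE hEc le_sup_left
  exact le_sup_right.trans this.le

/-- `C_K(A) = A`. -/
theorem rK_inf {Q : Subgroup S} (hQ : IsMinCL Q) (b : S)
    (hY : ⁅Subgroup.centralizer (Q : Set S), Subgroup.zpowers b⁆ ≤ Subgroup.centralizer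
      ((⁅Subgroup.centralizer (Q : Set S), Subgroup.zpowers b⁆ : Subgroup S) : Set S)) :
    rK Q b ⊓ Q = Subgroup.centralizer (Q : Set S) := by
  obtain ⟨hQcd, hZQ, hAcd, hQC, hAc⟩ := minCL_basic hQ
  have hKcd := isCDMax_rK hQ b
  have hE : IsCDMax (rK Q b ⊓ Q) := (cd_main hKcd hQcd).2.2.1
  have hAE : Subgroup.centralizer (Q : Set S) ≤ rK Q b ⊓ Q := le_inf (le_ncl _ b) hZQ
  have hset := rK_coe Q b
  have hEc : rK Q b ⊓ Q ≤ Subgroup.centralizer ((rK Q b ⊓ Q : Subgroup S) : Set S) := by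
    intro x hx
    obtain ⟨hxK, hxQ⟩ := Subgroup.mem_inf.mp hx
    have hx' : x ∈ (Subgroup.centralizer (Q : Set S) : Set S) *
        ((⁅Subgroup.centralizer (Q : Set S), Subgroup.zpowers b⁆ : Subgroup S) : Set S) := by
      rw [← hset]; exact hxK
    obtain ⟨a, ha, y, hy, rfl⟩ := hx'
    have ha' : a ∈ Subgroup.centralizer ((rK Q b ⊓ Q : Subgroup S) : Set S) :=
      (Subgroup.centralizer_le (fun z hz => (Subgroup.mem_inf.mp hz).2)) ha
    have hyQ : y ∈ Q := by
      have := Q.mul_mem (Q.inv_mem (hZQ ha)) hxQ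
      simpa using this
    have hyK : y ∈ Subgroup.centralizer (rK Q b : Set S) := by
      unfold rK ncl
      rw [centralizer_sup]
      refine Subgroup.mem_inf.mpr ⟨?_, hY hy⟩
      rw [← hQC]; exact hyQ
    have hy' : y ∈ Subgroup.centralizer ((rK Q b ⊓ Q : Subgroup S) : Set S) :=
      (Subgroup.centralizer_le (fun z hz => (Subgroup.mem_inf.mp hz).1)) hyK
    exact Subgroup.mul_mem _ ha' hy'
  exact eq_of_abelian_isCDMax_ge hQ hE hEc hAE

omit [Finite S] in
theorem repl_arith {q z ck a k i y a' : ℕ} (hck : 0 < ck) (hi : 0 < i) (hk : 0 < k)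
    (e1 : q * z = ck * a) (e2 : k * ck = a * q) (e4 : k * i = a * y) (e5 : a' * i = y * z) :
    a' = a := by
  have h1 : k * z * ck = a * a * ck := by
    calc k * z * ck = (k * ck) * z := by ring
      _ = a * (q * z) := by rw [e2]; ring
      _ = a * a * ck := by rw [e1]; ring
  have h2 : k * z = a * a := Nat.eq_of_mul_eq_mul_right hck h1
  have h3 : a' * (i * k) = a * (i * k) := by
    calc a' * (i * k) = (a' * i) * k := by ring
      _ = y * (k * z) := by rw [e5]; ring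
      _ = a * (a * y) := by rw [h2]; ring
      _ = a * (i * k) := by rw [← e4]; ring
  exact Nat.eq_of_mul_eq_mul_right (Nat.mul_pos hi hk) h3

/-- The replacement `A*` is abelian, of largest measure, and of the same order as `A`. -/
theorem rA_props {Q : Subgroup S} (hQ : IsMinCL Q) (b : S)
    (hY : ⁅Subgroup.centralizer (Q : Set S), Subgroup.zpowers b⁆ ≤ Subgroup.centralizer
      ((⁅Subgroup.centralizer (Q : Set S), Subgroup.zpowers b⁆ : Subgroup S) : Set S)) :
    IsCDMax (rA Q b) ∧ rA Q b ≤ Subgroup.centralizer (rA Q b : Set S) ∧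
    Nat.card (rA Q b) = Nat.card ↥(Subgroup.centralizer (Q : Set S)) := by
  obtain ⟨hQcd, hZQ, hAcd, hQC, hAc⟩ := minCL_basic hQ
  have hKcd := isCDMax_rK hQ b
  obtain ⟨-, -, -, hCKcd, hKC, -, -⟩ := cd_main hKcd hKcd
  obtain ⟨-, -, -, -, -, hsetCK, hCZ⟩ := cd_main hKcd hCKcd
  have hZA := rZ_le hQ b
  have hKQ := rK_inf hQ b hY
  have hAK : Subgroup.centralizer (Q : Set S) ≤ rK Q b := le_ncl _ b
  have hYK : ⁅Subgroup.centralizer (Q : Set S), Subgroup.zpowers b⁆ ≤ rK Q b := comm_le_ncl _ b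
  have hCKQ : Subgroup.centralizer (rK Q b : Set S) ≤ Q := by
    have : Subgroup.centralizer (rK Q b : Set S) ≤
        Subgroup.centralizer ((Subgroup.centralizer (Q : Set S) : Subgroup S) : Set S) :=
      Subgroup.centralizer_le (fun x hx => hAK hx)
    exact this.trans hQC.ge
  -- `Q = C(K) A`
  have hQset : (Q : Set S) = (Subgroup.centralizer (rK Q b : Set S) : Set S) *
      (Subgroup.centralizer (Q : Set S) : Set S) := by
    apply Set.Subset.antisymm
    · intro x hx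
      have hxCZ : x ∈ Subgroup.centralizer (rZ Q b : Set S) := by
        have : x ∈ Subgroup.centralizer ((Subgroup.centralizer (Q : Set S) : Subgroup S) : Set S) :=
          hQC.le hx
        exact (Subgroup.centralizer_le (fun z hz => hZA hz)) this
      have hx2 : x ∈ (Subgroup.centralizer (rK Q b : Set S) : Set S) *
          (Subgroup.centralizer ((Subgroup.centralizer (rK Q b : Set S) : Subgroup S) : Set S) :
            Set S) := by
        rw [← hsetCK, ← hCZ]; exact hxCZ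
      obtain ⟨c, hc, k, hk, rfl⟩ := hx2
      have hkK : k ∈ rK Q b := hKC.ge hk
      have hkQ : k ∈ Q := by
        have := Q.mul_mem (Q.inv_mem (hCKQ hc)) hx
        simpa using this
      have hkA : k ∈ Subgroup.centralizer (Q : Set S) := by
        rw [← hKQ]; exact Subgroup.mem_inf.mpr ⟨hkK, hkQ⟩
      exact Set.mul_mem_mul hc hkA
    · rintro _ ⟨c, hc, a, ha, rfl⟩
      exact Q.mul_mem (hCKQ hc) (hZQ ha)
  have e1 : Nat.card Q * Nat.card (rZ Q b) =
      Nat.card ↥(Subgroup.centralizer (rK Q b : Set S)) *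
        Nat.card ↥(Subgroup.centralizer (Q : Set S)) := by
    have h := card_mul_set_mul_card_inf (Subgroup.centralizer (rK Q b : Set S))
      (Subgroup.centralizer (Q : Set S))
    rw [← hQset] at h
    have hinf : Subgroup.centralizer (rK Q b : Set S) ⊓ Subgroup.centralizer (Q : Set S) =
        rZ Q b := by
      apply le_antisymm
      · intro x hx
        exact Subgroup.mem_inf.mpr ⟨hAK (Subgroup.mem_inf.mp hx).2, (Subgroup.mem_inf.mp hx).1⟩
      · exact le_inf (rZ_le_centralizer_rK Q b) hZA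
    rw [hinf] at h
    exact h
  have e2 : Nat.card (rK Q b) * Nat.card ↥(Subgroup.centralizer (rK Q b : Set S)) =
      Nat.card ↥(Subgroup.centralizer (Q : Set S)) * Nat.card Q := by
    have h : cdm (rK Q b) = cdm (Subgroup.centralizer (Q : Set S)) := hKcd.cdm_eq hAcd
    unfold cdm at h
    rw [← hQC] at h
    exact h
  have e4 : Nat.card (rK Q b) * Nat.card ↥(Subgroup.centralizer (Q : Set S) ⊓
        ⁅Subgroup.centralizer (Q : Set S), Subgroup.zpowers b⁆) =
      Nat.card ↥(Subgroup.centralizer (Q : Set S)) *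
        Nat.card ↥⁅Subgroup.centralizer (Q : Set S), Subgroup.zpowers b⁆ := by
    have h := card_mul_set_mul_card_inf (Subgroup.centralizer (Q : Set S))
      ⁅Subgroup.centralizer (Q : Set S), Subgroup.zpowers b⁆
    rw [← rK_coe] at h
    exact h
  have hYZ : ⁅Subgroup.centralizer (Q : Set S), Subgroup.zpowers b⁆ ≤
      Subgroup.centralizer (rZ Q b : Set S) := by
    have : rZ Q b ≤ Subgroup.centralizer
        ((⁅Subgroup.centralizer (Q : Set S), Subgroup.zpowers b⁆ : Subgroup S) : Set S) :=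
      (rZ_le_centralizer_rK Q b).trans (Subgroup.centralizer_le (fun x hx => hYK hx))
    exact Subgroup.le_centralizer_iff.mp this
  have hset' : ((rA Q b : Subgroup S) : Set S) =
      ((⁅Subgroup.centralizer (Q : Set S), Subgroup.zpowers b⁆ : Subgroup S) : Set S) *
        (rZ Q b : Set S) :=
    Subgroup.coe_mul_of_left_le_normalizer_right _ _
      (hYZ.trans (Subgroup.centralizer_le_normalizer _))
  have e6 : Subgroup.centralizer (Q : Set S) ⊓
      ⁅Subgroup.centralizer (Q : Set S), Subgroup.zpowers b⁆ =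
      ⁅Subgroup.centralizer (Q : Set S), Subgroup.zpowers b⁆ ⊓ rZ Q b := by
    apply le_antisymm
    · intro x hx
      obtain ⟨hxA, hxY⟩ := Subgroup.mem_inf.mp hx
      refine Subgroup.mem_inf.mpr ⟨hxY, Subgroup.mem_inf.mpr ⟨hAK hxA, ?_⟩⟩
      unfold rK ncl
      rw [centralizer_sup]
      exact Subgroup.mem_inf.mpr ⟨hAc hxA, hY hxY⟩
    · exact le_inf (inf_le_right.trans hZA) inf_le_left
  have e5 : Nat.card (rA Q b) * Nat.card ↥(Subgroup.centralizer (Q : Set S) ⊓
        ⁅Subgroup.centralizer (Q : Set S), Subgroup.zpowers b⁆) =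
      Nat.card ↥⁅Subgroup.centralizer (Q : Set S), Subgroup.zpowers b⁆ *
        Nat.card (rZ Q b) := by
    have h := card_mul_set_mul_card_inf ⁅Subgroup.centralizer (Q : Set S), Subgroup.zpowers b⁆
      (rZ Q b)
    rw [← hset', ← e6] at h
    exact h
  have hcard : Nat.card (rA Q b) = Nat.card ↥(Subgroup.centralizer (Q : Set S)) :=
    repl_arith Nat.card_pos Nat.card_pos Nat.card_pos e1 e2 e4 e5
  have hA'K : rA Q b ≤ rK Q b := sup_le hYK (rZ_le_rK Q b)
  have hA'c : rA Q b ≤ Subgroup.centralizer (rA Q b : Set S) := by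
    unfold rA
    rw [centralizer_sup]
    exact sup_le (le_inf hY hYZ)
      (le_inf (Subgroup.le_centralizer_iff.mp hYZ) (rZ_abelian Q b))
  have hsub : Subgroup.centralizer (rK Q b : Set S) ⊔ rA Q b ≤
      Subgroup.centralizer (rA Q b : Set S) :=
    sup_le (Subgroup.centralizer_le (fun x hx => hA'K hx)) hA'c
  have h5 := card_mul_card_le (Subgroup.centralizer (rK Q b : Set S)) (rA Q b)
  have h6 : Nat.card ↥(Subgroup.centralizer (rK Q b : Set S) ⊓ rA Q b) ≤ Nat.card (rZ Q b) :=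
    Subgroup.card_le_of_le (fun x hx => Subgroup.mem_inf.mpr
      ⟨hA'K (Subgroup.mem_inf.mp hx).2, (Subgroup.mem_inf.mp hx).1⟩)
  have h7 : Nat.card ↥(Subgroup.centralizer (rK Q b : Set S) ⊔ rA Q b) ≤
      Nat.card ↥(Subgroup.centralizer (rA Q b : Set S)) := Subgroup.card_le_of_le hsub
  have h8 : Nat.card Q ≤ Nat.card ↥(Subgroup.centralizer (rA Q b : Set S)) := by
    have : Nat.card Q * Nat.card (rZ Q b) ≤
        Nat.card ↥(Subgroup.centralizer (rA Q b : Set S)) * Nat.card (rZ Q b) := by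
      calc Nat.card Q * Nat.card (rZ Q b)
          = Nat.card ↥(Subgroup.centralizer (rK Q b : Set S)) *
              Nat.card ↥(Subgroup.centralizer (Q : Set S)) := e1
        _ = Nat.card ↥(Subgroup.centralizer (rK Q b : Set S)) * Nat.card (rA Q b) := by
            rw [hcard]
        _ ≤ Nat.card ↥(Subgroup.centralizer (rK Q b : Set S) ⊔ rA Q b) *
              Nat.card ↥(Subgroup.centralizer (rK Q b : Set S) ⊓ rA Q b) := h5
        _ ≤ _ := Nat.mul_le_mul h7 h6
    exact Nat.le_of_mul_le_mul_right this Nat.card_pos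
  refine ⟨isCDMax_of_cdm_ge hAcd ?_, hA'c, hcard⟩
  unfold cdm
  rw [hcard, ← hQC]
  exact Nat.mul_le_mul_left _ h8

omit [Finite S] in
/-- `b` normalizes `Z(K)`. -/
theorem mem_normalizer_rZ (Q : Subgroup S) (b : S) :
    b ∈ Subgroup.normalizer (rZ Q b : Set S) := by
  have hbK : b ∈ Subgroup.normalizer (rK Q b : Set S) :=
    zpowers_le_normalizer_ncl _ b (Subgroup.mem_zpowers b)
  have h1 := map_conj_eq_of_mem_normalizer hbK
  have h2 := centralizer_map_conj (rK Q b) b
  rw [h1] at h2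
  apply mem_normalizer_of_map_conj_eq
  unfold rZ
  rw [Subgroup.map_inf_eq _ _ _ (MulAut.conj b).injective, h1, ← h2]

/-- The key property of `Z(K)`: if `u ∈ A` and `u^b ≡ u` modulo `Z(K)` then `u ∈ Z(K)`. -/
theorem mem_rZ_of_comm {Q : Subgroup S} (hQ : IsMinCL Q) (b : S) {u : S}
    (hu : u ∈ Subgroup.centralizer (Q : Set S)) (h : b * u * b⁻¹ * u⁻¹ ∈ rZ Q b) :
    u ∈ rZ Q b := by
  obtain ⟨hQcd, hZQ, hAcd, hQC, hAc⟩ := minCL_basic hQ
  have hZA := rZ_le hQ b
  have hbL : b ∈ stab (rZ Q b) u := ⟨mem_normalizer_rZ Q b, h⟩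
  have hzp : Subgroup.zpowers b ≤ stab (rZ Q b) u := Subgroup.zpowers_le.mpr hbL
  refine Subgroup.mem_inf.mpr ⟨le_ncl _ b hu, mem_centralizer_ncl hAc hu ?_⟩
  intro g hg
  have hg' : g⁻¹ ∈ stab (rZ Q b) u := hzp (Subgroup.inv_mem _ hg)
  have h1 : g⁻¹ * u * g⁻¹⁻¹ * u⁻¹ ∈ rZ Q b := hg'.2
  have h2 : g⁻¹ * u * g = (g⁻¹ * u * g⁻¹⁻¹ * u⁻¹) * u := by group
  rw [h2]
  exact Subgroup.mul_mem _ (hZA h1) hu

/-- If `Z(K) = A` then `b` normalizes `Q`. -/
theorem mem_normalizer_of_rZ_eq {Q : Subgroup S} (hQ : IsMinCL Q) (b : S)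
    (h : rZ Q b = Subgroup.centralizer (Q : Set S)) : b ∈ Subgroup.normalizer (Q : Set S) := by
  obtain ⟨hQcd, hZQ, hAcd, hQC, hAc⟩ := minCL_basic hQ
  have h1 := map_conj_eq_of_mem_normalizer (mem_normalizer_rZ Q b)
  rw [h] at h1
  have h2 := centralizer_map_conj (Subgroup.centralizer (Q : Set S)) b
  rw [h1, ← hQC] at h2
  exact mem_normalizer_of_map_conj_eq h2.symm

omit [Finite S] in
/-- A counting lemma: if `f` maps `X` into `W` and `f x ≡ f x'` modulo `V` forces `x ≡ x'` modulo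
`U`, then `|X| |V| ≤ |W| |U|`. -/
theorem card_mul_le_of_fiber {G : Type*} [Group G] [Finite G] (X W U V : Subgroup G) (f : G → G)
    (hf : ∀ x ∈ X, f x ∈ W) (hV : V ≤ W)
    (hfib : ∀ x ∈ X, ∀ x' ∈ X, (f x)⁻¹ * f x' ∈ V → x⁻¹ * x' ∈ U) :
    Nat.card X * Nat.card V ≤ Nat.card W * Nat.card U := by
  classical
  rw [← Nat.card_prod, ← Nat.card_prod]
  let c : G → G := fun w => if h : ∃ x ∈ X, (f x)⁻¹ * w ∈ V then h.choose else 1
  have hc : ∀ w, (∃ x ∈ X, (f x)⁻¹ * w ∈ V) → c w ∈ X ∧ (f (c w))⁻¹ * w ∈ V := by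
    intro w h
    have : c w = h.choose := dif_pos h
    rw [this]; exact h.choose_spec
  have hU : ∀ p : X × V, (c (f (p.1 : G) * (p.2 : G)))⁻¹ * (p.1 : G) ∈ U := by
    intro p
    have hex : ∃ x ∈ X, (f x)⁻¹ * (f (p.1 : G) * (p.2 : G)) ∈ V :=
      ⟨p.1, p.1.2, by rw [inv_mul_cancel_left]; exact p.2.2⟩
    obtain ⟨h1, h2⟩ := hc _ hex
    apply hfib _ h1 _ p.1.2
    have e : (f (c (f (p.1 : G) * (p.2 : G))))⁻¹ * f (p.1 : G) =
        ((f (c (f (p.1 : G) * (p.2 : G))))⁻¹ * (f (p.1 : G) * (p.2 : G))) * (p.2 : G)⁻¹ := by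
      group
    rw [e]; exact V.mul_mem h2 (V.inv_mem p.2.2)
  have hW : ∀ p : X × V, f (p.1 : G) * (p.2 : G) ∈ W := fun p =>
    W.mul_mem (hf _ p.1.2) (hV p.2.2)
  refine Nat.card_le_card_of_injective (fun p : X × V =>
    ((⟨f (p.1 : G) * (p.2 : G), hW p⟩ : W),
     (⟨(c (f (p.1 : G) * (p.2 : G)))⁻¹ * (p.1 : G), hU p⟩ : U))) ?_
  rintro ⟨x, v⟩ ⟨x', v'⟩ h
  simp only [Prod.mk.injEq, Subtype.mk.injEq] at h
  obtain ⟨h1, h2⟩ := h
  rw [h1] at h2
  have hx : (x : G) = x' := mul_left_cancel h2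
  have hxx : x = x' := Subtype.ext hx
  subst hxx
  have hv : (v : G) = v' := mul_left_cancel h1
  exact Prod.ext rfl (Subtype.ext hv)

/-- The counting inequality between consecutive terms of the lower central series. -/
theorem repl_count {Q : Subgroup S} (hQ : IsMinCL Q) (b : S) (j : ℕ) :
    Nat.card ↥(Subgroup.centralizer (Q : Set S) ⊓ (⊤ : Subgroup S).lowerCentralSeries j) *
        Nat.card ↥(rZ Q b ⊓ (⊤ : Subgroup S).lowerCentralSeries (j + 1)) ≤
      Nat.card ↥(rA Q b ⊓ (⊤ : Subgroup S).lowerCentralSeries (j + 1)) *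
        Nat.card ↥(rZ Q b ⊓ (⊤ : Subgroup S).lowerCentralSeries j) := by
  apply card_mul_le_of_fiber _ _ _ _ (fun x => ⁅x, b⁆)
  · intro x hx
    obtain ⟨hxA, hxγ⟩ := Subgroup.mem_inf.mp hx
    refine Subgroup.mem_inf.mpr ⟨?_, ?_⟩
    · exact (le_sup_left : _ ≤ rA Q b)
        (Subgroup.commutator_mem_commutator hxA (Subgroup.mem_zpowers b))
    · rw [Subgroup.lowerCentralSeries_succ]
      exact Subgroup.commutator_mem_commutator hxγ (Subgroup.mem_top b)
  · exact inf_le_inf_right _ (le_sup_right : rZ Q b ≤ rA Q b)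
  · intro x hx x' hx' h
    obtain ⟨hxA, hxγ⟩ := Subgroup.mem_inf.mp hx
    obtain ⟨hxA', hxγ'⟩ := Subgroup.mem_inf.mp hx'
    obtain ⟨hz, -⟩ := Subgroup.mem_inf.mp h
    refine Subgroup.mem_inf.mpr ⟨?_, Subgroup.mul_mem _ (Subgroup.inv_mem _ hxγ) hxγ'⟩
    apply mem_rZ_of_comm hQ b (Subgroup.mul_mem _ (Subgroup.inv_mem _ hxA) hxA')
    have hz' : (⁅x, b⁆⁻¹ * ⁅x', b⁆)⁻¹ ∈ rZ Q b := Subgroup.inv_mem _ hz
    have hσ : b * x * b⁻¹ ∈ rK Q b := conj_mem_ncl hxA (Subgroup.mem_zpowers b)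
    have hcomm : (b * x * b⁻¹) * (⁅x, b⁆⁻¹ * ⁅x', b⁆)⁻¹ =
        (⁅x, b⁆⁻¹ * ⁅x', b⁆)⁻¹ * (b * x * b⁻¹) :=
      (Subgroup.mem_centralizer_iff.mp (rZ_le_centralizer_rK Q b hz')) _ hσ
    have e : b * (x⁻¹ * x') * b⁻¹ * (x⁻¹ * x')⁻¹ =
        (b * x * b⁻¹)⁻¹ * ((⁅x, b⁆⁻¹ * ⁅x', b⁆)⁻¹ * (b * x * b⁻¹)) := by
      rw [commutatorElement_def, commutatorElement_def]; group
    rw [e, ← hcomm, inv_mul_cancel_left]
    exact hz'

/-- The potential `∏_{j < N} |E ∩ γ_j|`. -/
noncomputable def pot (N : ℕ) (E : Subgroup S) : ℕ :=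
  ∏ j ∈ Finset.range N, Nat.card ↥(E ⊓ (⊤ : Subgroup S).lowerCentralSeries j)

omit [Finite S] in
theorem prod_ineq (a a' z : ℕ → ℕ) (h : ∀ j, a j * z (j + 1) ≤ a' (j + 1) * z j) (n : ℕ) :
    (∏ j ∈ Finset.range n, a j) * z n ≤ (∏ j ∈ Finset.range n, a' (j + 1)) * z 0 := by
  induction n with
  | zero => simp
  | succ n ih =>
    rw [Finset.prod_range_succ, Finset.prod_range_succ]
    calc (∏ j ∈ Finset.range n, a j) * a n * z (n + 1)
        = (∏ j ∈ Finset.range n, a j) * (a n * z (n + 1)) := by ring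
      _ ≤ (∏ j ∈ Finset.range n, a j) * (a' (n + 1) * z n) := Nat.mul_le_mul_left _ (h n)
      _ = ((∏ j ∈ Finset.range n, a j) * z n) * a' (n + 1) := by ring
      _ ≤ ((∏ j ∈ Finset.range n, a' (j + 1)) * z 0) * a' (n + 1) := Nat.mul_le_mul_right _ ih
      _ = (∏ j ∈ Finset.range n, a' (j + 1)) * a' (n + 1) * z 0 := by ring

omit [Finite S] in
theorem pot_ineq (a a' z : ℕ → ℕ) (h : ∀ j, a j * z (j + 1) ≤ a' (j + 1) * z j) (N : ℕ)
    (hz : z N = 1) (ha' : a' N = 1) :
    (∏ j ∈ Finset.range N, a j) * a' 0 ≤ (∏ j ∈ Finset.range N, a' j) * z 0 := by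
  have h1 := prod_ineq a a' z h N
  rw [hz, mul_one] at h1
  have h2 : (∏ j ∈ Finset.range N, a' (j + 1)) * a' 0 = ∏ j ∈ Finset.range N, a' j := by
    rw [← Finset.prod_range_succ', Finset.prod_range_succ, ha', mul_one]
  calc (∏ j ∈ Finset.range N, a j) * a' 0
      ≤ ((∏ j ∈ Finset.range N, a' (j + 1)) * z 0) * a' 0 := Nat.mul_le_mul_right _ h1
    _ = ((∏ j ∈ Finset.range N, a' (j + 1)) * a' 0) * z 0 := by ring
    _ = (∏ j ∈ Finset.range N, a' j) * z 0 := by rw [h2]

/-- **Normalization.** Let `Q` be a minimal centrally large subgroup whose centre `A = C(Q)`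
maximizes the potential among the centres of minimal centrally large subgroups. Then every `b`
with `⁅A, ⟨b⟩⁆` abelian normalizes `Q`. -/
theorem mem_normalizer_of_pot_max (N : ℕ) (hN : (⊤ : Subgroup S).lowerCentralSeries N = ⊥)
    {Q : Subgroup S} (hQ : IsMinCL Q)
    (hmax : ∀ Q' : Subgroup S, IsMinCL Q' →
      pot N (Subgroup.centralizer (Q' : Set S)) ≤ pot N (Subgroup.centralizer (Q : Set S)))
    (b : S)
    (hY : ⁅Subgroup.centralizer (Q : Set S), Subgroup.zpowers b⁆ ≤ Subgroup.centralizer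
      ((⁅Subgroup.centralizer (Q : Set S), Subgroup.zpowers b⁆ : Subgroup S) : Set S)) :
    b ∈ Subgroup.normalizer (Q : Set S) := by
  obtain ⟨hA'cd, hA'c, hcard⟩ := rA_props hQ b hY
  have hQ' := isMinCL_centralizer_of_card hQ hA'cd hA'c hcard
  have hCC : rA Q b = Subgroup.centralizer
      ((Subgroup.centralizer (rA Q b : Set S) : Subgroup S) : Set S) :=
    (cd_main hA'cd hA'cd).2.2.2.2.1
  have hm := hmax _ hQ'
  rw [← hCC] at hm
  have hineq := pot_ineq
    (fun j => Nat.card ↥(Subgroup.centralizer (Q : Set S) ⊓ (⊤ : Subgroup S).lowerCentralSeries j))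
    (fun j => Nat.card ↥(rA Q b ⊓ (⊤ : Subgroup S).lowerCentralSeries j))
    (fun j => Nat.card ↥(rZ Q b ⊓ (⊤ : Subgroup S).lowerCentralSeries j))
    (repl_count hQ b) N (by simp [hN]) (by simp [hN])
  simp only [Subgroup.lowerCentralSeries_zero, inf_top_eq] at hineq
  have hpos : 0 < pot N (Subgroup.centralizer (Q : Set S)) :=
    Finset.prod_pos (fun j _ => Nat.card_pos)
  have hle : Nat.card ↥(Subgroup.centralizer (Q : Set S)) ≤ Nat.card (rZ Q b) := by
    have : pot N (Subgroup.centralizer (Q : Set S)) * Nat.card ↥(Subgroup.centralizer (Q : Set S))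
        ≤ pot N (Subgroup.centralizer (Q : Set S)) * Nat.card (rZ Q b) := by
      calc pot N (Subgroup.centralizer (Q : Set S)) * Nat.card ↥(Subgroup.centralizer (Q : Set S))
          = pot N (Subgroup.centralizer (Q : Set S)) * Nat.card (rA Q b) := by rw [hcard]
        _ ≤ pot N (rA Q b) * Nat.card (rZ Q b) := hineq
        _ ≤ pot N (Subgroup.centralizer (Q : Set S)) * Nat.card (rZ Q b) :=
            Nat.mul_le_mul_right _ hm
    exact Nat.le_of_mul_le_mul_left this hpos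
  have hZA : rZ Q b = Subgroup.centralizer (Q : Set S) :=
    Subgroup.eq_of_le_of_card_ge (rZ_le hQ b) hle
  exact mem_normalizer_of_rZ_eq hQ b hZA

/-! ### The Thompson subgroup -/

/-- `Q J(S)` is centrally large for centrally large `Q`. -/
theorem isCLMax_sup_thompson {Q : Subgroup S} (hQ : IsCLMax Q) :
    IsCLMax (Q ⊔ Cfsg.thompsonSubgroupA S) := by
  have h : Q ⊔ Cfsg.thompsonSubgroupA S =
      sSup {T : Subgroup S | ∃ A ∈ Cfsg.maxAbelianSubgroups S, T = Q ⊔ A} := by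
    unfold Cfsg.thompsonSubgroupA
    apply le_antisymm
    · refine sup_le ?_ (sSup_le fun A hA => le_sup_right.trans (le_sSup ⟨A, hA, rfl⟩))
      obtain ⟨A, hA⟩ := exists_mem_maxAbelian (S := S)
      exact le_sup_left.trans (le_sSup ⟨A, hA, rfl⟩)
    · apply sSup_le
      rintro T ⟨A, hA, rfl⟩
      exact sup_le_sup_left (le_sSup hA) _
  rw [h]
  apply isCLMax_sSup
  · obtain ⟨A, hA⟩ := exists_mem_maxAbelian (S := S)
    exact ⟨_, A, hA, rfl⟩
  · rintro T ⟨A, hA, rfl⟩
    exact (hQ.sup_maxAbelian hA).2.1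

/-- `C(Z(J(S))) ≤ Q J(S)` for centrally large `Q`. -/
theorem centralizer_center_thompson_le {Q : Subgroup S} (hQ : IsCLMax Q) :
    Subgroup.centralizer ((Cfsg.thompsonSubgroupA S ⊓
      Subgroup.centralizer (Cfsg.thompsonSubgroupA S : Set S) : Subgroup S) : Set S) ≤
      Q ⊔ Cfsg.thompsonSubgroupA S := by
  have hT := isCLMax_sup_thompson hQ
  obtain ⟨hTcd, hTZ⟩ := hT.isCDMax_and_le
  have hTcc := (cd_main hTcd hTcd).2.2.2.2.1
  obtain ⟨A, hA⟩ := exists_mem_maxAbelian (S := S)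
  have hCA := centralizer_eq_of_mem_maxAbelian hA
  have hAJ : A ≤ Cfsg.thompsonSubgroupA S := le_sSup hA
  have hCT : Subgroup.centralizer ((Q ⊔ Cfsg.thompsonSubgroupA S : Subgroup S) : Set S) ≤
      Cfsg.thompsonSubgroupA S ⊓ Subgroup.centralizer (Cfsg.thompsonSubgroupA S : Set S) := by
    refine le_inf ?_ (Subgroup.centralizer_le (fun x hx =>
      (le_sup_right : Cfsg.thompsonSubgroupA S ≤ Q ⊔ Cfsg.thompsonSubgroupA S) hx))
    calc Subgroup.centralizer ((Q ⊔ Cfsg.thompsonSubgroupA S : Subgroup S) : Set S)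
        ≤ Subgroup.centralizer (A : Set S) :=
          Subgroup.centralizer_le (fun x hx =>
            (le_sup_right : Cfsg.thompsonSubgroupA S ≤ Q ⊔ Cfsg.thompsonSubgroupA S) (hAJ hx))
      _ = A := hCA
      _ ≤ Cfsg.thompsonSubgroupA S := hAJ
  calc Subgroup.centralizer ((Cfsg.thompsonSubgroupA S ⊓
        Subgroup.centralizer (Cfsg.thompsonSubgroupA S : Set S) : Subgroup S) : Set S)
      ≤ Subgroup.centralizer ((Subgroup.centralizer
          ((Q ⊔ Cfsg.thompsonSubgroupA S : Subgroup S) : Set S) : Subgroup S) : Set S) :=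
        Subgroup.centralizer_le (fun x hx => hCT hx)
    _ = Q ⊔ Cfsg.thompsonSubgroupA S := hTcc.symm

end repl

end Cfsg.Agent.Lib.helper67.CLRepl
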