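import Mathlib

/-!
# Twisted group algebras of elementary abelian 2-groups inside real matrices

Core lemmas for the construction of an extension of a group of isometries of a nondegenerate
quadratic space over the field with two elements by an extraspecial 2-group: signed translation
matrices `L u`, their span `A`, the centre of `A`, intertwiners.
-/

set_option autoImplicit false

namespace Cfsg.Agent.Lib.helper67.ExtraExt

/-- Twisting data on an elementary abelian 2-group `V`: a bimultiplicative sign-valued pairing,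
nondegenerate after symmetrisation. -/
structure Tw (V : Type*) [AddCommGroup V] where
  σ : V → V → ℝ
  add_left : ∀ u v w, σ (u + v) w = σ u w * σ v w
  add_right : ∀ u v w, σ u (v + w) = σ u v * σ u w
  sq : ∀ u v, σ u v * σ u v = 1
  two : ∀ v : V, v + v = 0
  nd : ∀ u, u ≠ 0 → ∃ w, σ u w * σ w u = -1

namespace Tw

variable {V : Type*} [AddCommGroup V] [Fintype V] [DecidableEq V] (T : Tw V)

omit [Fintype V] [DecidableEq V] in
theorem zero_left (v : V) : T.σ 0 v = 1 := by
  have h := T.add_left 0 0 v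
  rw [add_zero, T.sq] at h
  exact h

omit [Fintype V] [DecidableEq V] in
theorem zero_right (u : V) : T.σ u 0 = 1 := by
  have h := T.add_right u 0 0
  rw [add_zero, T.sq] at h
  exact h

omit [Fintype V] [DecidableEq V] in
theorem pm (u v : V) : T.σ u v = 1 ∨ T.σ u v = -1 := mul_self_eq_one_iff.mp (T.sq u v)

omit [Fintype V] [DecidableEq V] in
include T in
theorem add_cancel_right' (a b : V) : a + b + b = a := by
  rw [add_assoc, T.two, add_zero]

omit [Fintype V] [DecidableEq V] in
include T in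
theorem eq_add_iff (y u x : V) : y = u + x ↔ x = u + y := by
  constructor
  · intro h; rw [h, ← add_assoc, T.two, zero_add]
  · intro h; rw [h, ← add_assoc, T.two, zero_add]

/-- The signed translation matrix. -/
def L (u : V) : Matrix V V ℝ := Matrix.of fun y x => if y = u + x then T.σ u x else 0

omit [Fintype V] in
theorem L_apply (u y x : V) : T.L u y x = if y = u + x then T.σ u x else 0 := rfl

theorem L_mul (u v : V) : T.L u * T.L v = T.σ u v • T.L (u + v) := by
  ext y x
  simp only [L_apply, Matrix.mul_apply, Matrix.smul_apply, smul_eq_mul]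
  rw [Finset.sum_eq_single (v + x)]
  · by_cases h : y = u + (v + x)
    · have h' : y = u + v + x := by rw [h, add_assoc]
      rw [if_pos h, if_pos rfl, if_pos h', T.add_right, T.add_left]; ring
    · have h' : ¬ y = u + v + x := by rwa [add_assoc]
      simp [h, h']
  · intro z _ hz; simp [hz]
  · simp

theorem L_zero : T.L 0 = 1 := by
  ext y x
  simp only [L_apply, zero_add, T.zero_left, Matrix.one_apply]

theorem L_sq (u : V) : T.L u * T.L u = T.σ u u • (1 : Matrix V V ℝ) := by
  rw [L_mul, T.two, L_zero]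

theorem L_apply_zero (v w : V) : T.L v w 0 = if w = v then 1 else 0 := by
  simp [L_apply, T.zero_right]

theorem L_transpose (u : V) : (T.L u).transpose = T.σ u u • T.L u := by
  ext y x
  simp only [Matrix.transpose_apply, L_apply, Matrix.smul_apply, smul_eq_mul]
  by_cases h : x = u + y
  · have h' : y = u + x := (T.eq_add_iff x u y).1 h
    simp only [h, if_true]
    rw [if_pos (by rw [← h]; exact h'), ← h, h', T.add_right]
  · have h' : ¬ y = u + x := fun hh => h ((T.eq_add_iff y u x).1 hh)
    simp [h, h']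

/-- the inverse of `L u`. -/
def Li (u : V) : Matrix V V ℝ := T.σ u u • T.L u

theorem L_mul_Li (u : V) : T.L u * T.Li u = 1 := by
  rw [Li, Matrix.mul_smul, L_sq, smul_smul, T.sq, one_smul]

theorem Li_mul_L (u : V) : T.Li u * T.L u = 1 := by
  rw [Li, Matrix.smul_mul, L_sq, smul_smul, T.sq, one_smul]

theorem L_comm (u v : V) : T.L u * T.L v = (T.σ u v * T.σ v u) • (T.L v * T.L u) := by
  rw [L_mul, L_mul, smul_smul, add_comm v u, mul_assoc, T.sq, mul_one]

theorem Li_add_mul (u v : V) : T.Li (u + v) * T.L v = T.σ v u • T.Li u := by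
  rw [Li, Li, Matrix.smul_mul, L_mul, T.add_cancel_right', smul_smul, smul_smul]
  congr 1
  rw [T.add_left, T.add_right, T.add_right, T.add_left]
  have h1 := T.sq u v
  have h2 := T.sq v v
  calc T.σ u u * T.σ u v * (T.σ v u * T.σ v v) * (T.σ u v * T.σ v v)
      = T.σ u u * T.σ v u * (T.σ u v * T.σ u v) * (T.σ v v * T.σ v v) := by ring
    _ = T.σ v u * T.σ u u := by rw [h1, h2]; ring

/-- linear combination of the `L v`. -/
def Lam (c : V → ℝ) : Matrix V V ℝ := ∑ v, c v • T.L v

theorem Lam_apply_zero (c : V → ℝ) (w : V) : T.Lam c w 0 = c w := by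
  simp [Lam, Matrix.sum_apply, L_apply_zero]

/-- the span of the `L v`. -/
def A : Submodule ℝ (Matrix V V ℝ) := Submodule.span ℝ (Set.range T.L)

theorem L_mem (u : V) : T.L u ∈ T.A := Submodule.subset_span ⟨u, rfl⟩

theorem one_mem : (1 : Matrix V V ℝ) ∈ T.A := by
  rw [← T.L_zero]; exact T.L_mem 0

theorem Lam_mem (c : V → ℝ) : T.Lam c ∈ T.A :=
  Submodule.sum_mem _ fun v _ => Submodule.smul_mem _ _ (T.L_mem v)

theorem eq_Lam {a : Matrix V V ℝ} (ha : a ∈ T.A) : a = T.Lam (fun v => a v 0) := by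
  induction ha using Submodule.span_induction with
  | mem x hx =>
    obtain ⟨u, rfl⟩ := hx
    simp [Lam, L_apply_zero]
  | zero => simp [Lam]
  | add x y _ _ hx hy =>
    conv_lhs => rw [hx, hy]
    simp [Lam, add_smul, Finset.sum_add_distrib]
  | smul r x _ hx =>
    conv_lhs => rw [hx]
    simp [Lam, Finset.smul_sum, smul_smul]

theorem mul_mem {a b : Matrix V V ℝ} (ha : a ∈ T.A) (hb : b ∈ T.A) : a * b ∈ T.A := by
  rw [T.eq_Lam ha, T.eq_Lam hb, Lam, Lam, Finset.sum_mul]
  refine Submodule.sum_mem _ fun u _ => ?_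
  rw [Finset.mul_sum]
  refine Submodule.sum_mem _ fun v _ => ?_
  rw [Matrix.smul_mul, Matrix.mul_smul, L_mul]
  exact Submodule.smul_mem _ _ (Submodule.smul_mem _ _ (Submodule.smul_mem _ _ (T.L_mem _)))

theorem transpose_mem {a : Matrix V V ℝ} (ha : a ∈ T.A) : a.transpose ∈ T.A := by
  induction ha using Submodule.span_induction with
  | mem x hx =>
    obtain ⟨u, rfl⟩ := hx
    rw [L_transpose]
    exact Submodule.smul_mem _ _ (T.L_mem u)
  | zero => simp
  | add x y _ _ hx hy => rw [Matrix.transpose_add]; exact Submodule.add_mem _ hx hy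
  | smul r x _ hx => rw [Matrix.transpose_smul]; exact Submodule.smul_mem _ _ hx

theorem eq_zero_of_col {a : Matrix V V ℝ} (ha : a ∈ T.A) (h : ∀ v, a v 0 = 0) : a = 0 := by
  rw [T.eq_Lam ha]
  simp [Lam, h]

theorem A_apply {a : Matrix V V ℝ} (ha : a ∈ T.A) (y x : V) :
    a y x = a (y + x) 0 * T.σ (y + x) x := by
  conv_lhs => rw [T.eq_Lam ha]
  simp only [Lam, Matrix.sum_apply, Matrix.smul_apply, smul_eq_mul, L_apply]
  rw [Finset.sum_eq_single (y + x)]
  · rw [if_pos (T.add_cancel_right' y x).symm]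
  · intro v _ hv
    rw [if_neg, mul_zero]
    intro h
    apply hv
    rw [h, T.add_cancel_right']
  · simp

theorem coef_L_mul (a : Matrix V V ℝ) (u w : V) :
    (T.L u * a) (w + u) 0 = T.σ u w * a w 0 := by
  simp only [Matrix.mul_apply, L_apply]
  rw [Finset.sum_eq_single w]
  · rw [if_pos (add_comm w u)]
  · intro z _ hz
    rw [if_neg, zero_mul]
    intro h
    apply hz
    rw [add_comm w u] at h
    exact (add_left_cancel h).symm
  · simp

theorem coef_mul_L {a : Matrix V V ℝ} (ha : a ∈ T.A) (u w : V) :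
    (a * T.L u) (w + u) 0 = a w 0 * T.σ w u := by
  simp only [Matrix.mul_apply, L_apply_zero]
  rw [Finset.sum_eq_single u]
  · rw [if_pos rfl, mul_one, T.A_apply ha, T.add_cancel_right']
  · intro z _ hz
    rw [if_neg hz, mul_zero]
  · simp

/-- the centre of `A` consists of scalars. -/
theorem central {a : Matrix V V ℝ} (ha : a ∈ T.A) (h : ∀ u, T.L u * a = a * T.L u) :
    a = a 0 0 • (1 : Matrix V V ℝ) := by
  have h0 : ∀ w, w ≠ 0 → a w 0 = 0 := by
    intro w hw
    obtain ⟨u, hu⟩ := T.nd w hw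
    have h1 := T.coef_L_mul a u w
    have h2 := T.coef_mul_L ha u w
    rw [h u, h2] at h1
    have h3 : T.σ u w * (a w 0 * T.σ w u) = T.σ u w * (T.σ u w * a w 0) := by rw [h1]
    rw [← mul_assoc (T.σ u w) (T.σ u w), T.sq, one_mul] at h3
    have h4 : a w 0 * (T.σ w u * T.σ u w) = a w 0 := by linear_combination h3
    rw [hu] at h4
    linarith
  conv_lhs => rw [T.eq_Lam ha]
  rw [Lam, Finset.sum_eq_single 0, T.L_zero]
  · intro v _ hv
    rw [h0 v hv, zero_smul]
  · simp

/-- an element of `A` commuting with every `L u` up to sign is a multiple of a single `L w`. -/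
theorem monomial_of_sign_comm {a : Matrix V V ℝ} (ha : a ∈ T.A) (hne : a ≠ 0)
    (h : ∀ u, ∃ s : ℝ, s * s = 1 ∧ a * T.L u = s • (T.L u * a)) :
    ∃ w, a w 0 ≠ 0 ∧ a = a w 0 • T.L w := by
  have hex : ∃ w, a w 0 ≠ 0 := by
    by_contra hcon
    simp only [not_exists, not_not] at hcon
    exact hne (T.eq_zero_of_col ha hcon)
  obtain ⟨w, hw⟩ := hex
  refine ⟨w, hw, ?_⟩
  have h0 : ∀ w', w' ≠ w → a w' 0 = 0 := by
    intro w' hw'
    by_contra hcon
    have hne' : w + w' ≠ 0 := by
      intro h0
      apply hw'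
      have := T.add_cancel_right' w' w
      rw [add_comm w' w, h0, zero_add] at this
      exact this.symm
    obtain ⟨u, hu⟩ := T.nd _ hne'
    obtain ⟨s, hs, hsu⟩ := h u
    have e1 : a w 0 * T.σ w u = s * (T.σ u w * a w 0) := by
      have := T.coef_mul_L ha u w
      rw [hsu, Matrix.smul_apply, T.coef_L_mul, smul_eq_mul] at this
      exact this.symm
    have e2 : a w' 0 * T.σ w' u = s * (T.σ u w' * a w' 0) := by
      have := T.coef_mul_L ha u w'
      rw [hsu, Matrix.smul_apply, T.coef_L_mul, smul_eq_mul] at this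
      exact this.symm
    have f1 : T.σ w u = s * T.σ u w := by
      have : a w 0 * T.σ w u = a w 0 * (s * T.σ u w) := by rw [e1]; ring
      exact mul_left_cancel₀ hw this
    have f2 : T.σ w' u = s * T.σ u w' := by
      have : a w' 0 * T.σ w' u = a w' 0 * (s * T.σ u w') := by rw [e2]; ring
      exact mul_left_cancel₀ hcon this
    rw [T.add_left, T.add_right, f1, f2] at hu
    have h1 := T.sq u w
    have h2 := T.sq u w'
    have : s * T.σ u w * (s * T.σ u w') * (T.σ u w * T.σ u w') =
        (s * s) * (T.σ u w * T.σ u w) * (T.σ u w' * T.σ u w') := by ring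
    rw [this, hs, h1, h2] at hu
    norm_num at hu
  conv_lhs => rw [T.eq_Lam ha]
  rw [Lam, Finset.sum_eq_single w]
  · intro v _ hv
    rw [h0 v hv, zero_smul]
  · simp

/-- normalisation of an intertwiner: `aᵀ a` is a scalar. -/
theorem transpose_mul_self {a : Matrix V V ℝ} (ha : a ∈ T.A) (g : V → V) (ε : V → ℝ)
    (hε : ∀ u, ε u * ε u = 1) (hg : ∀ u, T.σ (g u) (g u) = T.σ u u)
    (h : ∀ u, a * T.L u = ε u • (T.L (g u) * a)) :
    a.transpose * a = (∑ y, a y 0 * a y 0) • (1 : Matrix V V ℝ) := by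
  have hb : a.transpose * a ∈ T.A := T.mul_mem (T.transpose_mem ha) ha
  have key : ∀ u, a.transpose * T.L (g u) = ε u • (T.L u * a.transpose) := by
    intro u
    have h1 : T.σ u u • (T.L u * a.transpose) = ε u • (T.σ u u • (a.transpose * T.L (g u))) := by
      have h0 := congrArg Matrix.transpose (h u)
      rw [Matrix.transpose_mul, Matrix.transpose_smul, Matrix.transpose_mul, L_transpose,
        L_transpose, Matrix.smul_mul, Matrix.mul_smul, hg u] at h0
      exact h0
    have h2 : ε u * T.σ u u * (ε u * T.σ u u) = 1 := by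
      have e1 := hε u
      have e2 := T.sq u u
      calc ε u * T.σ u u * (ε u * T.σ u u) = (ε u * ε u) * (T.σ u u * T.σ u u) := by ring
        _ = 1 := by rw [e1, e2, mul_one]
    calc a.transpose * T.L (g u)
        = (ε u * T.σ u u) • (ε u • (T.σ u u • (a.transpose * T.L (g u)))) := by
          rw [smul_smul, smul_smul, mul_assoc (ε u * T.σ u u), h2, one_smul]
      _ = (ε u * T.σ u u) • (T.σ u u • (T.L u * a.transpose)) := by rw [h1]
      _ = ε u • (T.L u * a.transpose) := by rw [smul_smul, mul_assoc, T.sq, mul_one]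
  have hcomm : ∀ u, T.L u * (a.transpose * a) = a.transpose * a * T.L u := by
    intro u
    symm
    calc a.transpose * a * T.L u = a.transpose * (a * T.L u) := mul_assoc _ _ _
      _ = a.transpose * (ε u • (T.L (g u) * a)) := by rw [h u]
      _ = ε u • ((a.transpose * T.L (g u)) * a) := by rw [Matrix.mul_smul, mul_assoc]
      _ = ε u • ((ε u • (T.L u * a.transpose)) * a) := by rw [key u]
      _ = T.L u * (a.transpose * a) := by
          rw [Matrix.smul_mul, smul_smul, hε, one_smul, mul_assoc]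
  have h3 := T.central hb hcomm
  rw [h3]
  congr 1

theorem char_sum (u : V) (hu : u ≠ 0) : ∑ w, T.σ u w * T.σ w u = 0 := by
  obtain ⟨w₀, hw₀⟩ := T.nd u hu
  have h1 : ∑ w, T.σ u w * T.σ w u = ∑ w, T.σ u (w + w₀) * T.σ (w + w₀) u :=
    (Fintype.sum_equiv (Equiv.addRight w₀) (fun w => T.σ u (w + w₀) * T.σ (w + w₀) u)
      (fun w => T.σ u w * T.σ w u) (fun _ => rfl)).symm
  have h2 : ∑ w, T.σ u (w + w₀) * T.σ (w + w₀) u = - ∑ w, T.σ u w * T.σ w u := by
    rw [← Finset.sum_neg_distrib]
    refine Finset.sum_congr rfl fun w _ => ?_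
    rw [T.add_right, T.add_left]
    linear_combination (T.σ u w * T.σ w u) * hw₀
  linarith

/-- the averaging operator producing intertwiners. -/
def Tm (g : V → V) (ε : V → ℝ) (y : Matrix V V ℝ) : Matrix V V ℝ :=
  ∑ u, ε u • (T.L (g u) * y * T.Li u)

theorem Li_mem (u : V) : T.Li u ∈ T.A := Submodule.smul_mem _ _ (T.L_mem u)

theorem Tm_mem (g : V → V) (ε : V → ℝ) {y : Matrix V V ℝ} (hy : y ∈ T.A) : T.Tm g ε y ∈ T.A :=
  Submodule.sum_mem _ fun u _ =>
    Submodule.smul_mem _ _ (T.mul_mem (T.mul_mem (T.L_mem _) hy) (T.Li_mem u))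

theorem Tm_inter (g : V → V) (hg : ∀ u v, g (u + v) = g u + g v) (ε : V → ℝ)
    (hε : ∀ u v, ε (u + v) = ε u * ε v * T.σ u v * T.σ (g u) (g v))
    (y : Matrix V V ℝ) (v : V) :
    T.Tm g ε y * T.L v = ε v • (T.L (g v) * T.Tm g ε y) := by
  rw [Tm, Finset.sum_mul, Finset.mul_sum, Finset.smul_sum]
  rw [← Fintype.sum_equiv (Equiv.addRight v)
    (fun u => (ε (u + v) • (T.L (g (u + v)) * y * T.Li (u + v))) * T.L v)
    (fun u => (ε u • (T.L (g u) * y * T.Li u)) * T.L v) (fun _ => rfl)]
  refine Finset.sum_congr rfl fun u _ => ?_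
  have e1 : (ε (u + v) • (T.L (g (u + v)) * y * T.Li (u + v))) * T.L v
      = (ε (u + v) * T.σ v u) • (T.L (g v + g u) * y * T.Li u) := by
    rw [Matrix.smul_mul, mul_assoc, T.Li_add_mul, Matrix.mul_smul, smul_smul, hg,
      add_comm (g u) (g v)]
  have e2 : ε v • (T.L (g v) * (ε u • (T.L (g u) * y * T.Li u)))
      = (ε v * ε u * T.σ (g v) (g u)) • (T.L (g v + g u) * y * T.Li u) := by
    rw [Matrix.mul_smul, smul_smul, ← mul_assoc, ← mul_assoc, L_mul, Matrix.smul_mul,
      Matrix.smul_mul, smul_smul]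
  rw [e1, e2]
  congr 1
  rw [add_comm u v, hε v u]
  have := T.sq v u
  calc ε v * ε u * T.σ v u * T.σ (g v) (g u) * T.σ v u
      = ε v * ε u * T.σ (g v) (g u) * (T.σ v u * T.σ v u) := by ring
    _ = ε v * ε u * T.σ (g v) (g u) := by rw [this, mul_one]

theorem Tm_coef (g : V → V) (ε : V → ℝ) (w : V) :
    (T.Tm g ε (T.L w)) w 0 = ∑ u, if g u = u then ε u * (T.σ u w * T.σ w u) else 0 := by
  rw [Tm, Matrix.sum_apply]
  refine Finset.sum_congr rfl fun u _ => ?_
  have e1 : T.L (g u) * T.L w * T.Li u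
      = (T.σ (g u) w * T.σ u u * T.σ (g u + w) u) • T.L (g u + w + u) := by
    rw [L_mul, Li, Matrix.smul_mul, Matrix.mul_smul, L_mul, smul_smul, smul_smul]
  rw [e1, Matrix.smul_apply, Matrix.smul_apply, L_apply_zero]
  by_cases hgu : g u = u
  · rw [if_pos hgu, hgu, if_pos (by rw [add_comm u w, T.add_cancel_right'])]
    rw [T.add_left]
    have := T.sq u u
    simp only [smul_eq_mul, mul_one]
    calc ε u * (T.σ u w * T.σ u u * (T.σ u u * T.σ w u))
        = ε u * (T.σ u w * T.σ w u) * (T.σ u u * T.σ u u) := by ring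
      _ = ε u * (T.σ u w * T.σ w u) := by rw [this, mul_one]
  · rw [if_neg hgu, if_neg]
    · simp
    · intro h
      apply hgu
      have h2 : g u + u = 0 := by
        have h3 : g u + w + u = g u + u + w := by abel
        rw [h3] at h
        have h4 : 0 + w = g u + u + w := by rw [zero_add]; exact h
        exact (add_right_cancel h4).symm
      have h5 := T.add_cancel_right' (g u) u
      rw [h2, zero_add] at h5
      exact h5.symm

/-- existence of intertwiners (Skolem–Noether by a trace computation). -/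
theorem exists_intertwiner (g : V → V) (hg : ∀ u v, g (u + v) = g u + g v) (ε : V → ℝ)
    (hε1 : ∀ u, ε u * ε u = 1)
    (hε : ∀ u v, ε (u + v) = ε u * ε v * T.σ u v * T.σ (g u) (g v)) :
    ∃ a ∈ T.A, a ≠ 0 ∧ ∀ u, a * T.L u = ε u • (T.L (g u) * a) := by
  have hg0 : g 0 = 0 := by
    have h := hg 0 0
    rw [add_zero] at h
    exact add_eq_left.mp h.symm
  have hε0 : ε 0 = 1 := by
    have h := hε 0 0
    rw [add_zero, hε1, hg0, T.zero_left, mul_one, mul_one] at h
    exact h
  have hsum : ∑ w, (T.Tm g ε (T.L w)) w 0 = (Fintype.card V : ℝ) := by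
    simp only [Tm_coef]
    rw [Finset.sum_comm]
    rw [Finset.sum_eq_single 0]
    · simp [hg0, hε0, T.zero_left, T.zero_right]
    · intro u _ hu
      by_cases hgu : g u = u
      · simp only [hgu, if_true]
        rw [← Finset.mul_sum, T.char_sum u hu, mul_zero]
      · simp [hgu]
    · simp
  have hex : ∃ w, (T.Tm g ε (T.L w)) w 0 ≠ 0 := by
    by_contra hcon
    simp only [not_exists, not_not] at hcon
    rw [Finset.sum_congr rfl (fun w _ => hcon w), Finset.sum_const_zero] at hsum
    have : (Fintype.card V : ℝ) ≠ 0 := by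
      have : 0 < Fintype.card V := Fintype.card_pos
      positivity
    exact this hsum.symm
  obtain ⟨w, hw⟩ := hex
  refine ⟨T.Tm g ε (T.L w), T.Tm_mem g ε (T.L_mem w), ?_, fun u => T.Tm_inter g hg ε hε _ u⟩
  intro h0
  rw [h0] at hw
  exact hw rfl

end Tw

end Cfsg.Agent.Lib.helper67.ExtraExt
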