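import Mathlib
import Cfsg.Prelude.Def_Transfer
import Cfsg.Agent.Lib.helper67.ExtraExt
import Cfsg.Agent.Lib.helper92.ExtraSub

/-!
# The extension of a group of isometries by an extraspecial 2-group

Given twisting data `T : Tw V` and a faithful action `act` of a group `K` on `V` by isometries
that lift to the twisted group algebra (`Act T act`), the group `Rgrp` of orthogonal elements of
the twisted group algebra normalising `{± L w}` and inducing an element of `K` is an extension of
`K` by the extraspecial group `{± L w}`.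
-/

set_option autoImplicit false

namespace Cfsg.Agent.Lib.helper67.ExtraExt

variable {V : Type*} [AddCommGroup V] [Fintype V] [DecidableEq V]
variable {K : Type*} [Group K]

/-- hypotheses on an action by isometries. -/
structure Act (T : Tw V) (act : K → V → V) : Prop where
  one : ∀ v, act 1 v = v
  mul : ∀ k k' v, act (k * k') v = act k (act k' v)
  add : ∀ k u v, act k (u + v) = act k u + act k v
  faithful : ∀ k k', (∀ v, act k v = act k' v) → k = k'
  isom : ∀ k u, T.σ (act k u) (act k u) = T.σ u u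
  lift : ∀ k, ∃ ε : V → ℝ, (∀ u, ε u * ε u = 1) ∧
    ∀ u v, ε (u + v) = ε u * ε v * T.σ u v * T.σ (act k u) (act k v)

/-- `a` induces `k`. -/
def Ind (T : Tw V) (act : K → V → V) (a : Matrix V V ℝ) (k : K) : Prop :=
  ∀ u, ∃ s : ℝ, s * s = 1 ∧ a * T.L u = s • (T.L (act k u) * a)

theorem Ind_one {T : Tw V} {act : K → V → V} (hA : Act T act) : Ind T act 1 1 :=
  fun u => ⟨1, by norm_num, by rw [hA.one, one_mul, mul_one, one_smul]⟩

theorem Ind_mul {T : Tw V} {act : K → V → V} (hA : Act T act) {a b : Matrix V V ℝ} {k k' : K}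
    (ha : Ind T act a k) (hb : Ind T act b k') : Ind T act (a * b) (k * k') := by
  intro u
  obtain ⟨s', hs', e'⟩ := hb u
  obtain ⟨s, hs, e⟩ := ha (act k' u)
  refine ⟨s * s', ?_, ?_⟩
  · calc s * s' * (s * s') = (s * s) * (s' * s') := by ring
      _ = 1 := by rw [hs, hs', mul_one]
  · calc a * b * T.L u = a * (b * T.L u) := mul_assoc _ _ _
      _ = a * (s' • (T.L (act k' u) * b)) := by rw [e']
      _ = s' • ((a * T.L (act k' u)) * b) := by rw [Matrix.mul_smul, mul_assoc]
      _ = s' • ((s • (T.L (act k (act k' u)) * a)) * b) := by rw [e]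
      _ = (s * s') • (T.L (act (k * k') u) * (a * b)) := by
          rw [Matrix.smul_mul, smul_smul, hA.mul, mul_assoc, mul_comm s' s]

theorem Ind_inv {T : Tw V} {act : K → V → V} (hA : Act T act) {a a' : Matrix V V ℝ} {k : K}
    (h1 : a * a' = 1) (h2 : a' * a = 1) (ha : Ind T act a k) : Ind T act a' k⁻¹ := by
  intro u
  obtain ⟨s, hs, e⟩ := ha (act k⁻¹ u)
  have hu : act k (act k⁻¹ u) = u := by rw [← hA.mul, mul_inv_cancel, hA.one]
  rw [hu] at e
  refine ⟨s, hs, ?_⟩
  calc a' * T.L u = a' * T.L u * (a * a') := by rw [h1, mul_one]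
    _ = a' * (T.L u * a) * a' := by simp only [mul_assoc]
    _ = a' * (s • (s • (T.L u * a))) * a' := by rw [smul_smul, hs, one_smul]
    _ = a' * (s • (a * T.L (act k⁻¹ u))) * a' := by rw [e]
    _ = s • ((a' * a) * T.L (act k⁻¹ u) * a') := by
        rw [Matrix.mul_smul, Matrix.smul_mul]; simp only [mul_assoc]
    _ = s • (T.L (act k⁻¹ u) * a') := by rw [h2, one_mul]

theorem Ind_unique {T : Tw V} {act : K → V → V} (hA : Act T act) {a a' : Matrix V V ℝ}
    {k k' : K} (h1 : a * a' = 1) (ha : Ind T act a k) (ha' : Ind T act a k') : k = k' := by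
  apply hA.faithful
  intro u
  obtain ⟨s, hs, e⟩ := ha u
  obtain ⟨s', hs', e'⟩ := ha' u
  by_contra hne
  have h : s • T.L (act k u) = s' • T.L (act k' u) := by
    have : s • (T.L (act k u) * a) * a' = s' • (T.L (act k' u) * a) * a' := by rw [← e, ← e']
    rwa [Matrix.smul_mul, Matrix.smul_mul, mul_assoc, mul_assoc, h1, mul_one, mul_one] at this
  have h3 := congrFun (congrFun h (act k u)) 0
  rw [Matrix.smul_apply, Matrix.smul_apply, T.L_apply_zero, T.L_apply_zero, if_pos rfl,
    if_neg hne] at h3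
  have : s = 0 := by simpa using h3
  rw [this] at hs
  norm_num at hs

/-- the group `R`: orthogonal elements of the twisted group algebra inducing elements of `K`. -/
def Rgrp (T : Tw V) (act : K → V → V) (hA : Act T act) : Subgroup (Matrix V V ℝ)ˣ where
  carrier := {a | ((a : Matrix V V ℝ) ∈ T.A) ∧
    (a : Matrix V V ℝ).transpose * (a : Matrix V V ℝ) = 1 ∧
    ∃ k : K, Ind T act (a : Matrix V V ℝ) k}
  mul_mem' := by
    rintro a b ⟨ha1, ha2, k, hk⟩ ⟨hb1, hb2, k', hk'⟩
    refine ⟨?_, ?_, k * k', ?_⟩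
    · rw [Units.val_mul]; exact T.mul_mem ha1 hb1
    · rw [Units.val_mul, Matrix.transpose_mul]
      calc (b : Matrix V V ℝ).transpose * (a : Matrix V V ℝ).transpose * (↑a * ↑b)
          = (b : Matrix V V ℝ).transpose * ((a : Matrix V V ℝ).transpose * ↑a) * ↑b := by
            simp only [mul_assoc]
        _ = 1 := by rw [ha2, mul_one, hb2]
    · rw [Units.val_mul]; exact Ind_mul hA hk hk'
  one_mem' := ⟨by rw [Units.val_one]; exact T.one_mem, by simp, 1, by
    rw [Units.val_one]; exact Ind_one hA⟩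
  inv_mem' := by
    rintro a ⟨ha1, ha2, k, hk⟩
    have hinv : ((a⁻¹ : (Matrix V V ℝ)ˣ) : Matrix V V ℝ) = (a : Matrix V V ℝ).transpose :=
      (Units.eq_inv_of_mul_eq_one_right ha2).symm
    refine ⟨?_, ?_, k⁻¹, ?_⟩
    · rw [hinv]; exact T.transpose_mem ha1
    · rw [hinv, Matrix.transpose_transpose]; exact mul_eq_one_comm.mp ha2
    · exact Ind_inv hA (Units.mul_inv a) (Units.inv_mul a) hk

section grp

variable {T : Tw V} {act : K → V → V} (hA : Act T act)

/-- the underlying matrix. -/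
def val (x : Rgrp T act hA) : Matrix V V ℝ := ((x : (Matrix V V ℝ)ˣ) : Matrix V V ℝ)

theorem val_mul (x y : Rgrp T act hA) : val hA (x * y) = val hA x * val hA y := rfl

theorem val_one : val hA (1 : Rgrp T act hA) = 1 := rfl

theorem val_mul_inv (x : Rgrp T act hA) : val hA x * val hA x⁻¹ = 1 :=
  Units.mul_inv (x : (Matrix V V ℝ)ˣ)

theorem val_inv_mul (x : Rgrp T act hA) : val hA x⁻¹ * val hA x = 1 :=
  Units.inv_mul (x : (Matrix V V ℝ)ˣ)

theorem val_ext {x y : Rgrp T act hA} (h : val hA x = val hA y) : x = y :=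
  Subtype.ext (Units.ext h)

theorem val_mem (x : Rgrp T act hA) : val hA x ∈ T.A := x.2.1

theorem val_orth (x : Rgrp T act hA) : (val hA x).transpose * val hA x = 1 := x.2.2.1

/-- the element of `K` induced by an element of `R`. -/
noncomputable def piFun (a : Rgrp T act hA) : K := Classical.choose a.2.2.2

theorem piFun_spec (a : Rgrp T act hA) : Ind T act (val hA a) (piFun hA a) :=
  Classical.choose_spec a.2.2.2

theorem piFun_eq (a : Rgrp T act hA) (k : K) (h : Ind T act (val hA a) k) : piFun hA a = k :=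
  Ind_unique hA (val_mul_inv hA a) (piFun_spec hA a) h

/-- the projection `R → K`. -/
noncomputable def pi : Rgrp T act hA →* K :=
  MonoidHom.mk' (piFun hA) (fun a b =>
    piFun_eq hA _ _ (by
      rw [val_mul]; exact Ind_mul hA (piFun_spec hA a) (piFun_spec hA b)))

theorem pi_apply (a : Rgrp T act hA) : pi hA a = piFun hA a := rfl

theorem pi_surjective : Function.Surjective (pi hA) := by
  intro k
  obtain ⟨ε, hε1, hε⟩ := hA.lift k
  obtain ⟨a₀, ha₀, hne, hint⟩ := T.exists_intertwiner (act k) (hA.add k) ε hε1 hε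
  have hN := T.transpose_mul_self ha₀ (act k) ε hε1 (hA.isom k) hint
  have hcpos : 0 < ∑ y, a₀ y 0 * a₀ y 0 := by
    obtain ⟨y, hy⟩ : ∃ y, a₀ y 0 ≠ 0 := by
      by_contra hcon
      simp only [not_exists, not_not] at hcon
      exact hne (T.eq_zero_of_col ha₀ hcon)
    have h1 : 0 < a₀ y 0 * a₀ y 0 := mul_self_pos.mpr hy
    have h2 : a₀ y 0 * a₀ y 0 ≤ ∑ y, a₀ y 0 * a₀ y 0 :=
      Finset.single_le_sum (f := fun y => a₀ y 0 * a₀ y 0)
        (fun i _ => mul_self_nonneg (a₀ i 0)) (Finset.mem_univ y)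
    linarith
  generalize (∑ y, a₀ y 0 * a₀ y 0) = c at hN hcpos
  have hs : Real.sqrt c ≠ 0 := (Real.sqrt_pos.mpr hcpos).ne'
  have hr2 : (Real.sqrt c)⁻¹ * (Real.sqrt c)⁻¹ * c = 1 := by
    have h1 := Real.mul_self_sqrt hcpos.le
    field_simp
    rw [sq]
    exact h1.symm
  have haT : ((Real.sqrt c)⁻¹ • a₀).transpose * ((Real.sqrt c)⁻¹ • a₀) = 1 := by
    rw [Matrix.transpose_smul, Matrix.smul_mul, Matrix.mul_smul, smul_smul, hN, smul_smul, hr2,
      one_smul]
  have haT' : ((Real.sqrt c)⁻¹ • a₀) * ((Real.sqrt c)⁻¹ • a₀).transpose = 1 :=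
    mul_eq_one_comm.mp haT
  have hind : Ind T act ((Real.sqrt c)⁻¹ • a₀) k := fun u => ⟨ε u, hε1 u, by
    rw [Matrix.smul_mul, hint u, Matrix.mul_smul, smul_comm]⟩
  have hmem : (⟨(Real.sqrt c)⁻¹ • a₀, ((Real.sqrt c)⁻¹ • a₀).transpose, haT', haT⟩ :
      (Matrix V V ℝ)ˣ) ∈ Rgrp T act hA :=
    ⟨Submodule.smul_mem _ _ ha₀, haT, k, hind⟩
  exact ⟨⟨_, hmem⟩, piFun_eq hA _ _ hind⟩

/-- `a` is `± L w`. -/
def IsQ (T : Tw V) (a : Matrix V V ℝ) (w : V) : Prop := ∃ c : ℝ, c * c = 1 ∧ a = c • T.L w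

theorem IsQ_unique {a : Matrix V V ℝ} {w w' : V} (h : IsQ T a w) (h' : IsQ T a w') : w = w' := by
  obtain ⟨c, hc, e⟩ := h
  obtain ⟨c', hc', e'⟩ := h'
  by_contra hne
  have h3 := congrFun (congrFun (e.symm.trans e') w) 0
  rw [Matrix.smul_apply, Matrix.smul_apply, T.L_apply_zero, T.L_apply_zero, if_pos rfl,
    if_neg hne] at h3
  have : c = 0 := by simpa using h3
  rw [this] at hc
  norm_num at hc

theorem IsQ_mul {a b : Matrix V V ℝ} {w w' : V} (h : IsQ T a w) (h' : IsQ T b w') :
    IsQ T (a * b) (w + w') := by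
  obtain ⟨c, hc, rfl⟩ := h
  obtain ⟨c', hc', rfl⟩ := h'
  refine ⟨c * c' * T.σ w w', ?_, ?_⟩
  · have := T.sq w w'
    calc c * c' * T.σ w w' * (c * c' * T.σ w w')
        = (c * c) * (c' * c') * (T.σ w w' * T.σ w w') := by ring
      _ = 1 := by rw [hc, hc', this]; norm_num
  · rw [Matrix.smul_mul, Matrix.mul_smul, T.L_mul, smul_smul, smul_smul]

theorem IsQ_comm {a b : Matrix V V ℝ} {w w' : V} (h : IsQ T a w) (h' : IsQ T b w') :
    a * b = (T.σ w w' * T.σ w' w) • (b * a) := by
  obtain ⟨c, hc, rfl⟩ := h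
  obtain ⟨c', hc', rfl⟩ := h'
  rw [Matrix.smul_mul, Matrix.mul_smul, Matrix.smul_mul, Matrix.mul_smul, T.L_comm w w',
    smul_smul, smul_smul, smul_smul, smul_smul]
  congr 1
  ring

theorem L_orth (T : Tw V) (w : V) : (T.L w).transpose * T.L w = 1 := by
  rw [T.L_transpose, Matrix.smul_mul, T.L_sq, smul_smul, T.sq, one_smul]

theorem IsQ_orth {a : Matrix V V ℝ} {w : V} (h : IsQ T a w) : a.transpose * a = 1 := by
  obtain ⟨c, hc, rfl⟩ := h
  rw [Matrix.transpose_smul, Matrix.smul_mul, Matrix.mul_smul, smul_smul, L_orth, hc, one_smul]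

include hA in
theorem IsQ_Ind {a : Matrix V V ℝ} {w : V} (h : IsQ T a w) : Ind T act a 1 := by
  intro u
  refine ⟨T.σ w u * T.σ u w, ?_, ?_⟩
  · have h1 := T.sq w u
    have h2 := T.sq u w
    calc T.σ w u * T.σ u w * (T.σ w u * T.σ u w)
        = (T.σ w u * T.σ w u) * (T.σ u w * T.σ u w) := by ring
      _ = 1 := by rw [h1, h2, mul_one]
  · rw [hA.one]
    exact IsQ_comm h ⟨1, by norm_num, (one_smul _ _).symm⟩

theorem isQ_mem {x : (Matrix V V ℝ)ˣ} {w : V} (h : IsQ T (x : Matrix V V ℝ) w) :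
    x ∈ Rgrp T act hA := by
  refine ⟨?_, IsQ_orth h, 1, IsQ_Ind hA h⟩
  obtain ⟨c, hc, e⟩ := h
  rw [e]
  exact Submodule.smul_mem _ _ (T.L_mem w)

theorem pi_eq_one_of_isQ (x : Rgrp T act hA) {w : V} (h : IsQ T (val hA x) w) : pi hA x = 1 :=
  piFun_eq hA x 1 (IsQ_Ind hA h)

theorem val_ne_zero (x : Rgrp T act hA) : val hA x ≠ 0 := by
  intro h0
  have h1 := val_orth hA x
  rw [h0, mul_zero] at h1
  have h2 := congrFun (congrFun h1 0) 0
  simp at h2

theorem ker_isQ (x : Rgrp T act hA) (h : pi hA x = 1) : ∃ w, IsQ T (val hA x) w := by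
  have hind := piFun_spec hA x
  have h' : piFun hA x = 1 := h
  rw [h'] at hind
  have hsc : ∀ u, ∃ s : ℝ, s * s = 1 ∧ val hA x * T.L u = s • (T.L u * val hA x) := by
    intro u
    obtain ⟨s, hs, e⟩ := hind u
    rw [hA.one] at e
    exact ⟨s, hs, e⟩
  obtain ⟨w, hw, e⟩ := T.monomial_of_sign_comm (val_mem hA x) (val_ne_zero hA x) hsc
  refine ⟨w, val hA x w 0, ?_, e⟩
  have h1 := val_orth hA x
  generalize val hA x w 0 = c at e h1
  rw [e, Matrix.transpose_smul, Matrix.smul_mul, Matrix.mul_smul, smul_smul, L_orth] at h1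
  have h2 := congrFun (congrFun h1 0) 0
  simpa using h2

end grp

theorem finite_of_finite_ker {G H : Type*} [Group G] [Group H] [Finite H] (f : G →* H)
    [Finite f.ker] : Finite G := by
  have h1 : Nat.card G = Nat.card (G ⧸ f.ker) * Nat.card f.ker :=
    Subgroup.card_eq_card_quotient_mul_card_subgroup f.ker
  have : Finite (G ⧸ f.ker) :=
    Finite.of_injective (QuotientGroup.kerLift f) (QuotientGroup.kerLift_injective f)
  have h2 : Nat.card G ≠ 0 := by
    rw [h1]
    exact Nat.mul_ne_zero Nat.card_pos.ne' Nat.card_pos.ne'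
  exact Nat.finite_of_card_ne_zero h2

section main

variable {T : Tw V} {act : K → V → V} (hA : Act T act)

/-- the value of `χ`. -/
noncomputable def chiFun (a : (pi hA).ker) : V :=
  Classical.choose (ker_isQ hA a.1 (MonoidHom.mem_ker.mp a.2))

theorem chiFun_spec (a : (pi hA).ker) : IsQ T (val hA a.1) (chiFun hA a) :=
  Classical.choose_spec (ker_isQ hA a.1 (MonoidHom.mem_ker.mp a.2))

theorem chiFun_eq (a : (pi hA).ker) {w : V} (h : IsQ T (val hA a.1) w) : chiFun hA a = w :=
  IsQ_unique (chiFun_spec hA a) h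

/-- the homomorphism `χ : Q → V`. -/
noncomputable def chi : (pi hA).ker →* Multiplicative V :=
  MonoidHom.mk' (fun a => Multiplicative.ofAdd (chiFun hA a)) (fun a b => by
    show Multiplicative.ofAdd (chiFun hA (a * b)) =
      Multiplicative.ofAdd (chiFun hA a) * Multiplicative.ofAdd (chiFun hA b)
    rw [← ofAdd_add]
    congr 1
    exact chiFun_eq hA (a * b) (IsQ_mul (chiFun_spec hA a) (chiFun_spec hA b)))

theorem chi_apply (a : (pi hA).ker) : chi hA a = Multiplicative.ofAdd (chiFun hA a) := rfl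

/-- `c • L w` as an element of the kernel. -/
def qElt (c : ℝ) (hc : c * c = 1) (w : V) : (pi hA).ker :=
  ⟨⟨⟨c • T.L w, c • T.Li w,
      by rw [Matrix.smul_mul, Matrix.mul_smul, smul_smul, hc, one_smul, T.L_mul_Li],
      by rw [Matrix.smul_mul, Matrix.mul_smul, smul_smul, hc, one_smul, T.Li_mul_L]⟩,
    isQ_mem hA ⟨c, hc, rfl⟩⟩,
   MonoidHom.mem_ker.mpr (pi_eq_one_of_isQ hA _ ⟨c, hc, rfl⟩)⟩

theorem val_qElt (c : ℝ) (hc : c * c = 1) (w : V) : val hA (qElt hA c hc w).1 = c • T.L w := rfl

theorem chi_surjective : Function.Surjective (chi hA) := by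
  intro w
  refine ⟨qElt hA 1 (by norm_num) (Multiplicative.toAdd w), ?_⟩
  rw [chi_apply, chiFun_eq hA _ (⟨1, by norm_num, rfl⟩ :
    IsQ T (val hA (qElt hA 1 (by norm_num) (Multiplicative.toAdd w)).1) (Multiplicative.toAdd w))]
  rfl

/-- a central element of the kernel is `± 1`. -/
theorem chiFun_eq_zero_of_comm (a : (pi hA).ker)
    (h : ∀ u, T.L u * val hA a.1 = val hA a.1 * T.L u) : chiFun hA a = 0 := by
  have h1 := T.central (val_mem hA a.1) h
  obtain ⟨c, hc, e⟩ := chiFun_spec hA a
  by_contra hne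
  have h2 := congrFun (congrFun (e.symm.trans h1) (chiFun hA a)) 0
  rw [Matrix.smul_apply, Matrix.smul_apply, T.L_apply_zero, if_pos rfl, Matrix.one_apply_ne hne]
    at h2
  have : c = 0 := by simpa using h2
  rw [this] at hc
  norm_num at hc

theorem chi_ker : (chi hA).ker = Subgroup.center (pi hA).ker := by
  ext a
  rw [MonoidHom.mem_ker, Subgroup.mem_center_iff, chi_apply]
  constructor
  · intro h b
    have h0 : chiFun hA a = 0 := by
      have := congrArg Multiplicative.toAdd h
      simpa using this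
    obtain ⟨c, hc, e⟩ := chiFun_spec hA a
    rw [h0, T.L_zero] at e
    apply Subtype.ext
    apply val_ext hA
    show val hA b.1 * val hA a.1 = val hA a.1 * val hA b.1
    rw [e, Matrix.mul_smul, Matrix.smul_mul, mul_one, one_mul]
  · intro h
    have h0 : chiFun hA a = 0 := by
      apply chiFun_eq_zero_of_comm
      intro u
      have h1 := h (qElt hA 1 (by norm_num) u)
      have h2 := congrArg (fun x : (pi hA).ker => val hA x.1) h1
      have h3 : val hA (qElt hA 1 (by norm_num) u).1 * val hA a.1 =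
          val hA a.1 * val hA (qElt hA 1 (by norm_num) u).1 := h2
      rw [val_qElt, one_smul] at h3
      exact h3
    rw [h0]
    rfl

theorem chi_conj (r : Rgrp T act hA) (a : (pi hA).ker) (h : r * a.1 * r⁻¹ ∈ (pi hA).ker) :
    chiFun hA ⟨r * a.1 * r⁻¹, h⟩ = act (pi hA r) (chiFun hA a) := by
  apply chiFun_eq
  obtain ⟨c, hc, e⟩ := chiFun_spec hA a
  obtain ⟨s, hs, e2⟩ := piFun_spec hA r (chiFun hA a)
  refine ⟨c * s, ?_, ?_⟩
  · calc c * s * (c * s) = (c * c) * (s * s) := by ring
      _ = 1 := by rw [hc, hs, mul_one]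
  · show val hA r * val hA a.1 * val hA r⁻¹ = (c * s) • T.L (act (pi hA r) (chiFun hA a))
    rw [e, Matrix.mul_smul, e2, Matrix.smul_mul, Matrix.smul_mul, smul_smul, mul_assoc,
      val_mul_inv, mul_one, pi_apply]

theorem chi_sq (a : (pi hA).ker) :
    a * a = 1 ↔ T.σ (chiFun hA a) (chiFun hA a) = 1 := by
  obtain ⟨c, hc, e⟩ := chiFun_spec hA a
  have h1 : val hA a.1 * val hA a.1 = T.σ (chiFun hA a) (chiFun hA a) • (1 : Matrix V V ℝ) := by
    rw [e, Matrix.smul_mul, Matrix.mul_smul, smul_smul, T.L_sq, smul_smul, hc, one_mul]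
  constructor
  · intro h
    have h2 : val hA a.1 * val hA a.1 = 1 := congrArg (fun x : (pi hA).ker => val hA x.1) h
    rw [h1] at h2
    have h3 := congrFun (congrFun h2 0) 0
    simpa using h3
  · intro h
    rw [h, one_smul] at h1
    apply Subtype.ext
    apply val_ext hA
    exact h1

theorem finite_ker : Finite (pi hA).ker := by
  let F : V × Bool → Matrix V V ℝ := fun p => (if p.2 then (1 : ℝ) else -1) • T.L p.1
  have hmem : ∀ a : (pi hA).ker, val hA a.1 ∈ Set.range F := by
    intro a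
    obtain ⟨c, hc, e⟩ := chiFun_spec hA a
    rcases mul_self_eq_one_iff.mp hc with h | h
    · exact ⟨(chiFun hA a, true), by simp [F, e, h]⟩
    · exact ⟨(chiFun hA a, false), by simp [F, e, h]⟩
  exact Finite.of_injective (fun a : (pi hA).ker => (⟨val hA a.1, hmem a⟩ : Set.range F))
    (fun a b h => Subtype.ext (val_ext hA (congrArg Subtype.val h)))

/-- the central involution `-1`. -/
def zElt : Rgrp T act hA := (qElt hA (-1) (by norm_num) 0).1

theorem val_zElt : val hA (zElt hA) = -1 := by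
  show (-1 : ℝ) • T.L 0 = -1
  rw [T.L_zero]
  simp

theorem zElt_mem : zElt hA ∈ (pi hA).ker := (qElt hA (-1) (by norm_num) 0).2

theorem extraspecial [Finite (Rgrp T act hA)] (hV : ∃ u : V, u ≠ 0) :
    Cfsg.IsExtraspecial 2 ↥(pi hA).ker := by
  apply Cfsg.Agent.Lib.helper92.isExtraspecial_of_data (pi hA).ker (zElt hA)
  · -- z * z = 1
    apply val_ext hA
    rw [val_mul, val_zElt, val_one]
    simp
  · -- z ≠ 1
    intro h
    have h1 := congrArg (val hA) h
    rw [val_zElt, val_one] at h1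
    have h2 := congrFun (congrFun h1 0) 0
    norm_num at h2
  · -- commutators
    intro x hx y hy
    obtain ⟨w, hw⟩ := ker_isQ hA x (MonoidHom.mem_ker.mp hx)
    obtain ⟨w', hw'⟩ := ker_isQ hA y (MonoidHom.mem_ker.mp hy)
    have hc := IsQ_comm hw hw'
    have ht : T.σ w w' * T.σ w' w = 1 ∨ T.σ w w' * T.σ w' w = -1 := by
      rcases T.pm w w' with h1 | h1 <;> rcases T.pm w' w with h2 | h2 <;> rw [h1, h2] <;>
        norm_num
    rcases ht with ht | ht
    · rw [ht, one_smul] at hc
      have hxy : x * y = y * x := val_ext hA hc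
      have : x * y * x⁻¹ * y⁻¹ = 1 := by rw [hxy]; group
      rw [this]
      exact Subgroup.one_mem _
    · rw [ht] at hc
      have hxy : x * y = zElt hA * (y * x) := by
        apply val_ext hA
        rw [val_mul, val_mul, val_mul, val_zElt, hc]
        simp
      have : x * y * x⁻¹ * y⁻¹ = zElt hA := by rw [hxy]; group
      rw [this]
      exact Subgroup.mem_zpowers _
  · -- squares
    intro x hx
    obtain ⟨w, c, hc, e⟩ := ker_isQ hA x (MonoidHom.mem_ker.mp hx)
    have h1 : val hA x * val hA x = T.σ w w • (1 : Matrix V V ℝ) := by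
      rw [e, Matrix.smul_mul, Matrix.mul_smul, smul_smul, T.L_sq, smul_smul, hc, one_mul]
    rcases T.pm w w with h | h
    · rw [h, one_smul] at h1
      have : x * x = 1 := val_ext hA h1
      rw [this]
      exact Subgroup.one_mem _
    · rw [h] at h1
      have : x * x = zElt hA := by
        apply val_ext hA
        rw [val_mul, val_zElt, h1]
        simp
      rw [this]
      exact Subgroup.mem_zpowers _
  · -- centre
    intro x hx hcen
    have h0 : chiFun hA ⟨x, hx⟩ = 0 := by
      apply chiFun_eq_zero_of_comm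
      intro u
      have h1 := hcen (qElt hA 1 (by norm_num) u).1 (qElt hA 1 (by norm_num) u).2
      have h2 := congrArg (val hA) h1
      rw [val_mul, val_mul, val_qElt, one_smul] at h2
      exact h2
    obtain ⟨c, hc, e⟩ := chiFun_spec hA ⟨x, hx⟩
    rw [h0, T.L_zero] at e
    have e' : val hA x = c • (1 : Matrix V V ℝ) := e
    rcases mul_self_eq_one_iff.mp hc with h | h
    · rw [h, one_smul] at e'
      have : x = 1 := val_ext hA e'
      rw [this]
      exact Subgroup.one_mem _
    · rw [h] at e'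
      have : x = zElt hA := by
        apply val_ext hA
        rw [val_zElt, e']
        simp
      rw [this]
      exact Subgroup.mem_zpowers _
  · -- z central
    intro r _
    apply val_ext hA
    rw [val_mul, val_mul, val_zElt]
    simp
  · -- nonabelian
    obtain ⟨u, hu⟩ := hV
    obtain ⟨w, hw⟩ := T.nd u hu
    refine ⟨(qElt hA 1 (by norm_num) u).1, (qElt hA 1 (by norm_num) u).2,
      (qElt hA 1 (by norm_num) w).1, (qElt hA 1 (by norm_num) w).2, ?_⟩
    intro h
    have h1 := congrArg (val hA) h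
    rw [val_mul, val_mul, val_qElt, val_qElt, one_smul, one_smul, T.L_comm u w, hw,
      T.L_mul] at h1
    have h2 := congrFun (congrFun h1 (w + u)) 0
    simp only [Matrix.smul_apply, T.L_apply_zero, if_true, smul_eq_mul, mul_one] at h2
    have h3 : T.σ w u = 0 := by linarith
    have h4 := T.sq w u
    rw [h3] at h4
    norm_num at h4

end main

/-- **The extension**: a finite group `R` with a normal extraspecial subgroup `Q` of order
`2 |V|`, `R ⧸ Q ≃* K`, and `χ : Q → V` compatible with the action. -/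
theorem exists_extension.{u, v} {V : Type u} [AddCommGroup V] [Fintype V] [DecidableEq V]
    {K : Type v} [Group K] [Finite K] (T : Tw V) (hV : ∃ u : V, u ≠ 0) (act : K → V → V)
    (hA : Act T act) :
    ∃ (R : Type u) (_ : Group R) (_ : Finite R) (Q : Subgroup R) (hN : Q.Normal)
      (e : R ⧸ Q ≃* K) (χ : ↥Q →* Multiplicative V),
      Cfsg.IsExtraspecial 2 ↥Q ∧ Nat.card ↥Q = 2 * Fintype.card V ∧ Function.Surjective χ ∧
      χ.ker = Subgroup.center ↥Q ∧
      (∀ (r : R) (a : ↥Q), χ ⟨r * a * r⁻¹, hN.conj_mem (a : R) a.2 r⟩ =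
        Multiplicative.ofAdd (act (e (r : R ⧸ Q)) (Multiplicative.toAdd (χ a)))) ∧
      ∀ a : ↥Q, a * a = 1 ↔
        T.σ (Multiplicative.toAdd (χ a)) (Multiplicative.toAdd (χ a)) = 1 := by
  haveI hfinQ : Finite (pi hA).ker := finite_ker hA
  haveI hfinR : Finite (Rgrp T act hA) := finite_of_finite_ker (pi hA)
  have hext := extraspecial hA hV
  have hker := chi_ker hA
  refine ⟨Rgrp T act hA, inferInstance, hfinR, (pi hA).ker, inferInstance,
    QuotientGroup.quotientKerEquivOfSurjective (pi hA) (pi_surjective hA), chi hA, hext, ?_,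
    chi_surjective hA, hker, ?_, ?_⟩
  · have h1 : Nat.card (pi hA).ker =
        Nat.card ((pi hA).ker ⧸ (chi hA).ker) * Nat.card (chi hA).ker :=
      Subgroup.card_eq_card_quotient_mul_card_subgroup _
    have h2 : Nat.card ((pi hA).ker ⧸ (chi hA).ker) = Fintype.card V := by
      rw [Nat.card_congr (QuotientGroup.quotientKerEquivOfSurjective (chi hA)
        (chi_surjective hA)).toEquiv, Nat.card_congr (Multiplicative.toAdd : Multiplicative V ≃ V),
        Nat.card_eq_fintype_card]
    have h3 : Nat.card (chi hA).ker = 2 := by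
      rw [hker]
      exact hext.2
    rw [h1, h2, h3, mul_comm]
  · intro r a
    rw [chi_apply, chi_apply]
    congr 1
    exact chi_conj hA r a _
  · intro a
    exact chi_sq hA a

end Cfsg.Agent.Lib.helper67.ExtraExt
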