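import Mathlib
import Cfsg.Agent.Lib.helper67.HughesAL

/-!
# The trace identity for a Frobenius partition (helper67)

Let `F = N ⋊ ⟨y⟩` be a finite group with a Frobenius partition (the conjugates of `⟨y⟩` meet
pairwise trivially and cover `F ∖ N`), acting on a finite commutative group `M` of order prime to
`|N|`.  If the "trace" `∏_{i < o(y)} y^i • m` is trivial for every `m`, then `N` acts trivially on
`M` (`frob_trace_fixed`).  The proof is the group-ring identity
`∑_{F} = ∑_{N} + ∑_{n ∈ N} n (∑_{⟨y⟩}) n⁻¹ - |N|`.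

`commute_of_frob_trace` lifts this to solvable sections by induction along the derived series.
`exists_orderOf_eq_prime_mul` produces elements of order `p * h` from a lift `g` of an element of
order `h` with `g ^ h ≠ 1`.
-/

set_option autoImplicit false

namespace Cfsg.Agent.Lib.helper67

open scoped Pointwise

theorem frobTrace_mem_conj_smul {G : Type*} [Group G] (H : Subgroup G) (g x : G) :
    x ∈ MulAut.conj g • H ↔ g⁻¹ * x * g ∈ H := by
  rw [Subgroup.mem_pointwise_smul_iff_inv_smul_mem, MulAut.smul_def, MulAut.conj_inv_apply]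

/-- Trace identity for a Frobenius partition with cyclic complement `⟨y⟩`: if the `⟨y⟩`-trace is
trivial on `M` and `|N|` is prime to `|M|`, then `N` acts trivially on `M`. -/
theorem frob_trace_fixed {F : Type*} [Group F] [Finite F] {M : Type*} [CommGroup M] [Finite M]
    (y : F) (N : Subgroup F) (hc : Subgroup.IsComplement' N (Subgroup.zpowers y))
    (hTI : ∀ g : F, g ∉ Subgroup.zpowers y →
      Subgroup.zpowers y ⊓ (MulAut.conj g • Subgroup.zpowers y) = ⊥)
    (hcov : ∀ f : F, f ∉ N → ∃ g : F, f ∈ MulAut.conj g • Subgroup.zpowers y)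
    (φ : F →* MulAut M)
    (hPy : ∀ m : M, ∏ i ∈ Finset.range (orderOf y), φ (y ^ i) m = 1)
    (hcop : (Nat.card N).Coprime (Nat.card M)) :
    ∀ n ∈ N, ∀ m : M, φ n m = m := by
  classical
  have := Fintype.ofFinite F
  intro n₀ hn₀ m
  set H := Subgroup.zpowers y with hHdef
  have hPH : ∀ m' : M, ∏ x : H, φ (x : F) m' = 1 := by
    intro m'
    rw [← hPy m', ← Fin.prod_univ_eq_prod_range (fun i => φ (y ^ i) m') (orderOf y)]
    exact (Fintype.prod_equiv (finEquivZPowers (isOfFinOrder_of_finite y)) _ _ (fun i => by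
      rw [finEquivZPowers_apply])).symm
  have hdisj : ∀ x : F, x ∈ N → x ∈ H → x = 1 := fun x h1 h2 =>
    (Subgroup.disjoint_def.mp hc.disjoint) h1 h2
  have hfix : ∀ (K : Subgroup F) (m : M) (k : F), k ∈ K →
      φ k (∏ x : K, φ (x : F) m) = ∏ x : K, φ (x : F) m := by
    intro K m k hk
    rw [map_prod]
    have h1 : ∀ x : K, φ k (φ (x : F) m) = φ ((⟨k, hk⟩ * x : K) : F) m := by
      intro x
      rw [Subgroup.coe_mul, map_mul, MulAut.mul_apply]
    simp_rw [h1]
    exact Fintype.prod_equiv (Equiv.mulLeft ⟨k, hk⟩) _ _ (fun x => rfl)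
  have hPF : ∏ f : F, φ f m = 1 := by
    have hbij : Function.Bijective (fun x : N × H => (x.1 : F) * (x.2 : F)) := hc
    rw [← Fintype.prod_bijective _ hbij (fun x : N × H => φ ((x.1 : F) * (x.2 : F)) m)
      (fun f => φ f m) (fun x => rfl)]
    rw [Fintype.prod_prod_type]
    have h0 : ∀ n : N, ∏ h : H, φ ((n : F) * (h : F)) m = 1 := by
      intro n
      have h1 : ∀ h : H, φ ((n : F) * (h : F)) m = φ (n : F) (φ (h : F) m) := by
        intro h
        rw [map_mul, MulAut.mul_apply]
      simp_rw [h1]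
      rw [← map_prod, hPH, map_one]
    simp_rw [h0]
    exact Finset.prod_const_one
  have hsplit : ∏ f : F, φ f m = (∏ f ∈ Finset.univ.filter (· ∈ N), φ f m) *
      ∏ f ∈ Finset.univ.filter (· ∉ N), φ f m :=
    (Finset.prod_filter_mul_prod_filter_not _ _ _).symm
  have hN' : ∏ f ∈ Finset.univ.filter (· ∈ N), φ f m = ∏ x : N, φ (x : F) m :=
    Finset.prod_subtype (Finset.univ.filter (· ∈ N)) (by simp) _
  have hout : ∏ f ∈ Finset.univ.filter (· ∉ N), φ f m = (m ^ Nat.card N)⁻¹ := by
    let Ψ : N × H → F := fun x => (x.1 : F) * (x.2 : F) * (x.1 : F)⁻¹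
    let S : Finset (N × H) := Finset.univ.filter (fun x => x.2 ≠ 1)
    have himg : S.image Ψ = Finset.univ.filter (· ∉ N) := by
      ext f
      simp only [Finset.mem_image, Finset.mem_filter, Finset.mem_univ, true_and, S]
      constructor
      · rintro ⟨⟨n, h⟩, hh1, rfl⟩ hmem
        apply hh1
        have h2 : (h : F) ∈ N := by
          have : (h : F) = (n : F)⁻¹ * ((n : F) * (h : F) * (n : F)⁻¹) * (n : F) := by group
          rw [this]
          exact mul_mem (mul_mem (inv_mem n.2) hmem) n.2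
        exact Subtype.ext (hdisj _ h2 h.2)
      · intro hf
        obtain ⟨g, hg⟩ := hcov f hf
        rw [frobTrace_mem_conj_smul] at hg
        obtain ⟨⟨n, h₀⟩, hnh, -⟩ := hc.existsUnique g
        simp only at hnh
        refine ⟨(n, ⟨(h₀ : F) * (g⁻¹ * f * g) * (h₀ : F)⁻¹,
          mul_mem (mul_mem h₀.2 hg) (inv_mem h₀.2)⟩), ?_, ?_⟩
        · intro h1
          have h1' : (h₀ : F) * (g⁻¹ * f * g) * (h₀ : F)⁻¹ = 1 := congrArg Subtype.val h1
          apply hf
          have : f = 1 := by
            have h2 : g⁻¹ * f * g = 1 := by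
              have := congrArg (fun x => (h₀ : F)⁻¹ * x * (h₀ : F)) h1'
              simpa [mul_assoc] using this
            have := congrArg (fun x => g * x * g⁻¹) h2
            simpa [mul_assoc] using this
          rw [this]
          exact one_mem N
        · simp only [Ψ]
          rw [← hnh]
          group
    have hinj : Set.InjOn Ψ S := by
      rintro ⟨n, h⟩ hx ⟨n', h'⟩ hx' hΨ
      have hh1 : h ≠ 1 := (Finset.mem_filter.mp hx).2
      simp only [Ψ] at hΨ
      have hg : (n : F)⁻¹ * (n' : F) ∈ N := mul_mem (inv_mem n.2) n'.2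
      have hconj : (h : F) = ((n : F)⁻¹ * (n' : F)) * (h' : F) * ((n : F)⁻¹ * (n' : F))⁻¹ := by
        have := congrArg (fun x => (n : F)⁻¹ * x * (n : F)) hΨ
        simp only [mul_assoc, inv_mul_cancel_left, inv_mul_cancel, mul_one] at this
        rw [this]
        group
      have hgH : (n : F)⁻¹ * (n' : F) ∈ H := by
        by_contra hgH
        have h1 := hTI _ hgH
        have h2 : (h : F) ∈ H ⊓ (MulAut.conj ((n : F)⁻¹ * (n' : F)) • H) := by
          refine Subgroup.mem_inf.mpr ⟨h.2, ?_⟩
          rw [frobTrace_mem_conj_smul, hconj]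
          have : ((n : F)⁻¹ * (n' : F))⁻¹ * ((n : F)⁻¹ * (n' : F) * (h' : F) *
              ((n : F)⁻¹ * (n' : F))⁻¹) * ((n : F)⁻¹ * (n' : F)) = (h' : F) := by group
          rw [this]
          exact h'.2
        rw [h1, Subgroup.mem_bot] at h2
        exact hh1 (Subtype.ext h2)
      have hg1 : (n : F)⁻¹ * (n' : F) = 1 := hdisj _ hg hgH
      have hnn : n = n' := Subtype.ext (inv_mul_eq_one.mp hg1)
      subst hnn
      have hh : (h : F) = (h' : F) := by
        have := congrArg (fun x => (n : F)⁻¹ * x * (n : F)) hΨ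
        simpa [mul_assoc] using this
      rw [Subtype.ext hh]
    rw [← himg, Finset.prod_image hinj, Finset.prod_filter, Fintype.prod_prod_type]
    have hrow : ∀ n : N, ∏ h : H, (if h ≠ 1 then φ (Ψ (n, h)) m else 1) = m⁻¹ := by
      intro n
      have hfull : ∏ h : H, φ (Ψ (n, h)) m = 1 := by
        have h1 : ∀ h : H, φ (Ψ (n, h)) m = φ (n : F) (φ (h : F) (φ (n : F)⁻¹ m)) := by
          intro h
          simp only [Ψ, map_mul, MulAut.mul_apply]
        simp_rw [h1]
        rw [← map_prod, hPH, map_one]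
      rw [← Finset.mul_prod_erase Finset.univ _ (Finset.mem_univ (1 : H))] at hfull
      have h1 : φ (Ψ (n, 1)) m = m := by
        simp [Ψ]
      rw [h1] at hfull
      have h2 : ∏ h : H, (if h ≠ 1 then φ (Ψ (n, h)) m else 1) =
          ∏ h ∈ Finset.univ.erase (1 : H), φ (Ψ (n, h)) m := by
        rw [← Finset.prod_filter]
        congr 1
        ext h
        simp
      rw [h2]
      exact eq_inv_of_mul_eq_one_right hfull
    simp_rw [hrow]
    rw [Finset.prod_const, Finset.card_univ, ← Nat.card_eq_fintype_card, inv_pow]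
  have hPNm : ∏ x : N, φ (x : F) m = m ^ Nat.card N := by
    have h1 := hPF
    rw [hsplit, hN', hout] at h1
    exact mul_inv_eq_one.mp h1
  have h2 : φ n₀ (m ^ Nat.card N) = m ^ Nat.card N := by
    rw [← hPNm]
    exact hfix N m n₀ hn₀
  have h3 : (φ n₀ m / m) ^ Nat.card N = 1 := by
    rw [div_pow, ← map_pow, h2, div_self']
  have h4 : (φ n₀ m / m) ^ Nat.card M = 1 := pow_card_eq_one'
  have h5 : φ n₀ m / m = 1 := by
    rw [← orderOf_eq_one_iff]
    exact Nat.eq_one_of_dvd_coprimes hcop (orderOf_dvd_of_pow_eq_one h3)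
      (orderOf_dvd_of_pow_eq_one h4)
  exact div_eq_one.mp h5


/-- From a lift `g` of an element of order `h` of `G ⧸ N` with `g ^ h ≠ 1`, an element of order
`p * h` for a prime `p` dividing `|N|`. -/
theorem exists_orderOf_eq_prime_mul {G : Type*} [Group G] [Finite G] (N : Subgroup G) [N.Normal]
    (g : G) (h : ℕ) (hh : orderOf (QuotientGroup.mk' N g) = h) (hg : g ^ h ≠ 1) :
    ∃ p : ℕ, p.Prime ∧ p ∣ Nat.card N ∧ ∃ g' : G, orderOf g' = p * h := by
  have hh0 : h ≠ 0 := by rw [← hh]; exact (orderOf_pos _).ne'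
  have hzN : g ^ h ∈ N := by
    rw [← QuotientGroup.eq_one_iff, QuotientGroup.mk_pow]
    have := pow_orderOf_eq_one (QuotientGroup.mk' N g)
    rw [hh] at this
    exact this
  have hs1 : orderOf (g ^ h) ≠ 1 := by
    rw [Ne, orderOf_eq_one_iff]; exact hg
  have hsN : orderOf (g ^ h) ∣ Nat.card N := N.orderOf_dvd_natCard hzN
  have hdvd : h ∣ orderOf g := hh ▸ orderOf_map_dvd (QuotientGroup.mk' N) g
  have hso : orderOf (g ^ h) = orderOf g / h := orderOf_pow_of_dvd hh0 hdvd
  refine ⟨(orderOf (g ^ h)).minFac, Nat.minFac_prime hs1,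
    (Nat.minFac_dvd _).trans hsN, ?_⟩
  obtain ⟨k, hk⟩ := Nat.minFac_dvd (orderOf (g ^ h))
  have ho : orderOf g = ((orderOf (g ^ h)).minFac * h) * k := by
    have h1 : orderOf g = orderOf (g ^ h) * h := by
      rw [hso, Nat.div_mul_cancel hdvd]
    rw [h1]
    conv_lhs => rw [hk]
    ring
  have hk0 : k ≠ 0 := by
    rintro rfl
    rw [mul_zero] at ho
    exact (orderOf_pos g).ne' ho
  refine ⟨g ^ k, ?_⟩
  rw [orderOf_pow_of_dvd hk0 (Dvd.intro_left _ ho.symm), ho,
    Nat.mul_div_cancel _ (Nat.pos_of_ne_zero hk0)]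

/-- The conjugation action of a subgroup `E ≤ N_G(U)` on `U`. -/
def conjActHom {G : Type*} [Group G] (E U : Subgroup G)
    (hEU : E ≤ Subgroup.normalizer (U : Set G)) : E →* MulAut U where
  toFun e :=
    { toFun := fun u => ⟨(e : G) * u * (e : G)⁻¹,
        (Subgroup.mem_normalizer_iff.mp (hEU e.2) u).mp u.2⟩
      invFun := fun u => ⟨(e : G)⁻¹ * u * (e : G), by
        have := (Subgroup.mem_normalizer_iff.mp (hEU (inv_mem e.2)) u).mp u.2
        simpa using this⟩
      left_inv := fun u => by ext; simp [mul_assoc]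
      right_inv := fun u => by ext; simp [mul_assoc]
      map_mul' := fun u v => by ext; simp [mul_assoc] }
  map_one' := by ext u; simp
  map_mul' := fun a b => by ext u; simp [mul_assoc]

theorem conjActHom_coe {G : Type*} [Group G] (E U : Subgroup G)
    (hEU : E ≤ Subgroup.normalizer (U : Set G)) (e : E) (u : U) :
    ((conjActHom E U hEU e u : U) : G) = (e : G) * u * (e : G)⁻¹ := rfl

/-- The action of `MulAut U` on the abelianization of `U`. -/
def abAutHom (U : Type*) [Group U] : MulAut U →* MulAut (Abelianization U) where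
  toFun e := MulEquiv.abelianizationCongr e
  map_one' := by
    ext x
    obtain ⟨u, rfl⟩ := QuotientGroup.mk'_surjective (commutator U) x
    rfl
  map_mul' := fun a b => by
    ext x
    obtain ⟨u, rfl⟩ := QuotientGroup.mk'_surjective (commutator U) x
    rfl

theorem abAutHom_of (U : Type*) [Group U] (e : MulAut U) (u : U) :
    abAutHom U e (Abelianization.of u) = Abelianization.of (e u) := rfl


theorem normalizer_le_normalizer_commutator {G : Type*} [Group G] (U : Subgroup G) :
    Subgroup.normalizer (U : Set G) ≤ Subgroup.normalizer ((⁅U, U⁆ : Subgroup G) : Set G) := by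
  intro g hg
  have h1 : U.map (MulAut.conj g).toMonoidHom = U := by
    ext x
    constructor
    · rintro ⟨u, hu, rfl⟩
      exact (Subgroup.mem_normalizer_iff.mp hg u).mp hu
    · intro hx
      refine ⟨g⁻¹ * x * g, ?_, ?_⟩
      · rw [SetLike.mem_coe, Subgroup.mem_normalizer_iff.mp hg (g⁻¹ * x * g)]
        have : g * (g⁻¹ * x * g) * g⁻¹ = x := by group
        rw [this]; exact hx
      · show g * (g⁻¹ * x * g) * g⁻¹ = x
        group
  have h2 : (⁅U, U⁆ : Subgroup G).map (MulAut.conj g).toMonoidHom = ⁅U, U⁆ := by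
    rw [Subgroup.map_commutator, h1]
  rw [Subgroup.mem_normalizer_iff]
  intro x
  constructor
  · intro hx
    have := Subgroup.mem_map_of_mem (MulAut.conj g).toMonoidHom hx
    rw [h2] at this
    exact this
  · intro hx
    rw [← h2] at hx
    obtain ⟨z, hz, hzx⟩ := hx
    have hzx' : g * z * g⁻¹ = g * x * g⁻¹ := hzx
    have : z = x := by
      have := congrArg (fun t => g⁻¹ * t * g) hzx'
      simpa [mul_assoc] using this
    rw [← this]; exact hz

/-- Splitting along a Frobenius partition forces the kernel to centralize solvable sections.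
`E = F₀ ⋊ ⟨c⟩` is mapped isomorphically by `π` onto a group `Q` with Frobenius partition
`(Fb, ⟨π c⟩)`; if `(u c) ^ o(π c) = 1` for all `u ∈ N` and `|F₀|`, `|Fb|` are prime to `|N|`, then
`F₀` centralizes every solvable `E`-invariant subgroup `U ≤ N`. -/
theorem commute_of_frob_trace {G Q : Type*} [Group G] [Finite G] [Group Q] [Finite Q]
    (π : G →* Q) (N E F₀ : Subgroup G) (Fb : Subgroup Q) (c : G)
    (hF₀E : F₀ ≤ E) (hcE : c ∈ E)
    (hEbij : Function.Bijective (fun e : E => π (e : G)))
    (hF₀b : ∀ f ∈ F₀, π f ∈ Fb)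
    (hc : Subgroup.IsComplement' Fb (Subgroup.zpowers (π c)))
    (hTI : ∀ g : Q, g ∉ Subgroup.zpowers (π c) →
      Subgroup.zpowers (π c) ⊓ (MulAut.conj g • Subgroup.zpowers (π c)) = ⊥)
    (hcov : ∀ f : Q, f ∉ Fb → ∃ g : Q, f ∈ MulAut.conj g • Subgroup.zpowers (π c))
    (hspl : ∀ u ∈ N, (u * c) ^ orderOf (π c) = 1)
    (hcop : (Nat.card Fb).Coprime (Nat.card N))
    (hcop₀ : (Nat.card F₀).Coprime (Nat.card N)) :
    ∀ (n : ℕ) (U : Subgroup G), Nat.card U = n → U ≤ N → Group.IsSolvable U →
      E ≤ Subgroup.normalizer (U : Set G) → ∀ f ∈ F₀, ∀ u ∈ U, f * u = u * f := by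
  classical
  have hc1 : c ^ orderOf (π c) = 1 := by
    have := hspl 1 (one_mem N)
    rwa [one_mul] at this
  let ι : E ≃* Q := MulEquiv.ofBijective (π.comp E.subtype) hEbij
  have hι : ∀ e : E, ι e = π (e : G) := fun e => rfl
  intro n
  induction n using Nat.strong_induction_on with
  | _ n ih =>
  intro U hcardU hUN hsol hEU f hf u hu
  haveI := hsol
  by_cases hU : U = ⊥
  · rw [hU, Subgroup.mem_bot] at hu
    rw [hu, mul_one, one_mul]
  have hle : ⁅U, U⁆ ≤ U :=
    Subgroup.commutator_le.mpr (fun g₁ h₁ g₂ h₂ =>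
      U.mul_mem (U.mul_mem (U.mul_mem h₁ h₂) (U.inv_mem h₁)) (U.inv_mem h₂))
  have hne : ⁅U, U⁆ ≠ U := by
    intro h
    haveI : Nontrivial U := (Subgroup.nontrivial_iff_ne_bot U).2 hU
    have h1 := Group.IsSolvable.commutator_lt_top_of_nontrivial U
    apply h1.ne
    apply Subgroup.map_injective U.subtype_injective
    rw [Subgroup.map_subtype_commutator, h, ← MonoidHom.range_eq_map, Subgroup.range_subtype]
  have hlt : Nat.card (⁅U, U⁆ : Subgroup G) < n := by
    rw [← hcardU]
    by_contra hc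
    exact hne (Subgroup.eq_of_le_of_card_ge hle (not_lt.1 hc))
  have hsol' : Group.IsSolvable (⁅U, U⁆ : Subgroup G) :=
    Group.isSolvable_of_isSolvable_injective (Subgroup.inclusion_injective hle)
  have hEU' : E ≤ Subgroup.normalizer ((⁅U, U⁆ : Subgroup G) : Set G) :=
    hEU.trans (normalizer_le_normalizer_commutator U)
  have hcent := ih _ hlt (⁅U, U⁆) rfl (hle.trans hUN) hsol' hEU'
  have hc' : f * u * f⁻¹ * u⁻¹ ∈ ⁅U, U⁆ := by
    let ψ : E →* MulAut (Abelianization U) := (abAutHom U).comp (conjActHom E U hEU)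
    let φ : Q →* MulAut (Abelianization U) := ψ.comp ι.symm.toMonoidHom
    have hφ : ∀ e : E, φ (π (e : G)) = ψ e := by
      intro e
      show ψ (ι.symm (π (e : G))) = ψ e
      rw [← hι e, MulEquiv.symm_apply_apply]
    have hcopM : (Nat.card Fb).Coprime (Nat.card (Abelianization U)) := by
      have h5 : Nat.card (Abelianization U) ∣ Nat.card U :=
        Subgroup.card_quotient_dvd_card (commutator U)
      exact Nat.Coprime.coprime_dvd_right (h5.trans (Subgroup.card_dvd_of_le hUN)) hcop
    have hPy : ∀ m : Abelianization U,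
        ∏ i ∈ Finset.range (orderOf (π c)), φ (π c ^ i) m = 1 := by
      intro m
      obtain ⟨w, rfl⟩ := QuotientGroup.mk'_surjective (commutator U) m
      have h1 := mul_pow_eq_list_prod_conj (w : G) c (orderOf (π c))
      rw [hspl w (hUN w.2), hc1, mul_one] at h1
      have h2 : ((List.range (orderOf (π c))).map
          (fun i => conjActHom E U hEU ((⟨c, hcE⟩ : E) ^ i) w)).prod = 1 := by
        apply Subtype.ext
        rw [Subgroup.val_list_prod, List.map_map, Subgroup.coe_one, h1]
        congr 1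
      have h3 := congrArg (Abelianization.of (G := U)) h2
      rw [map_list_prod, List.map_map, map_one] at h3
      rw [← list_range_map_prod_eq_finset, ← h3]
      congr 1
      apply List.map_congr_left
      intro i _
      have hpow : π c ^ i = π ((((⟨c, hcE⟩ : E) ^ i : E)) : G) := by
        rw [Subgroup.coe_pow, map_pow]
      rw [hpow, hφ]
      rfl
    have key := frob_trace_fixed (π c) Fb hc hTI hcov φ hPy hcopM (π f) (hF₀b f hf)
      (Abelianization.of (⟨u, hu⟩ : U))
    have hφf : φ (π f) = ψ ⟨f, hF₀E hf⟩ := hφ ⟨f, hF₀E hf⟩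
    rw [hφf] at key
    have key' : Abelianization.of (conjActHom E U hEU ⟨f, hF₀E hf⟩ ⟨u, hu⟩)
        = Abelianization.of (⟨u, hu⟩ : U) := key
    have h6 : conjActHom E U hEU ⟨f, hF₀E hf⟩ ⟨u, hu⟩ * (⟨u, hu⟩ : U)⁻¹ ∈ commutator U := by
      rw [← Abelianization.ker_of, MonoidHom.mem_ker, map_mul, map_inv, key']
      exact mul_inv_cancel _
    have h7 := Subgroup.mem_map_of_mem U.subtype h6
    rw [Subgroup.map_subtype_commutator] at h7
    exact h7
  set w := f * u * f⁻¹ * u⁻¹ with hwdef
  have hfw : Commute f w := hcent f hf w hc'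
  have key : ∀ k : ℕ, f ^ k * u = w ^ k * u * f ^ k := by
    intro k
    induction k with
    | zero => simp
    | succ k ihk =>
      have h1 : f * w ^ k = w ^ k * f := (hfw.pow_right k).eq
      have h2 : f * u = w * u * f := by rw [hwdef]; group
      calc f ^ (k + 1) * u = f * (f ^ k * u) := by rw [pow_succ', mul_assoc]
        _ = f * w ^ k * u * f ^ k := by rw [ihk]; group
        _ = w ^ k * (f * u) * f ^ k := by rw [h1]; group
        _ = w ^ (k + 1) * u * f ^ (k + 1) := by rw [h2, pow_succ, pow_succ']; group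
  have hfm : f ^ Nat.card F₀ = 1 := by
    have h4 : (⟨f, hf⟩ : F₀) ^ Nat.card F₀ = 1 := pow_card_eq_one'
    have h5 := congrArg Subtype.val h4
    rw [Subgroup.coe_pow, Subgroup.coe_one] at h5
    exact h5
  have h3 := key (Nat.card F₀)
  rw [hfm, one_mul, mul_one] at h3
  have hwm : w ^ Nat.card F₀ = 1 := by
    have : w ^ Nat.card F₀ * u = 1 * u := by rw [one_mul]; exact h3.symm
    exact mul_right_cancel this
  have hwU : w ^ Nat.card U = 1 := by
    have h4 : (⟨w, hle hc'⟩ : U) ^ Nat.card U = 1 := pow_card_eq_one'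
    have h5 := congrArg Subtype.val h4
    rw [Subgroup.coe_pow, Subgroup.coe_one] at h5
    exact h5
  have hw1 : w = 1 := by
    rw [← orderOf_eq_one_iff]
    exact Nat.eq_one_of_dvd_coprimes
      (Nat.Coprime.coprime_dvd_right (Subgroup.card_dvd_of_le hUN) hcop₀)
      (orderOf_dvd_of_pow_eq_one hwm) (orderOf_dvd_of_pow_eq_one hwU)
  have h6 : f * u = w * u * f := by rw [hwdef]; group
  rw [h6, hw1, one_mul]

end Cfsg.Agent.Lib.helper67
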