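import Mathlib
import Cfsg.Agent.Lib.lead.Hall

/-!
# A Hall-type conjugation lemma for factorized solvable groups

`hall_factor_conj`: if `H = B·D` is solvable with `B` a `π'`-group, then every `π`-subgroup of `H`
is `H`-conjugate into `D`.  (Piece L1 of the proof of B-G 13.3.)
-/

set_option autoImplicit false

namespace Cfsg.Agent.Lib.helper67

namespace HallFactor

/-- if `H = B·D` (as a set product) then `|H : D|` divides `|B|` -/
theorem relIndex_dvd_card_of_factor {G : Type*} [Group G] [Finite G] (H B D : Subgroup G)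
    (hBH : B ≤ H) (hfac : ∀ h ∈ H, ∃ b ∈ B, ∃ d ∈ D, h = b * d) : D.relIndex H ∣ Nat.card B := by
  have horb : MulAction.orbit (B.subgroupOf H) ((1 : H) : H ⧸ D.subgroupOf H) = Set.univ := by
    ext x
    simp only [Set.mem_univ, iff_true]
    induction x using QuotientGroup.induction_on with
    | H k =>
      obtain ⟨b, hb, d, hd, hk⟩ := hfac k k.2
      refine ⟨⟨⟨b, hBH hb⟩, hb⟩, ?_⟩
      show (((⟨b, hBH hb⟩ : H) * (1 : H) : H) : H ⧸ D.subgroupOf H) = (k : H ⧸ D.subgroupOf H)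
      rw [QuotientGroup.eq, Subgroup.mem_subgroupOf]
      have : (((⟨b, hBH hb⟩ : H) * (1 : H))⁻¹ * k : H) = (d : G) := by
        push_cast
        rw [hk]; group
      rw [this]; exact hd
  have h1 := MulAction.index_stabilizer (B.subgroupOf H) ((1 : H) : H ⧸ D.subgroupOf H)
  rw [horb, Set.ncard_univ] at h1
  have h2 : Nat.card (H ⧸ D.subgroupOf H) = D.relIndex H := rfl
  have h3 : Nat.card (B.subgroupOf H) = Nat.card B :=
    Nat.card_congr (Subgroup.subgroupOfEquivOfLe hBH).toEquiv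
  rw [← h2, ← h1, ← h3]
  exact Subgroup.index_dvd_card _

end HallFactor

/-- **Piece L1** (B-G 13.3): `H` solvable, `H = B·D` with `B` a `π'`-group; then every `π`-subgroup
`Y` of `H` is `H`-conjugate into `D`. -/
theorem hall_factor_conj {G : Type*} [Group G] [Finite G] (π : Set ℕ) (H B D Y : Subgroup G)
    (hH : Group.IsSolvable H) (hBH : B ≤ H) (hDH : D ≤ H)
    (hBn : H ≤ Subgroup.normalizer (B : Set G))
    (hBπ : ∀ p : ℕ, p.Prime → p ∣ Nat.card B → p ∉ π)
    (hfac : ∀ h ∈ H, ∃ b ∈ B, ∃ d ∈ D, h = b * d) (hYH : Y ≤ H)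
    (hYπ : ∀ p : ℕ, p.Prime → p ∣ Nat.card Y → p ∈ π) :
    ∃ h ∈ H, Y.map (MulAut.conj h).toMonoidHom ≤ D := by
  haveI : Group.IsSolvable D :=
    Group.isSolvable_of_isSolvable_injective (Subgroup.inclusion_injective hDH)
  obtain ⟨T₀, hT₀⟩ := lead.exists_isPiHall_of_isSolvable π D
  rw [lead.isPiHall_iff] at hT₀
  have hTD : ∀ t ∈ T₀.map (Subgroup.inclusion hDH), (t : G) ∈ D := by
    rintro t ⟨s, -, rfl⟩
    exact s.2
  have hcard : Nat.card (T₀.map (Subgroup.inclusion hDH)) = Nat.card T₀ :=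
    Subgroup.card_map_of_injective (Subgroup.inclusion_injective hDH)
  have hrange : (⊤ : Subgroup D).map (Subgroup.inclusion hDH) = D.subgroupOf H := by
    ext x
    simp only [Subgroup.mem_map, Subgroup.mem_top, true_and, Subgroup.mem_subgroupOf]
    constructor
    · rintro ⟨s, rfl⟩; exact s.2
    · intro hx; exact ⟨⟨x, hx⟩, Subtype.ext rfl⟩
  have hidx : (T₀.map (Subgroup.inclusion hDH)).index = T₀.index * D.relIndex H := by
    have h1 : T₀.map (Subgroup.inclusion hDH) ≤ D.subgroupOf H := fun t ht => hTD t ht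
    have h2 := Subgroup.relIndex_mul_index h1
    have h3 : (T₀.map (Subgroup.inclusion hDH)).relIndex (D.subgroupOf H) = T₀.index := by
      rw [← hrange, Subgroup.relIndex_map_map_of_injective _ _ (Subgroup.inclusion_injective hDH),
        Subgroup.relIndex_top_right]
    rw [h3] at h2
    exact h2.symm
  have hT'hall : Cfsg.IsPiHall π (T₀.map (Subgroup.inclusion hDH)) := by
    rw [lead.isPiHall_iff]
    refine ⟨by rw [hcard]; exact hT₀.1, ?_⟩
    rw [hidx]
    refine lead.PiNum.mul hT₀.2 ?_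
    intro p hp hpd hpπ
    exact hBπ p hp (hpd.trans (HallFactor.relIndex_dvd_card_of_factor H B D hBH hfac)) hpπ
  have hY' : Cfsg.IsPiSubgroup π (Y.subgroupOf H) := by
    intro p hp hpd
    apply hYπ p hp
    rwa [Nat.card_congr (Subgroup.subgroupOfEquivOfLe hYH).toEquiv] at hpd
  obtain ⟨g, hg⟩ := lead.le_conj_isPiHall_of_isSolvable hT'hall hY'
  refine ⟨(g : G)⁻¹, H.inv_mem g.2, ?_⟩
  rintro _ ⟨y, hy, rfl⟩
  have hy' : (⟨y, hYH hy⟩ : H) ∈ Y.subgroupOf H := hy
  obtain ⟨t, ht, hte⟩ := hg hy'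
  have hte' : (g : G) * t * (g : G)⁻¹ = y := congrArg Subtype.val hte
  have hc : (MulAut.conj (g : G)⁻¹).toMonoidHom y = t := by
    show (g : G)⁻¹ * y * ((g : G)⁻¹)⁻¹ = t
    rw [← hte']; group
  rw [hc]; exact hTD t ht

end Cfsg.Agent.Lib.helper67
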