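import Mathlib
import Cfsg.Prelude.Def_Local
import Cfsg.Agent.Lib.helper65.Fitting
import Cfsg.Agent.Lib.helper27.FStar
import Cfsg.Agent.Lib.helper27.Radical
import Cfsg.Agent.Lib.helper1.Coprime
import Cfsg.Agent.Lib.helper1.SZ
import Cfsg.Agent.Lib.helper29.PLen
import Cfsg.Agent.Lib.helper66.PLength
import Cfsg.Agent.Lib.helper14.PConstrained

/-!
# Nilpotent Hall subgroups of solvable groups of `p`-length one control their own fusion

* `sylow_normal_of_centralizes_pPrimeCore` : in a group of `p`-length at most one, a Sylow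
  `p`-subgroup centralizing `O_{p'}` is normal.
* `nilHall_normal` : `K` solvable of `p`-length at most one for every prime, `H` a nilpotent Hall
  subgroup, no nontrivial normal subgroup of order coprime to `|H|`; then `H` is normal in `K`.
* `nilHall_fusion`, `nilHall_fusion_subgroup` : `K` solvable of `p`-length at most one for every
  prime, `H` a nilpotent Hall subgroup; two elements of `H` conjugate in `K` are conjugate by an
  element of `N_K(H)` (with the same conjugation effect).
-/

set_option autoImplicit false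
open scoped commutatorElement Pointwise

namespace Cfsg.Agent.Lib.helper67.NilHall

open Subgroup Cfsg.Agent.Lib

variable {K : Type*} [Group K] [Finite K]

theorem pow_card_of_mem (H : Subgroup K) {x : K} (hx : x ∈ H) : x ^ Nat.card H = 1 := by
  have h := pow_card_eq_one' (G := H) (x := ⟨x, hx⟩)
  have h2 := congrArg (Subtype.val) h
  rw [Subgroup.coe_pow] at h2
  exact h2

/-- In a group of `p`-length at most one, a Sylow `p`-subgroup centralizing `O_{p'}(K)` is
normal. -/
theorem sylow_normal_of_centralizes_pPrimeCore {p : ℕ} [hp : Fact p.Prime]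
    (hpl : Cfsg.PLengthLE p 1 K) (S : Sylow p K)
    (hc : ∀ v ∈ Cfsg.pPrimeCore p K, ∀ y ∈ (S : Subgroup K), v * y = y * v) :
    (S : Subgroup K).Normal := by
  classical
  haveI hVn : (Cfsg.pPrimeCore p K).Normal := helper40.pPrimeCore_normal' p K
  have hVcop : (Nat.card (Cfsg.pPrimeCore p K)).Coprime p := helper27.pPrimeCore_coprime p
  have h0 : Cfsg.pPrimeCore p (K ⧸ Cfsg.pPrimeCore p K) = ⊥ :=
    helper14.pPrimeCore_quotient_pPrimeCore p
  have hplq : Cfsg.PLengthLE p 1 (K ⧸ Cfsg.pPrimeCore p K) :=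
    helper66.PLengthLE.quotient (Cfsg.pPrimeCore p K) hpl
  have hLn : (Cfsg.pPrimePCore p K).Normal := helper38.pPrimePCore_normal p K
  have hSL : (S : Subgroup K) ≤ Cfsg.pPrimePCore p K := by
    intro y hy
    obtain ⟨k, hk⟩ := S.isPGroup' ⟨y, hy⟩
    have hk' : y ^ (p ^ k) = 1 := by simpa using congrArg Subtype.val hk
    show (QuotientGroup.mk' (Cfsg.pPrimeCore p K) y) ∈ Cfsg.pCore p (K ⧸ Cfsg.pPrimeCore p K)
    apply helper29.mem_pCore_of_pLength_one h0 hplq _ k
    rw [← map_pow, hk', map_one]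
  have hLle : Cfsg.pPrimePCore p K ≤ Cfsg.pPrimeCore p K ⊔ (S : Subgroup K) := by
    have h1 := helper14.pPrimePCore_le_sup_sylow (S.subtype hSL)
    refine h1.trans (sup_le_sup_left ?_ _)
    rw [Sylow.coe_subtype]
    rintro z ⟨w, hw, rfl⟩
    exact hw
  constructor
  intro y hy g
  have h1 : g * y * g⁻¹ ∈ Cfsg.pPrimeCore p K ⊔ (S : Subgroup K) :=
    hLle (hLn.conj_mem y (hSL hy) g)
  rw [← SetLike.mem_coe, Subgroup.normal_mul] at h1
  obtain ⟨v, hv, z, hz, hvz0⟩ := h1
  have hvz : v * z = g * y * g⁻¹ := hvz0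
  have hcomm : Commute v z := hc v hv z hz
  have hyn : y ^ Nat.card (S : Subgroup K) = 1 := pow_card_of_mem _ hy
  have hzn : z ^ Nat.card (S : Subgroup K) = 1 := pow_card_of_mem _ hz
  have hvn : v ^ Nat.card (S : Subgroup K) = 1 := by
    have h2 : (v * z) ^ Nat.card (S : Subgroup K) = 1 := by
      rw [hvz, conj_pow, hyn, mul_one, mul_inv_cancel]
    rw [hcomm.mul_pow, hzn, mul_one] at h2
    exact h2
  have hvV : v ^ Nat.card (Cfsg.pPrimeCore p K) = 1 := pow_card_of_mem _ hv
  have hv1 : v = 1 := by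
    obtain ⟨k, hk⟩ := (IsPGroup.iff_card).mp S.isPGroup'
    have hcop : (Nat.card (Cfsg.pPrimeCore p K)).Coprime (Nat.card (S : Subgroup K)) := by
      rw [hk]; exact Nat.Coprime.pow_right k hVcop
    have h3 : orderOf v = 1 :=
      Nat.eq_one_of_dvd_coprimes hcop (orderOf_dvd_of_pow_eq_one hvV)
        (orderOf_dvd_of_pow_eq_one hvn)
    exact orderOf_eq_one_iff.mp h3
  have : g * y * g⁻¹ = z := by rw [← hvz, hv1, one_mul]
  rw [this]; exact hz

/-- A subgroup normalized by the Hall subgroup `H`, all of whose prime divisors divide `|H|`,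
lies in `H`. -/
theorem le_hall_of_primes (H : Subgroup K) (hHall : (Nat.card H).Coprime H.index)
    (Q : Subgroup K) (hQ : H ≤ normalizer (Q : Set K))
    (hpr : ∀ q : ℕ, q.Prime → q ∣ Nat.card Q → q ∣ Nat.card H) : Q ≤ H := by
  have h1 : H.relIndex (H ⊔ Q) ∣ H.index :=
    Dvd.intro _ (Subgroup.relIndex_mul_index (le_sup_left : H ≤ H ⊔ Q))
  have h2 : H.relIndex (H ⊔ Q) ∣ Nat.card Q := by
    have h3 : Nat.card (H ⊔ Q : Subgroup K) ∣ Nat.card H * Nat.card Q :=
      helper65.card_sup_dvd_mul hQ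
    have h4 : Nat.card H * H.relIndex (H ⊔ Q) = Nat.card (H ⊔ Q : Subgroup K) := by
      have := Subgroup.card_mul_index (H.subgroupOf (H ⊔ Q))
      rw [Nat.card_congr (Subgroup.subgroupOfEquivOfLe (le_sup_left : H ≤ H ⊔ Q)).toEquiv] at this
      exact this
    rw [← h4] at h3
    exact Nat.dvd_of_mul_dvd_mul_left Nat.card_pos h3
  have h5 : H.relIndex (H ⊔ Q) = 1 := by
    by_contra hne
    obtain ⟨q, hq, hqd⟩ := Nat.exists_prime_and_dvd hne
    have h6 : q ∣ Nat.card H := hpr q hq (hqd.trans h2)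
    have h7 : q ∣ H.index := hqd.trans h1
    exact hq.one_lt.ne' (Nat.eq_one_of_dvd_coprimes hHall h6 h7)
  exact le_sup_right.trans (Subgroup.relIndex_eq_one.mp h5)

/-- If the Hall subgroup `H` of `K` admits no nontrivial normal subgroup of `K` of coprime
order, then `F(K) ≤ H`. -/
theorem fitting_le_hall (H : Subgroup K) (hHall : (Nat.card H).Coprime H.index)
    (hO : ∀ N : Subgroup K, N.Normal → (Nat.card N).Coprime (Nat.card H) → N = ⊥) :
    Cfsg.fittingSubgroup K ≤ H := by
  rw [helper65.fittingSubgroup_eq_primeCoreSup]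
  apply iSup_le
  intro p
  have hp : (p : ℕ).Prime := Nat.prime_of_mem_primeFactors p.2
  haveI : Fact (p : ℕ).Prime := ⟨hp⟩
  have hPG : IsPGroup (p : ℕ) (Cfsg.piCore {(p : ℕ)} K) := helper65.piCore_singleton_isPGroup hp
  obtain ⟨k, hk⟩ := (IsPGroup.iff_card).mp hPG
  by_cases hpH : (p : ℕ) ∣ Nat.card H
  · apply le_hall_of_primes H hHall
    · intro h _
      rw [Subgroup.normalizer_eq_top]
      exact Subgroup.mem_top h
    · intro q hq hqd
      rw [hk] at hqd
      have := (Nat.prime_dvd_prime_iff_eq hq hp).mp (hq.dvd_of_dvd_pow hqd)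
      rw [this]; exact hpH
  · have : Cfsg.piCore {(p : ℕ)} K = ⊥ := by
      apply hO _ inferInstance
      rw [hk]
      exact Nat.Coprime.pow_left k ((Nat.Prime.coprime_iff_not_dvd hp).mpr hpH)
    rw [this]; exact bot_le

/-- Elements of a `p`-subgroup and of a subgroup of order coprime to `p` meet trivially. -/
theorem eq_one_of_mem_of_mem_coprime {p : ℕ} [Fact p.Prime] {P V : Subgroup K}
    (hP : IsPGroup p P) (hV : (Nat.card V).Coprime p) {z : K} (hzP : z ∈ P) (hzV : z ∈ V) :
    z = 1 := by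
  obtain ⟨k, hk⟩ := (IsPGroup.iff_card).mp hP
  have hcop : (Nat.card V).Coprime (Nat.card P) := by
    rw [hk]; exact Nat.Coprime.pow_right k hV
  have h3 : orderOf z = 1 :=
    Nat.eq_one_of_dvd_coprimes hcop (orderOf_dvd_of_pow_eq_one (pow_card_of_mem V hzV))
      (orderOf_dvd_of_pow_eq_one (pow_card_of_mem P hzP))
  exact orderOf_eq_one_iff.mp h3

/-- For a solvable normal subgroup `V` of `K`: an element of `V` centralizing `F(K) ∩ V` lies in
`F(K) ∩ V`. -/
theorem mem_fitting_inf_of_centralizes (V : Subgroup K) [hVn : V.Normal]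
    (hVs : Group.IsSolvable V) {v : K} (hv : v ∈ V)
    (hc : ∀ n ∈ Cfsg.fittingSubgroup K ⊓ V, v * n = n * v) :
    v ∈ Cfsg.fittingSubgroup K ⊓ V := by
  classical
  have hFVn : (Cfsg.fittingSubgroup ↥V).Normal := helper65.fittingSubgroup_normal
  have himg : (Cfsg.fittingSubgroup ↥V).map V.subtype ≤ Cfsg.fittingSubgroup K ⊓ V := by
    refine le_inf ?_ (Subgroup.map_subtype_le _)
    apply helper65.le_fittingSubgroup_of_isSubnormal_of_isNilpotent
    · apply helper27.isSubnormal_of_le_normal (C := V) (Subgroup.map_subtype_le _)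
      intro w hw
      rw [Subgroup.mem_normalizer_iff]
      intro z
      constructor
      · rintro ⟨a, ha, rfl⟩
        exact ⟨⟨w, hw⟩ * a * ⟨w, hw⟩⁻¹, hFVn.conj_mem a ha ⟨w, hw⟩, rfl⟩
      · rintro ⟨a, ha, hae⟩
        refine ⟨⟨w, hw⟩⁻¹ * a * ⟨w, hw⟩, ?_, ?_⟩
        · have := hFVn.conj_mem a ha ⟨w, hw⟩⁻¹
          simpa using this
        · simp only [Subgroup.coe_subtype, Subgroup.coe_mul, Subgroup.coe_inv]
          have hae' : (a : K) = w * z * w⁻¹ := hae
          rw [hae']; group
    · haveI : Group.IsNilpotent ↥(Cfsg.fittingSubgroup ↥V) := helper65.fittingSubgroup_isNilpotent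
      exact Group.nilpotent_of_surjective (V.subtype.subgroupMap (Cfsg.fittingSubgroup ↥V))
        (V.subtype.subgroupMap_surjective _)
  have hcen : (⟨v, hv⟩ : ↥V) ∈ centralizer (Cfsg.fittingSubgroup ↥V : Set ↥V) := by
    rw [Subgroup.mem_centralizer_iff]
    intro w hw
    have h1 : (w : K) ∈ Cfsg.fittingSubgroup K ⊓ V := himg ⟨w, hw, rfl⟩
    have h2 := hc _ h1
    apply Subtype.ext
    simp only [Subgroup.coe_mul]
    exact h2.symm
  have hle := helper27.solvable_le_center_fitting (G := ↥V)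
    (centralizer (Cfsg.fittingSubgroup ↥V : Set ↥V)) le_rfl Subgroup.le_normalizer inferInstance
  have h3 := (hle hcen).1
  exact himg ⟨⟨v, hv⟩, h3, rfl⟩

/-- The image in `K` of a Sylow `p`-subgroup of the nilpotent Hall subgroup `H` is normal in `K`,
when `K` is solvable of `p`-length one and has no nontrivial normal subgroup of order coprime to
`|H|`. -/
theorem sylow_nilHall_normal (hsol : Group.IsSolvable K)
    (H : Subgroup K) (hHn : Group.IsNilpotent H) (hHall : (Nat.card H).Coprime H.index)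
    (hO : ∀ N : Subgroup K, N.Normal → (Nat.card N).Coprime (Nat.card H) → N = ⊥)
    (p : ℕ) [hp : Fact p.Prime] (hpl : Cfsg.PLengthLE p 1 K) (Q : Sylow p H) :
    ((Q : Subgroup H).map H.subtype).Normal := by
  classical
  have hFH : Cfsg.fittingSubgroup K ≤ H := fitting_le_hall H hHall hO
  set P : Subgroup K := (Q : Subgroup H).map H.subtype with hP
  have hPH : P ≤ H := Subgroup.map_subtype_le _
  have hQn : (Q : Subgroup H).Normal := by
    have h := ((Group.isNilpotent_of_finite_tfae (G := H)).out 0 3).mp hHn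
    exact h p hp Q
  have hHP : ∀ h ∈ H, ∀ y ∈ P, h * y * h⁻¹ ∈ P := by
    rintro h hh y ⟨w, hw, rfl⟩
    exact ⟨⟨h, hh⟩ * w * ⟨h, hh⟩⁻¹, hQn.conj_mem w hw ⟨h, hh⟩, rfl⟩
  have hPp : IsPGroup p P := Q.isPGroup'.map _
  by_cases hpH : p ∣ Nat.card H
  · have hidx : ¬ p ∣ P.index := by
      have h1 : P.index = (Q : Subgroup H).index * H.index := Subgroup.index_map_subtype _
      rw [h1]
      intro hdvd
      rcases (Nat.Prime.dvd_mul hp.out).mp hdvd with h | h
      · exact Q.not_dvd_index h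
      · exact hp.out.one_lt.ne' (Nat.eq_one_of_dvd_coprimes hHall hpH h)
    have hSn : ((hPp.toSylow hidx : Sylow p K) : Subgroup K).Normal := by
      apply sylow_normal_of_centralizes_pPrimeCore hpl
      haveI hVn : (Cfsg.pPrimeCore p K).Normal := helper40.pPrimeCore_normal' p K
      have hVcop : (Nat.card (Cfsg.pPrimeCore p K)).Coprime p := helper27.pPrimeCore_coprime p
      haveI hFn : (Cfsg.fittingSubgroup K).Normal := helper65.fittingSubgroup_normal
      have hN'n : (Cfsg.fittingSubgroup K ⊓ Cfsg.pPrimeCore p K).Normal := inferInstance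
      have hN'H : Cfsg.fittingSubgroup K ⊓ Cfsg.pPrimeCore p K ≤ H := inf_le_left.trans hFH
      -- `P` centralizes `N' = F(K) ∩ V`
      have hPN' : ∀ n ∈ Cfsg.fittingSubgroup K ⊓ Cfsg.pPrimeCore p K, ∀ y ∈ P, n * y = y * n := by
        intro n hn y hy
        have h1 : n * y * n⁻¹ * y⁻¹ ∈ P := P.mul_mem (hHP n (hN'H hn) y hy) (P.inv_mem hy)
        have h2 : n * y * n⁻¹ * y⁻¹ ∈ Cfsg.pPrimeCore p K := by
          have : n * (y * n⁻¹ * y⁻¹) ∈ Cfsg.pPrimeCore p K :=
            (Cfsg.pPrimeCore p K).mul_mem hn.2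
              (hVn.conj_mem _ ((Cfsg.pPrimeCore p K).inv_mem hn.2) y)
          simpa [mul_assoc] using this
        have h3 := eq_one_of_mem_of_mem_coprime hPp hVcop h1 h2
        calc n * y = (n * y * n⁻¹ * y⁻¹) * (y * n) := by group
          _ = y * n := by rw [h3, one_mul]
      -- `[V, P] ≤ N'`
      have hVP : ⁅Cfsg.pPrimeCore p K, P⁆ ≤ Cfsg.fittingSubgroup K ⊓ Cfsg.pPrimeCore p K := by
        rw [Subgroup.commutator_le]
        intro v hv y hy
        have hmem : ⁅v, y⁆ ∈ Cfsg.pPrimeCore p K := by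
          rw [commutatorElement_def]
          have : v * (y * v⁻¹ * y⁻¹) ∈ Cfsg.pPrimeCore p K :=
            (Cfsg.pPrimeCore p K).mul_mem hv (hVn.conj_mem _ ((Cfsg.pPrimeCore p K).inv_mem hv) y)
          simpa [mul_assoc] using this
        apply mem_fitting_inf_of_centralizes (Cfsg.pPrimeCore p K) inferInstance hmem
        intro n hn
        have h1 : v⁻¹ * n * v ∈ Cfsg.fittingSubgroup K ⊓ Cfsg.pPrimeCore p K := by
          have := hN'n.conj_mem n hn v⁻¹
          simpa using this
        have h2 := hPN' _ h1 y hy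
        have h3 := hPN' n hn y hy
        have h4 : y⁻¹ * n = n * y⁻¹ := by
          calc y⁻¹ * n = y⁻¹ * (n * y) * y⁻¹ := by group
            _ = y⁻¹ * (y * n) * y⁻¹ := by rw [h3]
            _ = n * y⁻¹ := by group
        rw [commutatorElement_def]
        calc v * y * v⁻¹ * y⁻¹ * n = v * y * v⁻¹ * (y⁻¹ * n) := by group
          _ = v * y * v⁻¹ * (n * y⁻¹) := by rw [h4]
          _ = v * (y * (v⁻¹ * n * v)) * v⁻¹ * y⁻¹ := by group
          _ = v * ((v⁻¹ * n * v) * y) * v⁻¹ * y⁻¹ := by rw [h2]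
          _ = n * (v * y * v⁻¹ * y⁻¹) := by group
      have hVPP : ⁅⁅Cfsg.pPrimeCore p K, P⁆, P⁆ = ⊥ := by
        rw [eq_bot_iff]
        refine (Subgroup.commutator_mono hVP le_rfl).trans ?_
        rw [Subgroup.commutator_le]
        intro n hn y hy
        rw [Subgroup.mem_bot, commutatorElement_eq_one_iff_commute]
        exact hPN' n hn y hy
      have hVP1 : ⁅Cfsg.pPrimeCore p K, P⁆ = ⊥ := by
        rw [← helper1.commutator_commutator_eq P (Cfsg.pPrimeCore p K) ?_ ?_ (Or.inr inferInstance)]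
        · exact hVPP
        · intro y _
          rw [Subgroup.normalizer_eq_top]
          exact Subgroup.mem_top y
        · obtain ⟨k, hk⟩ := (IsPGroup.iff_card).mp hPp
          rw [hk]
          exact (Nat.Coprime.pow_right k hVcop).symm
      intro v hv y hy
      have hy' : y ∈ P := hy
      have : ⁅v, y⁆ ∈ ⁅Cfsg.pPrimeCore p K, P⁆ := Subgroup.commutator_mem_commutator hv hy'
      rw [hVP1, Subgroup.mem_bot, commutatorElement_eq_one_iff_commute] at this
      exact this
    exact hSn
  · -- `p ∤ |H|`: the Sylow subgroup is trivial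
    have hQ1 : (Q : Subgroup H) = ⊥ := by
      apply Subgroup.eq_bot_of_card_eq
      rw [Sylow.card_eq_multiplicity, Nat.factorization_eq_zero_of_not_dvd hpH, pow_zero]
    rw [hP, hQ1, Subgroup.map_bot]
    infer_instance

/-- `K` solvable of `p`-length at most one for every prime, `H` a nilpotent Hall subgroup, and
`K` has no nontrivial normal subgroup of order coprime to `|H|`: then `H` is normal in `K`. -/
theorem nilHall_normal (hsol : Group.IsSolvable K)
    (hpl : ∀ (p : ℕ) [Fact p.Prime], Cfsg.PLengthLE p 1 K)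
    (H : Subgroup K) (hHn : Group.IsNilpotent H) (hHall : (Nat.card H).Coprime H.index)
    (hO : ∀ N : Subgroup K, N.Normal → (Nat.card N).Coprime (Nat.card H) → N = ⊥) :
    H.Normal := by
  classical
  have hsup : (⨆ (p : {p : ℕ // p.Prime}) (Q : Sylow (p : ℕ) H), (Q : Subgroup H)) = ⊤ :=
    helper65.iSup_sylow_eq_top H
  have hM : H = ⨆ (p : {p : ℕ // p.Prime}) (Q : Sylow (p : ℕ) H),
      (Q : Subgroup H).map H.subtype := by
    have h1 := congrArg (Subgroup.map H.subtype) hsup
    simp only [Subgroup.map_iSup] at h1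
    rw [h1, ← MonoidHom.range_eq_map, Subgroup.range_subtype]
  rw [hM]
  rw [iSup]
  apply Subgroup.sSup_normal
  rintro _ ⟨p, rfl⟩
  show (⨆ (Q : Sylow (p : ℕ) H), (Q : Subgroup H).map H.subtype).Normal
  rw [iSup]
  apply Subgroup.sSup_normal
  rintro _ ⟨Q, rfl⟩
  haveI : Fact (p : ℕ).Prime := ⟨p.2⟩
  exact sylow_nilHall_normal hsol H hHn hHall hO p (hpl p) Q

theorem mem_normalizer_of_conj_smul_eq {H : Subgroup K} {n : K}
    (h : MulAut.conj n • H = H) : n ∈ normalizer (H : Set K) := by
  rw [Subgroup.mem_normalizer_iff]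
  intro z
  constructor
  · intro hz
    have h1 : MulAut.conj n • z ∈ MulAut.conj n • H := Subgroup.smul_mem_pointwise_smul z _ H hz
    rw [h] at h1
    simpa using h1
  · intro hz
    rw [← h] at hz
    obtain ⟨w, hw, hwe⟩ := hz
    have hwe' : n * w * n⁻¹ = n * z * n⁻¹ := by simpa using hwe
    have : w = z := by
      have := congrArg (fun t => n⁻¹ * t * n) hwe'
      simpa [mul_assoc] using this
    rw [← this]; exact hw

/-- **Nilpotent Hall subgroups control fusion** in solvable groups of `p`-length at most one for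
every prime `p`. -/
theorem nilHall_fusion {K : Type*} [Group K] [Finite K] (hsol : Group.IsSolvable K)
    (hpl : ∀ (p : ℕ) [Fact p.Prime], Cfsg.PLengthLE p 1 K)
    (H : Subgroup K) (hHn : Group.IsNilpotent H) (hHall : (Nat.card H).Coprime H.index)
    (x : K) (hx : x ∈ H) (k : K) (hk : k * x * k⁻¹ ∈ H) :
    ∃ n ∈ Subgroup.normalizer (H : Set K), n * x * n⁻¹ = k * x * k⁻¹ := by
  classical
  set π : Set ℕ := {q | q.Prime ∧ ¬ q ∣ Nat.card H} with hπ
  set O : Subgroup K := Cfsg.piCore π K with hOdef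
  haveI hOn : O.Normal := Cfsg.piCore_normal π K
  have hOcop : (Nat.card O).Coprime (Nat.card H) :=
    Nat.coprime_of_dvd (fun q hq hqO => (helper65.piCore_isPiGrp π q hq hqO).2)
  have hOmax : ∀ N : Subgroup K, N.Normal → (Nat.card N).Coprime (Nat.card H) → N ≤ O := by
    intro N hN hc
    apply le_sSup
    refine ⟨hN, fun q hq hqN => ⟨hq, fun hqH => ?_⟩⟩
    exact hq.one_lt.ne' (Nat.eq_one_of_dvd_coprimes hc hqN hqH)
  have hOH : O ⊓ H = ⊥ := (Subgroup.disjoint_of_coprime_natCard hOcop).eq_bot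
  -- the quotient by `O`
  have hfs : Function.Surjective (QuotientGroup.mk' O) := QuotientGroup.mk'_surjective O
  have hcardHb : Nat.card (H.map (QuotientGroup.mk' O)) = Nat.card H := by
    rw [helper14.card_map_mk', Subgroup.relIndex]
    have h1 : O.subgroupOf H = ⊥ := by
      rw [Subgroup.subgroupOf_eq_bot, disjoint_iff]
      exact hOH
    rw [h1, Subgroup.index_bot]
  have hHbn : Group.IsNilpotent (H.map (QuotientGroup.mk' O)) := by
    haveI := hHn
    exact Group.nilpotent_of_surjective ((QuotientGroup.mk' O).subgroupMap H)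
      ((QuotientGroup.mk' O).subgroupMap_surjective H)
  have hcomap : (H.map (QuotientGroup.mk' O)).comap (QuotientGroup.mk' O) = H ⊔ O := by
    rw [Subgroup.comap_map_eq, QuotientGroup.ker_mk']
  have hHbHall : (Nat.card (H.map (QuotientGroup.mk' O))).Coprime
      (H.map (QuotientGroup.mk' O)).index := by
    rw [hcardHb]
    have h1 : (H.map (QuotientGroup.mk' O)).index ∣ H.index := by
      rw [← Subgroup.index_comap_of_surjective _ hfs, hcomap]
      exact Subgroup.index_dvd_of_le le_sup_left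
    exact Nat.Coprime.coprime_dvd_right h1 hHall
  have hObar : ∀ N : Subgroup (K ⧸ O), N.Normal →
      (Nat.card N).Coprime (Nat.card (H.map (QuotientGroup.mk' O))) → N = ⊥ := by
    intro N hN hc
    rw [hcardHb] at hc
    have hle : N.comap (QuotientGroup.mk' O) ≤ O := by
      apply hOmax _ (hN.comap _)
      apply Nat.coprime_of_dvd
      intro q hq hqd hqH
      haveI : Fact q.Prime := ⟨hq⟩
      obtain ⟨⟨y, hy⟩, hyo⟩ := exists_prime_orderOf_dvd_card' q hqd
      have hyo' : orderOf y = q := by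
        rw [← hyo]; exact (Subgroup.orderOf_mk y hy).symm
      have hyN : (QuotientGroup.mk' O y) ∈ N := hy
      by_cases h1 : QuotientGroup.mk' O y = 1
      · have hyO : y ∈ O := by
          rw [← QuotientGroup.ker_mk' O]; exact h1
        have h2 : q ∣ Nat.card O := by
          rw [← hyo']
          exact orderOf_dvd_of_pow_eq_one (pow_card_of_mem O hyO)
        exact hq.one_lt.ne' (Nat.eq_one_of_dvd_coprimes hOcop h2 hqH)
      · have h2 : (QuotientGroup.mk' O y) ^ q = 1 := by
          rw [← map_pow, ← hyo', pow_orderOf_eq_one, map_one]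
        have h3 : orderOf (QuotientGroup.mk' O y) = q := orderOf_eq_prime h2 h1
        have h4 : q ∣ Nat.card N := by
          rw [← h3]
          exact orderOf_dvd_of_pow_eq_one (pow_card_of_mem N hyN)
        exact hq.one_lt.ne' (Nat.eq_one_of_dvd_coprimes hc h4 hqH)
    rw [eq_bot_iff, ← Subgroup.map_comap_eq_self_of_surjective hfs N]
    refine (Subgroup.map_mono hle).trans ?_
    rw [QuotientGroup.map_mk'_self]
  have hHbnorm : (H.map (QuotientGroup.mk' O)).Normal :=
    nilHall_normal inferInstance (fun p _ => helper66.PLengthLE.quotient O (hpl p)) _ hHbn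
      hHbHall hObar
  have hHOn : (H ⊔ O).Normal := by
    rw [← hcomap]; exact hHbnorm.comap _
  have hOHn : (O ⊔ H).Normal := by rw [sup_comm]; exact hHOn
  -- Schur–Zassenhaus conjugacy of the complements `H` and `kHk⁻¹` of `O` in `HO`
  have hcardH' : Nat.card (MulAut.conj k • H : Subgroup K) = Nat.card H :=
    (Nat.card_congr (Subgroup.equivSMul (MulAut.conj k) H).toEquiv).symm
  have hsupeq : O ⊔ (MulAut.conj k • H : Subgroup K) = O ⊔ H := by
    have h1 : MulAut.conj k • (O ⊔ H) = MulAut.conj k • O ⊔ MulAut.conj k • H :=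
      Subgroup.smul_sup _ _ _
    rw [Subgroup.Normal.conj_smul_eq_self k O, Subgroup.Normal.conj_smul_eq_self k (O ⊔ H)] at h1
    exact h1.symm
  obtain ⟨u, huO, hu⟩ := helper1.sz_conj_internal O (MulAut.conj k • H) H
    (by intro z _; rw [Subgroup.normalizer_eq_top]; exact Subgroup.mem_top z)
    (Subgroup.disjoint_of_coprime_natCard (by rw [hcardH']; exact hOcop)).eq_bot hOH hsupeq
    (by rw [hcardH']; exact hOcop) (Or.inl inferInstance)
  have hy' : k * x * k⁻¹ ∈ (MulAut.conj k • H : Subgroup K) := by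
    have := Subgroup.smul_mem_pointwise_smul x (MulAut.conj k) H hx
    simpa using this
  have huy : u * (k * x * k⁻¹) * u⁻¹ ∈ H := by
    have h1 : MulAut.conj u • (k * x * k⁻¹) ∈ MulAut.conj u • (MulAut.conj k • H : Subgroup K) :=
      Subgroup.smul_mem_pointwise_smul _ (MulAut.conj u) _ hy'
    rw [hu] at h1
    exact h1
  refine ⟨u * k, ?_, ?_⟩
  · apply mem_normalizer_of_conj_smul_eq
    rw [map_mul, mul_smul, hu]
  · have h1 : u * (k * x * k⁻¹) * u⁻¹ * (k * x * k⁻¹)⁻¹ ∈ O ⊓ H := by
      refine ⟨?_, H.mul_mem huy (H.inv_mem hk)⟩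
      have : u * ((k * x * k⁻¹) * u⁻¹ * (k * x * k⁻¹)⁻¹) ∈ O :=
        O.mul_mem huO (hOn.conj_mem _ (O.inv_mem huO) _)
      simpa [mul_assoc] using this
    rw [hOH, Subgroup.mem_bot] at h1
    have h2 : u * (k * x * k⁻¹) * u⁻¹ = k * x * k⁻¹ := by
      have := congrArg (fun t => t * (k * x * k⁻¹)) h1
      simpa [mul_assoc] using this
    rw [← h2]; group

/-- Subgroup form of `nilHall_fusion`. -/
theorem nilHall_fusion_subgroup {G : Type*} [Group G] [Finite G] (K : Subgroup G)
    (hsol : Group.IsSolvable K)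
    (hpl : ∀ (p : ℕ) [Fact p.Prime], Cfsg.PLengthLE p 1 K)
    (H : Subgroup G) (hHK : H ≤ K) (hHn : Group.IsNilpotent H)
    (hHall : (Nat.card H).Coprime (H.relIndex K))
    (x : G) (hx : x ∈ H) (k : G) (hkK : k ∈ K) (hk : k * x * k⁻¹ ∈ H) :
    ∃ n ∈ K, n ∈ Subgroup.normalizer (H : Set G) ∧ n * x * n⁻¹ = k * x * k⁻¹ := by
  classical
  have hHn' : Group.IsNilpotent (H.subgroupOf K) := by
    haveI := hHn
    exact Group.nilpotent_of_mulEquiv (Subgroup.subgroupOfEquivOfLe hHK).symm
  have hHall' : (Nat.card (H.subgroupOf K)).Coprime (H.subgroupOf K).index := by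
    rw [Nat.card_congr (Subgroup.subgroupOfEquivOfLe hHK).toEquiv]
    exact hHall
  obtain ⟨n, hn, hne⟩ := nilHall_fusion hsol hpl (H.subgroupOf K) hHn' hHall'
    ⟨x, hHK hx⟩ (by rw [Subgroup.mem_subgroupOf]; exact hx) ⟨k, hkK⟩
    (by rw [Subgroup.mem_subgroupOf]; exact hk)
  refine ⟨n, n.2, ?_, ?_⟩
  · rw [Subgroup.mem_normalizer_iff] at hn ⊢
    intro z
    constructor
    · intro hz
      have := (hn ⟨z, hHK hz⟩).mp (by rw [Subgroup.mem_subgroupOf]; exact hz)
      rw [Subgroup.mem_subgroupOf] at this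
      simpa using this
    · intro hz
      have hzK : z ∈ K := by
        have h1 : (n : G) * z * (n : G)⁻¹ ∈ K := hHK hz
        have h2 := K.mul_mem (K.mul_mem (K.inv_mem n.2) h1) n.2
        simpa [mul_assoc] using h2
      have := (hn ⟨z, hzK⟩).mpr (by rw [Subgroup.mem_subgroupOf]; simpa using hz)
      rw [Subgroup.mem_subgroupOf] at this
      exact this
  · have := congrArg Subtype.val hne
    simpa using this

end Cfsg.Agent.Lib.helper67.NilHall
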