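import Mathlib
import Cfsg.Agent.Lib.helper14.QuadStable
import Cfsg.Agent.Lib.helper55.Basic
import Cfsg.Agent.Lib.helper39.Sections
import Cfsg.Agent.S0029

/-!
# Groups without a section `SL₂(p)` act `p`-stably on every normal `p`-subgroup

* `isPStableOn_of_noSL2` : `p` odd, no section of `G` isomorphic to `SL₂(p)`, `P` a normal
  `p`-subgroup ⟹ `Cfsg.IsPStableOn p P` (quadratic elements lie in `O_p` modulo `C_G(P)`).
* `noSL2Section_of_sec` : sections of `SL₂(p)`-free groups are `SL₂(p)`-free.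
-/

set_option autoImplicit false

namespace Cfsg.Agent.Lib.helper67

open Subgroup
open scoped commutatorElement

universe u

/-- In a group without a section `SL₂(p)` (`p` odd), every element acting quadratically on a
normal `p`-subgroup `P` lies in `O_p(G / C_G(P))`. -/
theorem isPStableOn_of_noSL2 {G : Type u} [Group G] [Finite G] (p : ℕ) [Fact p.Prime]
    (hp : p ≠ 2) (hno : Cfsg.Agent.Lib.helper14.NoSL2Section p G) (P : Subgroup G) [hPn : P.Normal]
    (hP : IsPGroup p P) : Cfsg.IsPStableOn p P := by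
  have hpp : p.Prime := Fact.out
  intro a hq
  have hΦn : ((frattini ↥P).map P.subtype).Normal := inferInstance
  obtain ⟨n, hn⟩ := IsPGroup.iff_card.mp hP
  have hCn : (Cfsg.sectionKernel P ((frattini ↥P).map P.subtype)).Normal := inferInstance
  have h1 : (QuotientGroup.mk a : G ⧸ Cfsg.sectionKernel P ((frattini ↥P).map P.subtype)) ∈
      Cfsg.pCore p (G ⧸ Cfsg.sectionKernel P ((frattini ↥P).map P.subtype)) := by
    refine Cfsg.Agent.Lib.helper14.mem_pCore_quotient_of_quadratic p hp hno P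
      ((frattini ↥P).map P.subtype) _ ?_ ?_ ?_ ?_ a ?_
    · exact Subgroup.map_subtype_le _
    · intro u hu v hv
      exact ⟨(⟨u, hu⟩ : ↥P) * ⟨v, hv⟩ * (⟨u, hu⟩ : ↥P)⁻¹ * (⟨v, hv⟩ : ↥P)⁻¹,
        Cfsg.Agent.Lib.helper73.commutator_mem_frattini hn _ _, rfl⟩
    · intro u hu
      exact ⟨(⟨u, hu⟩ : ↥P) ^ p, Cfsg.Agent.Lib.helper73.pow_mem_frattini hn _, rfl⟩
    · intro g hg
      exact Cfsg.Agent.Lib.helper14.mem_sectionKernel_of_forall _ _ g hg
    · intro u hu
      exact Cfsg.Agent.Lib.helper14.quad_elem_of_commutator _ _ a (by rw [hq]; exact bot_le) u hu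
  obtain ⟨D, hD⟩ : ∃ D : Subgroup G, D = (Cfsg.pCore p
      (G ⧸ Cfsg.sectionKernel P ((frattini ↥P).map P.subtype))).comap (QuotientGroup.mk' _) :=
    ⟨_, rfl⟩
  have hDn : D.Normal := by
    rw [hD]
    exact (Cfsg.Agent.Lib.helper55.pCore_normal' p _).comap _
  have haD : a ∈ D := by rw [hD]; exact h1
  have hDp : IsPGroup p (D.map (QuotientGroup.mk' (Subgroup.centralizer (P : Set G)))) := by
    rintro ⟨y, hy⟩
    obtain ⟨d, hd, rfl⟩ := Subgroup.mem_map.mp hy
    obtain ⟨k, m, hm, hkm⟩ :=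
      Nat.exists_eq_pow_mul_and_not_dvd (orderOf_pos d).ne' p hpp.ne_one
    refine ⟨k, ?_⟩
    apply Subtype.ext
    show (QuotientGroup.mk' (Subgroup.centralizer (P : Set G)) d) ^ p ^ k = 1
    rw [← map_pow]
    apply (QuotientGroup.eq_one_iff _).mpr
    have hxo : (orderOf (d ^ p ^ k)).Coprime p := by
      have : orderOf (d ^ p ^ k) = m := by
        rw [orderOf_pow' d (pow_ne_zero k hpp.ne_zero), hkm, Nat.gcd_eq_right (dvd_mul_right _ _)]
        exact Nat.mul_div_cancel_left m (pow_pos hpp.pos k)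
      rw [this]
      exact ((Nat.Prime.coprime_iff_not_dvd hpp).mpr hm).symm
    have hxD : d ^ p ^ k ∈ D := D.pow_mem hd _
    have hxC : d ^ p ^ k ∈ Cfsg.sectionKernel P ((frattini ↥P).map P.subtype) := by
      have h2 : QuotientGroup.mk' (Cfsg.sectionKernel P ((frattini ↥P).map P.subtype))
          (d ^ p ^ k) ∈ Cfsg.pCore p (G ⧸ Cfsg.sectionKernel P ((frattini ↥P).map P.subtype)) := by
        rw [hD] at hxD; exact hxD
      have h3 : (orderOf (QuotientGroup.mk' (Cfsg.sectionKernel P ((frattini ↥P).map P.subtype))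
          (d ^ p ^ k))).Coprime p :=
        Nat.Coprime.coprime_dvd_left (orderOf_map_dvd _ _) hxo
      have h4 := Cfsg.Agent.Lib.helper55.eq_one_of_mem_of_coprime
        (Cfsg.Agent.Lib.helper39.pCore_isPGroup p _) h2 h3
      exact (QuotientGroup.eq_one_iff _).mp h4
    have h5 : Subgroup.zpowers (d ^ p ^ k) ≤ Subgroup.centralizer (P : Set G) := by
      apply Cfsg.Agent.S0029.result
      · rw [Subgroup.normalizer_eq_top]; exact le_top
      · rw [Nat.card_zpowers]
        obtain ⟨j, hj⟩ := IsPGroup.iff_card.mp (hP.to_subgroup (frattini ↥P))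
        rw [hj]
        exact Nat.Coprime.pow_right j hxo
      · intro b hb u hu
        have hbK : b ∈ Cfsg.sectionKernel P ((frattini ↥P).map P.subtype) :=
          (Subgroup.zpowers_le.mpr hxC) hb
        have h2 : (QuotientGroup.mk' ((frattini ↥P).map P.subtype) b) ∈
            Subgroup.centralizer ((P.map (QuotientGroup.mk'
              ((frattini ↥P).map P.subtype)) : Subgroup _) : Set _) := hbK
        have h3 := Subgroup.mem_centralizer_iff.mp h2 _ (Subgroup.mem_map_of_mem _ hu)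
        rw [← QuotientGroup.eq_one_iff]
        have h4 : ((b * u * b⁻¹ * u⁻¹ : G) : G ⧸ ((frattini ↥P).map P.subtype)) =
            (QuotientGroup.mk' _ b) * (QuotientGroup.mk' _ u) * (QuotientGroup.mk' _ b)⁻¹ *
              (QuotientGroup.mk' _ u)⁻¹ := rfl
        rw [h4, ← h3]
        group
    exact h5 (Subgroup.mem_zpowers _)
  have hDn' : (D.map (QuotientGroup.mk' (Subgroup.centralizer (P : Set G)))).Normal :=
    hDn.map _ (QuotientGroup.mk'_surjective _)
  exact Cfsg.Agent.Lib.helper55.le_pCore hDn' hDp (Subgroup.mem_map_of_mem _ haD)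

/-- A section of a group without `SL₂(p)`-sections has no `SL₂(p)`-sections. -/
theorem noSL2Section_of_sec {G : Type u} [Group G] {p : ℕ}
    (hfree : ¬ ∃ (H K : Subgroup G) (_ : (K.subgroupOf H).Normal),
      Nonempty ((H ⧸ K.subgroupOf H) ≃* Matrix.SpecialLinearGroup (Fin 2) (ZMod p)))
    {X : Type u} [Group X] (hX : Cfsg.Agent.Lib.helper39.Sec G X) :
    Cfsg.Agent.Lib.helper14.NoSL2Section p X := by
  intro K L hL
  constructor
  intro e
  have h1 : Cfsg.Agent.Lib.helper39.Sec G (↥K ⧸ L.subgroupOf K) := (hX.sub K).quot _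
  obtain ⟨K', R', hR', ⟨e'⟩⟩ := h1.exists_equiv
  exact hfree ⟨K', R', hR', ⟨e'.trans e⟩⟩

end Cfsg.Agent.Lib.helper67
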