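import Mathlib
import Cfsg.Agent.Lib.helper65.PearlBasic

/-!
# S5238L pieces I3 (`rel_ph_mul_const`) and I2 (`rel_dl_ph`), helper67 racer copies
-/

set_option autoImplicit false

namespace Cfsg.Agent.Lib.helper65.PearlPow

open Cfsg.Agent.Lib.helper68

variable {H : Type*} [Group H]

/-- I3 (M). `com (s n * y) x = com (s n) x * com (com (s n) x) y * com y x`, so the quotient is the
conjugate of `com (ph x s n) y` (weight `(v+1)+j`) by `com y x`. -/
theorem h67_rel_ph_mul_const {v j : ℕ} (x : H) {s : ℕ → H} {y : H} (hs : PolySeq v s)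
    (hy : y ∈ gam H j) :
    Rel (v + 1 + j) (fun n => ph x s n * com y x) (ph x (fun n => s n * y)) := by
  have hx : x ∈ gam H 1 := by
    unfold gam
    simp
  have h1 : PolySeq (v + 1 + j) (fun n => com (ph x s n) y) :=
    PolySeq.comm (polyseq_ph x hs) (polyseq_const hy)
  have h2 : PolySeq (j + 1) (fun _ : ℕ => com y x) := polyseq_const (com_mem hy hx)
  have h3 := polyseq_conj h1 h2
  unfold Rel
  have e : (fun n : ℕ => (ph x s n * com y x)⁻¹ * ph x (fun n => s n * y) n) =
      fun n => (com y x)⁻¹ * com (ph x s n) y * com y x := by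
    funext n
    unfold ph com
    group
  rw [e]
  exact h3

/-- I2 (M). `dl (ph x s) n = com (com (s n) x) (dl s n) * com (dl s n) x`, so the quotient is the
conjugate of `com (ph x s n) (dl s n)` (weight `(v+1)+(v+1)`) by `ph x (dl s) n`. -/
theorem h67_rel_dl_ph {v : ℕ} (x : H) {s : ℕ → H} (hs : PolySeq v s) :
    Rel (2 * v + 2) (ph x (dl s)) (dl (ph x s)) := by
  have hd : PolySeq (v + 1) (dl s) := PolySeq.diff hs
  have h1 : PolySeq (v + 1 + (v + 1)) (fun n => com (ph x s n) (dl s n)) :=
    PolySeq.comm (polyseq_ph x hs) hd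
  have h2 : PolySeq (v + 1 + 1) (ph x (dl s)) := polyseq_ph x hd
  have h3 := polyseq_conj h1 h2
  unfold Rel
  have e : (fun n : ℕ => (ph x (dl s) n)⁻¹ * dl (ph x s) n) =
      fun n => (ph x (dl s) n)⁻¹ * com (ph x s n) (dl s n) * ph x (dl s) n := by
    funext n
    unfold ph dl com
    group
  rw [e]
  exact PolySeq.mono (by omega) h3

end Cfsg.Agent.Lib.helper65.PearlPow
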