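import Mathlib
import Cfsg.Agent.Lib.helper65.PearlBasic

/-!
# S5238L piece TOP (`top`), core with the `q_claim (p - 1)` statement as a hypothesis (helper67)
-/

set_option autoImplicit false

namespace Cfsg.Agent.Lib.helper65.PearlPow

open Cfsg.Agent.Lib.helper68

variable {H : Type*} [Group H]

/-- TOP core: `hq` is exactly the statement of `q_claim x g hw hg (p - 1)`. -/
theorem h67_top_core (x g : H) {w : ℕ} (p : ℕ) (hp : 1 ≤ p)
    (hnil : gam H (w + 1 + p) = ⊥)
    (hq : Rel (w + (p - 1) + 2) (fun n => (ph x)^[(p - 1) + 1] (tt x g) n * yk x (com x g) (p - 1))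
      (dl^[(p - 1) + 1] (tt x g))) :
    dl^[p] (tt x g) 0 = yk x (com x g) (p - 1) := by
  have hp1 : p - 1 + 1 = p := by omega
  rw [hp1] at hq
  have h1 := PolySeq.mem hq 0
  have hw : w + (p - 1) + 2 = w + 1 + p := by omega
  rw [hw, hnil, Subgroup.mem_bot] at h1
  have h2 : ((ph x)^[p] (tt x g)) 0 = 1 := ph_iter_zero x (tt_zero x g) p
  simp only at h1
  rw [h2, one_mul] at h1
  exact (inv_mul_eq_one.mp h1).symm

end Cfsg.Agent.Lib.helper65.PearlPow
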