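import Mathlib
import Cfsg.Agent.Lib.helper44.PresDefs

/-!
# S2286, piece OP (core, the generic odd theorems GSL / GPSL as hypotheses): `SL₂(p)` and `PSL₂(p)` (prime field, `p` odd) on three generators, at most nine relations

Instance of the generic odd theorems with `i = 1` and the extra relators `[u ^ p]` (resp.
`[u ^ p, h ^ ((p - 1) / 2)]`): the minimal polynomial of `ζ ^ 2` over the prime field has degree
one, so its relator says that `h u h⁻¹` is a power of `u`.
-/

set_option autoImplicit false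

namespace Cfsg.Agent.Lib.helper44.Pres

open Polynomial

theorem op_mU_mul {F : Type*} [Field F] (a b : F) : mU F a * mU F b = mU F (a + b) := by
  apply Subtype.ext
  show (mU F a).1 * (mU F b).1 = (mU F (a + b)).1
  simp only [mU]
  rw [Matrix.mul_fin_two]
  simp [add_comm]

theorem op_mU_zero {F : Type*} [Field F] : mU F 0 = 1 := by
  apply Subtype.ext
  show (mU F 0).1 = (1 : Matrix (Fin 2) (Fin 2) F)
  simp only [mU]
  rw [Matrix.one_fin_two]

theorem op_mU_pow {F : Type*} [Field F] (a : F) (k : ℕ) : mU F a ^ k = mU F (k • a) := by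
  induction k with
  | zero => rw [pow_zero, zero_smul, op_mU_zero]
  | succ k ih => rw [pow_succ, ih, op_mU_mul, succ_nsmul]

theorem op_mU_pow_char {F : Type*} [Field F] (p : ℕ) [CharP F p] : mU F 1 ^ p = 1 := by
  rw [op_mU_pow, nsmul_eq_mul, CharP.cast_eq_zero, zero_mul, op_mU_zero]

theorem op_mH_mul {F : Type*} [Field F] (z w : Fˣ) : mH z * mH w = mH (z * w) := by
  apply Subtype.ext
  show (mH z).1 * (mH w).1 = (mH (z * w)).1
  simp only [mH]
  rw [Matrix.mul_fin_two]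
  simp [mul_comm]

theorem op_mH_one {F : Type*} [Field F] : mH (1 : Fˣ) = 1 := by
  apply Subtype.ext
  show (mH (1 : Fˣ)).1 = (1 : Matrix (Fin 2) (Fin 2) F)
  simp only [mH]
  rw [Matrix.one_fin_two]
  simp

theorem op_mH_pow {F : Type*} [Field F] (z : Fˣ) (k : ℕ) : mH z ^ k = mH (z ^ k) := by
  induction k with
  | zero => rw [pow_zero, pow_zero, op_mH_one]
  | succ k ih => rw [pow_succ, ih, op_mH_mul, pow_succ]

theorem op_mH_neg_one_mem_center {F : Type*} [Field F] :
    mH (-1 : Fˣ) ∈ Subgroup.center (Matrix.SpecialLinearGroup (Fin 2) F) := by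
  rw [Subgroup.mem_center_iff]
  intro g
  apply Subtype.ext
  show g.1 * (mH (-1 : Fˣ)).1 = (mH (-1 : Fˣ)).1 * g.1
  simp only [mH]
  rw [Matrix.eta_fin_two g.1, Matrix.mul_fin_two, Matrix.mul_fin_two]
  simp [inv_neg]

/-- For a generator `ζ` of `Fˣ` (`F` of odd order), `ζ ^ ((|F| - 1) / 2) = -1`. -/
theorem op_gen_pow_half {F : Type*} [Field F] [Fintype F] (hodd : Odd (Fintype.card F)) (ζ : Fˣ)
    (hζ : ∀ y : Fˣ, y ∈ Subgroup.zpowers ζ) : ζ ^ ((Fintype.card F - 1) / 2) = -1 := by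
  classical
  have hcard : Nat.card Fˣ = Fintype.card F - 1 := by
    rw [Nat.card_eq_fintype_card, Fintype.card_units]
  have hord : orderOf ζ = Fintype.card F - 1 := by
    rw [orderOf_eq_card_of_forall_mem_zpowers hζ, hcard]
  obtain ⟨m, hm⟩ := hodd
  have hM : (Fintype.card F - 1) / 2 = m := by omega
  have hF1 : Fintype.card F - 1 = 2 * m := by omega
  have hm0 : m ≠ 0 := by
    intro h0
    have h1 : 1 < Fintype.card F := Fintype.one_lt_card
    omega
  rw [hM]
  have hsq : (ζ ^ m) ^ 2 = 1 := by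
    rw [← pow_mul, mul_comm, ← hF1, ← hord, pow_orderOf_eq_one]
  have hne : ζ ^ m ≠ 1 := by
    apply pow_ne_one_of_lt_orderOf hm0
    rw [hord, hF1]; omega
  have h2 : ((ζ ^ m : Fˣ) : F) ^ 2 = 1 := by
    have := congrArg (fun y : Fˣ => (y : F)) hsq
    simpa using this
  rw [pow_two] at h2
  rcases mul_self_eq_one_iff.mp h2 with h | h
  · exact absurd (Units.ext (by simpa using h)) hne
  · exact Units.ext (by simpa using h)

theorem op_comm_of_mem_zpowers {G : Type*} [Group G] (u g : G)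
    (hg : g * u * g⁻¹ ∈ Subgroup.zpowers u) :
    ∀ n : ℕ, Commute u (g ^ n * u * (g ^ n)⁻¹) := by
  have key : ∀ n : ℕ, g ^ n * u * (g ^ n)⁻¹ ∈ Subgroup.zpowers u := by
    intro n
    induction n with
    | zero => simp
    | succ n ih =>
      obtain ⟨k, hk⟩ := Subgroup.mem_zpowers_iff.mp ih
      have h1 : g ^ (n + 1) * u * (g ^ (n + 1))⁻¹ = g * (g ^ n * u * (g ^ n)⁻¹) * g⁻¹ := by
        rw [pow_succ']; group
      have h2 : g * u ^ k * g⁻¹ = (g * u * g⁻¹) ^ k := (conj_zpow).symm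
      rw [h1, ← hk, h2]
      exact Subgroup.zpow_mem _ hg k
  intro n
  obtain ⟨k, hk⟩ := Subgroup.mem_zpowers_iff.mp (key n)
  rw [← hk]
  exact (Commute.refl u).zpow_right k

/-- The degree-one relator: `polyWord g u (X - C c) = u ^ (-c).val * (g * u * g⁻¹)`. -/
theorem op_polyWord_linear {G : Type*} [Group G] {p : ℕ} [Fact p.Prime] (g u : G) (c : ZMod p) :
    polyWord g u (X - C c : (ZMod p)[X]) = u ^ (-c).val * (g * u * g⁻¹) := by
  unfold polyWord
  rw [natDegree_X_sub_C]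
  simp [List.range_succ, coeff_X, coeff_C, ZMod.val_one]

theorem op_lift_gu_pow {G : Type*} [Group G] (u t h : G) (k : ℕ) :
    FreeGroup.lift ![u, t, h] (gu ^ k) = u ^ k := by
  rw [map_pow]; simp [gu]

theorem op_lift_gh_pow {G : Type*} [Group G] (u t h : G) (k : ℕ) :
    FreeGroup.lift ![u, t, h] (gh ^ k) = h ^ k := by
  rw [map_pow]; simp [gh]

/-- OP, with the two generic odd theorems (GSL `sl_odd_generic`, GPSL `psl_odd_generic`) for `F`
as hypotheses. -/
theorem sl_psl_prime_field_core {F : Type*} [Field F] [Fintype F] {p : ℕ} [Fact p.Prime]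
    [Algebra (ZMod p) F] (hp2 : p ≠ 2) (he : Fintype.card F = p)
    (hGSL : ∀ (ζ : Fˣ), (∀ y : Fˣ, y ∈ Subgroup.zpowers ζ) → ∀ (i : ℕ),
      Algebra.adjoin (ZMod p) {((ζ : F) ^ 2) ^ i} = ⊤ →
      ∀ (extra : List (FreeGroup (Fin 3))), extra.length ≤ 3 →
      (∀ r ∈ extra, FreeGroup.lift ![mU F 1, mT F, mH ζ] r = 1) →
      (∀ (G : Type) [Group G] (u t h : G),
        polyWord (h ^ i) u (minpoly (ZMod p) (((ζ : F) ^ 2) ^ i)) = 1 →
        (∀ r ∈ extra, FreeGroup.lift ![u, t, h] r = 1) →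
        u ^ p = 1 ∧ ∀ n : ℕ, Commute u ((h ^ i) ^ n * u * ((h ^ i) ^ n)⁻¹)) →
      ∃ rels : Finset (FreeGroup (Fin 3)), rels.card ≤ 9 ∧
        Nonempty (PresentedGroup (↑rels : Set (FreeGroup (Fin 3))) ≃*
          Matrix.SpecialLinearGroup (Fin 2) F))
    (hGPSL : ∀ (ζ : Fˣ), (∀ y : Fˣ, y ∈ Subgroup.zpowers ζ) → ∀ (i : ℕ),
      Algebra.adjoin (ZMod p) {((ζ : F) ^ 2) ^ i} = ⊤ →
      ∀ (extra : List (FreeGroup (Fin 3))), extra.length ≤ 3 →
      (∀ r ∈ extra, FreeGroup.lift ![mU F 1, mT F, mH ζ] r ∈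
        Subgroup.center (Matrix.SpecialLinearGroup (Fin 2) F)) →
      (∀ (G : Type) [Group G] (u t h : G),
        polyWord (h ^ i) u (minpoly (ZMod p) (((ζ : F) ^ 2) ^ i)) = 1 →
        (∀ r ∈ extra, FreeGroup.lift ![u, t, h] r = 1) →
        u ^ p = 1 ∧ h ^ ((Fintype.card F - 1) / 2) = 1 ∧
          ∀ n : ℕ, Commute u ((h ^ i) ^ n * u * ((h ^ i) ^ n)⁻¹)) →
      ∃ rels : Finset (FreeGroup (Fin 3)), rels.card ≤ 9 ∧
        Nonempty (PresentedGroup (↑rels : Set (FreeGroup (Fin 3))) ≃*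
          Matrix.ProjectiveSpecialLinearGroup (Fin 2) F)) :
    (∃ rels : Finset (FreeGroup (Fin 3)), rels.card ≤ 9 ∧
      Nonempty (PresentedGroup (↑rels : Set (FreeGroup (Fin 3))) ≃*
        Matrix.SpecialLinearGroup (Fin 2) F)) ∧
    (∃ rels : Finset (FreeGroup (Fin 3)), rels.card ≤ 9 ∧
      Nonempty (PresentedGroup (↑rels : Set (FreeGroup (Fin 3))) ≃*
        Matrix.ProjectiveSpecialLinearGroup (Fin 2) F)) := by
  classical
  have hpp : p.Prime := Fact.out
  haveI : NeZero p := ⟨hpp.ne_zero⟩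
  have hinj : Function.Injective (algebraMap (ZMod p) F) := (algebraMap (ZMod p) F).injective
  haveI : CharP F p := charP_of_injective_algebraMap hinj p
  have hbij : Function.Bijective (algebraMap (ZMod p) F) := by
    rw [Fintype.bijective_iff_injective_and_card]
    exact ⟨hinj, by rw [ZMod.card, he]⟩
  have hodd : Odd (Fintype.card F) := by
    rw [he]; exact hpp.odd_of_ne_two hp2
  obtain ⟨ζ, hζ⟩ := IsCyclic.exists_generator (α := Fˣ)
  have hμ : Algebra.adjoin (ZMod p) {((ζ : F) ^ 2) ^ 1} = ⊤ := by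
    rw [eq_top_iff]
    intro a _
    obtain ⟨c, rfl⟩ := hbij.2 a
    exact Subalgebra.algebraMap_mem _ c
  obtain ⟨c, hc⟩ := hbij.2 (((ζ : F) ^ 2) ^ 1)
  have hmin : minpoly (ZMod p) (((ζ : F) ^ 2) ^ 1) = X - C c := by
    rw [← hc]; exact minpoly.eq_X_sub_C_of_algebraMap_inj c hinj
  -- the relator of the minimal polynomial makes `h u h⁻¹` a power of `u`
  have hkey : ∀ (G : Type) [Group G] (u h : G),
      polyWord (h ^ 1) u (minpoly (ZMod p) (((ζ : F) ^ 2) ^ 1)) = 1 →
      ∀ n : ℕ, Commute u ((h ^ 1) ^ n * u * ((h ^ 1) ^ n)⁻¹) := by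
    intro G _ u h hpoly
    rw [hmin, op_polyWord_linear] at hpoly
    apply op_comm_of_mem_zpowers
    have h1 : h ^ 1 * u * (h ^ 1)⁻¹ = (u ^ (-c).val)⁻¹ := eq_inv_of_mul_eq_one_right hpoly
    rw [h1]
    exact Subgroup.inv_mem _ (Subgroup.pow_mem _ (Subgroup.mem_zpowers u) _)
  refine ⟨?_, ?_⟩
  · refine hGSL ζ hζ 1 hμ [gu ^ p] (by simp) ?_ ?_
    · intro r hr
      rw [List.mem_singleton] at hr
      subst hr
      rw [op_lift_gu_pow, op_mU_pow_char]
    · intro G _ u t h hpoly hextra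
      refine ⟨?_, hkey G u h hpoly⟩
      have := hextra (gu ^ p) (List.mem_singleton.mpr rfl)
      rwa [op_lift_gu_pow] at this
  · refine hGPSL ζ hζ 1 hμ [gu ^ p, gh ^ ((Fintype.card F - 1) / 2)] (by simp) ?_ ?_
    · intro r hr
      simp only [List.mem_cons, List.not_mem_nil, or_false] at hr
      rcases hr with rfl | rfl
      · rw [op_lift_gu_pow, op_mU_pow_char]
        exact Subgroup.one_mem _
      · rw [op_lift_gh_pow, op_mH_pow, op_gen_pow_half hodd ζ hζ]
        exact op_mH_neg_one_mem_center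
    · intro G _ u t h hpoly hextra
      refine ⟨?_, ?_, hkey G u h hpoly⟩
      · have := hextra (gu ^ p) (by simp)
        rwa [op_lift_gu_pow] at this
      · have := hextra (gh ^ ((Fintype.card F - 1) / 2)) (by simp)
        rwa [op_lift_gh_pow] at this

end Cfsg.Agent.Lib.helper44.Pres
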