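import Mathlib
import Cfsg.Agent.Lib.helper44.PresDefs
import Cfsg.Agent.Lib.helper67.PresOPcore
import Cfsg.Agent.Lib.helper79.PresHC
import Cfsg.Agent.Lib.helper6.PresPARB
import Cfsg.Agent.Lib.helper77.PresMATa

/-!
# S2286, piece OG (core, the generic odd theorems GSL / GPSL as hypotheses)

`F` of odd order `p ^ e`, `e ≥ 2`, `|F| ≠ 9`: instance of the generic odd theorems with the pair
`(i, j)` of `exists_pair` and the extra relators `[u ^ p, [u, g u g⁻¹], h ^ j u h ^ (-j) (u g u g⁻¹)⁻¹]`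
(`g = h ^ i`), resp. with `u ^ p (h ^ M)⁻¹` in place of `u ^ p` for `PSL₂`.
-/

set_option autoImplicit false

namespace Cfsg.Agent.Lib.helper44.Pres

open Polynomial

theorem og_lift_rE {G : Type*} [Group G] (u t h : G) (i : ℕ) :
    FreeGroup.lift ![u, t, h]
        (gu * (gh ^ i * gu * (gh ^ i)⁻¹) * gu⁻¹ * (gh ^ i * gu * (gh ^ i)⁻¹)⁻¹) =
      u * (h ^ i * u * (h ^ i)⁻¹) * u⁻¹ * (h ^ i * u * (h ^ i)⁻¹)⁻¹ := by
  simp [gu, gh]

theorem og_comm_iff {G : Type*} [Group G] (a b : G) :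
    a * b * a⁻¹ * b⁻¹ = 1 ↔ Commute a b := by
  rw [mul_inv_eq_one, mul_inv_eq_iff_eq_mul]
  exact Iff.rfl

theorem og_lift_rF {G : Type*} [Group G] (u t h : G) (i j : ℕ) :
    FreeGroup.lift ![u, t, h] (gh ^ j * gu * (gh ^ j)⁻¹ * (gu * (gh ^ i * gu * (gh ^ i)⁻¹))⁻¹) =
      h ^ j * u * (h ^ j)⁻¹ * (u * (h ^ i * u * (h ^ i)⁻¹))⁻¹ := by
  simp [gu, gh]

theorem og_lift_r1 {G : Type*} [Group G] (u t h : G) (k m : ℕ) :
    FreeGroup.lift ![u, t, h] (gu ^ k * (gh ^ m)⁻¹) = u ^ k * (h ^ m)⁻¹ := by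
  simp [gu, gh]

/-- OG, with the two generic odd theorems (GSL `sl_odd_generic`, GPSL `psl_odd_generic`) for `F`
as hypotheses. -/
theorem sl_psl_generic_field_h67core {F : Type*} [Field F] [Fintype F] {p : ℕ} [Fact p.Prime]
    [Algebra (ZMod p) F] (hp2 : p ≠ 2) (e : ℕ) (he : Fintype.card F = p ^ e) (he2 : 2 ≤ e)
    (h9 : Fintype.card F ≠ 9)
    (hGSL : ∀ (ζ : Fˣ), (∀ y : Fˣ, y ∈ Subgroup.zpowers ζ) → ∀ (i : ℕ),
      Algebra.adjoin (ZMod p) {((ζ : F) ^ 2) ^ i} = ⊤ →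
      ∀ (extra : List (FreeGroup (Fin 3))), extra.length ≤ 3 →
      (∀ r ∈ extra, FreeGroup.lift ![mU F 1, mT F, mH ζ] r = 1) →
      (∀ (G : Type) [Group G] (u t h : G),
        polyWord (h ^ i) u (minpoly (ZMod p) (((ζ : F) ^ 2) ^ i)) = 1 →
        (∀ r ∈ extra, FreeGroup.lift ![u, t, h] r = 1) →
        u ^ p = 1 ∧ ∀ n : ℕ, Commute u ((h ^ i) ^ n * u * ((h ^ i) ^ n)⁻¹)) →
      ∃ rels : Finset (FreeGroup (Fin 3)), rels.card ≤ 9 ∧
        Nonempty (PresentedGroup (↑rels : Set (FreeGroup (Fin 3))) ≃*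
          Matrix.SpecialLinearGroup (Fin 2) F))
    (hGPSL : ∀ (ζ : Fˣ), (∀ y : Fˣ, y ∈ Subgroup.zpowers ζ) → ∀ (i : ℕ),
      Algebra.adjoin (ZMod p) {((ζ : F) ^ 2) ^ i} = ⊤ →
      ∀ (extra : List (FreeGroup (Fin 3))), extra.length ≤ 3 →
      (∀ r ∈ extra, FreeGroup.lift ![mU F 1, mT F, mH ζ] r ∈
        Subgroup.center (Matrix.SpecialLinearGroup (Fin 2) F)) →
      (∀ (G : Type) [Group G] (u t h : G),
        polyWord (h ^ i) u (minpoly (ZMod p) (((ζ : F) ^ 2) ^ i)) = 1 →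
        (∀ r ∈ extra, FreeGroup.lift ![u, t, h] r = 1) →
        u ^ p = 1 ∧ h ^ ((Fintype.card F - 1) / 2) = 1 ∧
          ∀ n : ℕ, Commute u ((h ^ i) ^ n * u * ((h ^ i) ^ n)⁻¹)) →
      ∃ rels : Finset (FreeGroup (Fin 3)), rels.card ≤ 9 ∧
        Nonempty (PresentedGroup (↑rels : Set (FreeGroup (Fin 3))) ≃*
          Matrix.ProjectiveSpecialLinearGroup (Fin 2) F)) :
    (∃ rels : Finset (FreeGroup (Fin 3)), rels.card ≤ 9 ∧
      Nonempty (PresentedGroup (↑rels : Set (FreeGroup (Fin 3))) ≃*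
        Matrix.SpecialLinearGroup (Fin 2) F)) ∧
    (∃ rels : Finset (FreeGroup (Fin 3)), rels.card ≤ 9 ∧
      Nonempty (PresentedGroup (↑rels : Set (FreeGroup (Fin 3))) ≃*
        Matrix.ProjectiveSpecialLinearGroup (Fin 2) F)) := by
  classical
  have hpp : p.Prime := Fact.out
  have hinj : Function.Injective (algebraMap (ZMod p) F) := (algebraMap (ZMod p) F).injective
  haveI : CharP F p := charP_of_injective_algebraMap hinj p
  have hodd : Odd (Fintype.card F) := by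
    rw [he]; exact (hpp.odd_of_ne_two hp2).pow
  obtain ⟨ζ, hζ⟩ := IsCyclic.exists_generator (α := Fˣ)
  obtain ⟨i, j, hij, hμ⟩ := exists_pair hp2 e he he2 h9 ζ hζ
  -- the two relations inside `SL₂(F)`
  have hmE : Commute (mU F 1) (mH ζ ^ i * mU F 1 * (mH ζ ^ i)⁻¹) := by
    rw [mH_pow_conj]
    show mU F 1 * mU F _ = mU F _ * mU F 1
    rw [mU_mul, mU_mul, add_comm]
  have hmF : mH ζ ^ j * mU F 1 * (mH ζ ^ j)⁻¹ =
      mU F 1 * (mH ζ ^ i * mU F 1 * (mH ζ ^ i)⁻¹) := by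
    rw [mH_pow_conj, mH_pow_conj, mU_mul, mul_one, mul_one, hij]
  refine ⟨?_, ?_⟩
  · refine hGSL ζ hζ i hμ [gu ^ p, gu * (gh ^ i * gu * (gh ^ i)⁻¹) * gu⁻¹ * (gh ^ i * gu * (gh ^ i)⁻¹)⁻¹,
      gh ^ j * gu * (gh ^ j)⁻¹ * (gu * (gh ^ i * gu * (gh ^ i)⁻¹))⁻¹] (by simp) ?_ ?_
    · intro r hr
      simp only [List.mem_cons, List.not_mem_nil, or_false] at hr
      rcases hr with rfl | rfl | rfl
      · rw [op_lift_gu_pow, op_mU_pow_char]
      · rw [og_lift_rE, og_comm_iff]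
        exact hmE
      · rw [og_lift_rF, mul_inv_eq_one]
        exact hmF
    · intro G _ u t h _ hextra
      have h1 := hextra (gu ^ p) (by simp)
      have h2 := hextra (gu * (gh ^ i * gu * (gh ^ i)⁻¹) * gu⁻¹ * (gh ^ i * gu * (gh ^ i)⁻¹)⁻¹) (by simp)
      have h3 := hextra (gh ^ j * gu * (gh ^ j)⁻¹ * (gu * (gh ^ i * gu * (gh ^ i)⁻¹))⁻¹) (by simp)
      rw [op_lift_gu_pow] at h1
      rw [og_lift_rE, og_comm_iff] at h2
      rw [og_lift_rF, mul_inv_eq_one] at h3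
      exact ⟨h1, comm_trick u (h ^ i) (h ^ j) ((Commute.refl h).pow_pow i j) h2 h3⟩
  · refine hGPSL ζ hζ i hμ [gu ^ p * (gh ^ ((Fintype.card F - 1) / 2))⁻¹,
      gu * (gh ^ i * gu * (gh ^ i)⁻¹) * gu⁻¹ * (gh ^ i * gu * (gh ^ i)⁻¹)⁻¹,
      gh ^ j * gu * (gh ^ j)⁻¹ * (gu * (gh ^ i * gu * (gh ^ i)⁻¹))⁻¹] (by simp) ?_ ?_
    · intro r hr
      simp only [List.mem_cons, List.not_mem_nil, or_false] at hr
      rcases hr with rfl | rfl | rfl
      · rw [og_lift_r1, op_mU_pow_char, one_mul, op_mH_pow, op_gen_pow_half hodd ζ hζ]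
        exact Subgroup.inv_mem _ op_mH_neg_one_mem_center
      · rw [og_lift_rE, (og_comm_iff _ _).mpr hmE]
        exact Subgroup.one_mem _
      · rw [og_lift_rF, mul_inv_eq_one.mpr hmF]
        exact Subgroup.one_mem _
    · intro G _ u t h _ hextra
      have h1 := hextra (gu ^ p * (gh ^ ((Fintype.card F - 1) / 2))⁻¹) (by simp)
      have h2 := hextra (gu * (gh ^ i * gu * (gh ^ i)⁻¹) * gu⁻¹ * (gh ^ i * gu * (gh ^ i)⁻¹)⁻¹) (by simp)
      have h3 := hextra (gh ^ j * gu * (gh ^ j)⁻¹ * (gu * (gh ^ i * gu * (gh ^ i)⁻¹))⁻¹) (by simp)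
      rw [og_lift_r1, mul_inv_eq_one] at h1
      rw [og_lift_rE, og_comm_iff] at h2
      rw [og_lift_rF, mul_inv_eq_one] at h3
      have hc : h ^ ((Fintype.card F - 1) / 2) = 1 :=
        eq_one_of_merge u (h ^ i) (h ^ j) (h ^ ((Fintype.card F - 1) / 2)) p h1 h2 h3
          ((Commute.refl h).pow_pow _ i) ((Commute.refl h).pow_pow _ j)
      exact ⟨h1.trans hc, hc, comm_trick u (h ^ i) (h ^ j) ((Commute.refl h).pow_pow i j) h2 h3⟩

end Cfsg.Agent.Lib.helper44.Pres
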