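import Mathlib
import Cfsg.Agent.Lib.helper44.PresDefs
import Cfsg.Agent.Lib.helper67.PresOPcore
import Cfsg.Agent.Lib.helper44.PresGSL
import Cfsg.Agent.Lib.helper25.PresGPSL

/-!
# S2286, piece OP: `SL₂(p)` and `PSL₂(p)` (prime field, `p` odd) on three generators, at most nine relations
-/

set_option autoImplicit false

namespace Cfsg.Agent.Lib.helper44.Pres

open Polynomial

-- OP
theorem sl_psl_prime_field {F : Type*} [Field F] [Fintype F] {p : ℕ} [Fact p.Prime]
    [Algebra (ZMod p) F] (hp2 : p ≠ 2) (he : Fintype.card F = p) :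
    (∃ rels : Finset (FreeGroup (Fin 3)), rels.card ≤ 9 ∧
      Nonempty (PresentedGroup (↑rels : Set (FreeGroup (Fin 3))) ≃*
        Matrix.SpecialLinearGroup (Fin 2) F)) ∧
    (∃ rels : Finset (FreeGroup (Fin 3)), rels.card ≤ 9 ∧
      Nonempty (PresentedGroup (↑rels : Set (FreeGroup (Fin 3))) ≃*
        Matrix.ProjectiveSpecialLinearGroup (Fin 2) F)) :=
  sl_psl_prime_field_core hp2 he
    (fun ζ hζ i hμ extra hlen hSL hcomm => sl_odd_generic hp2 ζ hζ i hμ extra hlen hSL hcomm)
    (fun ζ hζ i hμ extra hlen hPSL hcomm => psl_odd_generic hp2 ζ hζ i hμ extra hlen hPSL hcomm)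

end Cfsg.Agent.Lib.helper44.Pres
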