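import Mathlib
import Cfsg.Prelude.Def_GeometricClasses
import Cfsg.Agent.Lib.helper24.SfoDefs
import Cfsg.Agent.Lib.helper34.QfcCNT
import Cfsg.Agent.Lib.helper77.SfoCNTO
import Cfsg.Agent.Lib.helper27.SfoCNTE
import Cfsg.Agent.Lib.helper27.QfuEVEN

/-!
S5977 / S5978 block [A], KUNIQ sub-split (helper2), leaf CNTEQ, racer copy by helper67:
the two `K'`-forms attached to `κ₁`, `κ₂` take the value `1` equally often.
-/

set_option autoImplicit false

namespace Cfsg.Agent.Lib.helper2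

open Cfsg.Geo Matrix Cfsg.Agent.Lib.helper24

theorem h67_qfu_count_eq {F : Type*} [Field F] [Fintype F] {ι : Type} [Fintype ι] [DecidableEq ι]
    (hodd : Odd (Fintype.card F)) (Q : (ι → F) → F) (δ : F) [Fact (∀ r : F, r ^ 2 ≠ δ + 0 * r)]
    (d : ℕ) (Φ₁ Φ₂ : (Fin d → QuadraticAlgebra F δ 0) ≃+ (ι → F))
    (qk₁ qk₂ : (ι → F) → QuadraticAlgebra F δ 0) (hre₁ : ∀ v, (qk₁ v).re = Q v)
    (hre₂ : ∀ v, (qk₂ v).re = Q v)
    (hQ₁ : IsNondegenerateQuadraticForm (fun k : Fin d → QuadraticAlgebra F δ 0 => qk₁ (Φ₁ k)))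
    (hQ₂ : IsNondegenerateQuadraticForm (fun k : Fin d → QuadraticAlgebra F δ 0 => qk₂ (Φ₂ k))) :
    sfoCount (fun k : Fin d → QuadraticAlgebra F δ 0 => qk₁ (Φ₁ k)) 1 =
      sfoCount (fun k : Fin d → QuadraticAlgebra F δ 0 => qk₂ (Φ₂ k)) 1 := by
  classical
  letI : Fintype (QuadraticAlgebra F δ 0) :=
    Fintype.ofEquiv _ (QuadraticAlgebra.equivProd δ 0).symm
  have h2F : (2 : F) ≠ 0 := by
    intro h
    have h1 : ringChar F ∣ 2 := by
      have : ((2 : ℕ) : F) = 0 := by exact_mod_cast h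
      exact ringChar.dvd this
    have h2 : ringChar F = 2 := by
      rcases (Nat.dvd_prime Nat.prime_two).mp h1 with h3 | h3
      · exact absurd h3 (CharP.ringChar_ne_one)
      · exact h3
    have h3 : Fintype.card F % 2 = 0 := FiniteField.even_card_iff_char_two.mp h2
    rcases hodd with ⟨k, hk⟩
    omega
  have h2K : (2 : QuadraticAlgebra F δ 0) ≠ 0 := by
    intro h
    apply h2F
    have h' : (2 : QuadraticAlgebra F δ 0).re = (0 : QuadraticAlgebra F δ 0).re :=
      congrArg QuadraticAlgebra.re h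
    exact h'
  have h1K : (1 : QuadraticAlgebra F δ 0) ≠ 0 := one_ne_zero
  have hq0 : 0 < Fintype.card F := Fintype.card_pos
  rcases Nat.even_or_odd' d with ⟨k, hk | hk⟩
  · have hN : ∀ (Φ : (Fin d → QuadraticAlgebra F δ 0) ≃+ (ι → F))
        (qk : (ι → F) → QuadraticAlgebra F δ 0), (∀ v, (qk v).re = Q v) →
        IsNondegenerateQuadraticForm (fun k : Fin d → QuadraticAlgebra F δ 0 => qk (Φ k)) →
        Nat.card {v : ι → F // Q v = 1} =
          Fintype.card F * sfoCount (fun k : Fin d → QuadraticAlgebra F δ 0 => qk (Φ k)) 1 := by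
      intro Φ qk hre hQ
      obtain ⟨ε, -, hε⟩ := h27_sfo_count_even h2K d k hk
        (fun k : Fin d → QuadraticAlgebra F δ 0 => qk (Φ k)) hQ
      apply qfc_count Q δ d Φ qk hre
      intro z hz
      have h1 := hε z hz
      have h2 := hε 1 h1K
      exact_mod_cast h1.trans h2.symm
    have e1 := hN Φ₁ qk₁ hre₁ hQ₁
    have e2 := hN Φ₂ qk₂ hre₂ hQ₂
    rw [e1] at e2
    exact Nat.eq_of_mul_eq_mul_left hq0 e2
  · obtain ⟨A, hA⟩ : ∃ A : ℤ, A = (Fintype.card (QuadraticAlgebra F δ 0) : ℤ) ^ k := ⟨_, rfl⟩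
    have hA0 : A ≠ 0 := by
      rw [hA]
      exact pow_ne_zero _ (by exact_mod_cast Fintype.card_ne_zero)
    obtain ⟨χ, hχ⟩ : ∃ χ : F → ℤ, χ = fun b =>
        if IsSquare (⟨1, b⟩ : QuadraticAlgebra F δ 0) then (1 : ℤ) else -1 := ⟨_, rfl⟩
    obtain ⟨X, hX⟩ : ∃ X : ℤ, X = ∑ b : F, χ b := ⟨_, rfl⟩
    have hX0 : X ≠ 0 := by
      intro h0
      have hχ' : ∀ b, χ b = 1 - 2 *
          (if IsSquare (⟨1, b⟩ : QuadraticAlgebra F δ 0) then (0 : ℤ) else 1) := by
        intro b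
        rw [hχ]
        simp only
        split_ifs <;> norm_num
      rw [hX, Finset.sum_congr rfl (fun b _ => hχ' b), Finset.sum_sub_distrib,
        ← Finset.mul_sum] at h0
      simp only [Finset.sum_const, Finset.card_univ, nsmul_eq_mul, mul_one] at h0
      rcases hodd with ⟨t, ht⟩
      rw [ht] at h0
      push_cast at h0
      omega
    have key : ∀ (Φ : (Fin d → QuadraticAlgebra F δ 0) ≃+ (ι → F))
        (qk : (ι → F) → QuadraticAlgebra F δ 0), (∀ v, (qk v).re = Q v) →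
        IsNondegenerateQuadraticForm (fun k : Fin d → QuadraticAlgebra F δ 0 => qk (Φ k)) →
        ∃ E : ℤ, ((Nat.card {v : ι → F // Q v = 1} : ℕ) : ℤ) =
            (Fintype.card F : ℤ) * (A * A) + A * E * X ∧
          ((sfoCount (fun k : Fin d → QuadraticAlgebra F δ 0 => qk (Φ k)) 1 : ℕ) : ℤ) =
            A * (A + E) := by
      intro Φ qk hre hQ
      obtain ⟨E, -, hsq, hns⟩ := sfo_count_odd h2K d k hk
        (fun k : Fin d → QuadraticAlgebra F δ 0 => qk (Φ k)) hQ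
      refine ⟨E, ?_, by rw [hA]; exact hsq 1 h1K ⟨1, (mul_one 1).symm⟩⟩
      rw [h27_qfu_fib Q δ d Φ qk hre]
      push_cast
      have hterm : ∀ b : F,
          ((sfoCount (fun k : Fin d → QuadraticAlgebra F δ 0 => qk (Φ k))
            (⟨1, b⟩ : QuadraticAlgebra F δ 0) : ℕ) : ℤ) = A * A + A * E * χ b := by
        intro b
        have hb0 : (⟨1, b⟩ : QuadraticAlgebra F δ 0) ≠ 0 := by
          intro h
          have h' := congrArg QuadraticAlgebra.re h
          simp at h'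
        by_cases hs : IsSquare (⟨1, b⟩ : QuadraticAlgebra F δ 0)
        · rw [hsq _ hb0 hs, hχ, ← hA]
          simp only [if_pos hs]
          ring
        · rw [hns _ hb0 hs, hχ, ← hA]
          simp only [if_neg hs]
          ring
      rw [Finset.sum_congr rfl (fun b _ => hterm b), Finset.sum_add_distrib, Finset.sum_const,
        Finset.card_univ, nsmul_eq_mul, ← Finset.mul_sum, ← hX]
    obtain ⟨E₁, hc₁, hs₁⟩ := key Φ₁ qk₁ hre₁ hQ₁
    obtain ⟨E₂, hc₂, hs₂⟩ := key Φ₂ qk₂ hre₂ hQ₂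
    have hE : E₁ = E₂ := by
      rw [hc₁] at hc₂
      have h3 : A * E₁ * X = A * E₂ * X := by linear_combination hc₂
      exact mul_left_cancel₀ hA0 (mul_right_cancel₀ hX0 h3)
    rw [hE] at hs₁
    exact_mod_cast hs₁.trans hs₂.symm

end Cfsg.Agent.Lib.helper2
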