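import Mathlib

/-!
# S2113 (Schur multiplier of the Ree groups `²G₂(q)`): the abstract Sylow-3 datum

`Ree3Data U α β`: the elements `U t u v` (`t u v : K`) form a group `P` of class 3 with
`Z = {U 0 0 v}` central, `P' = {U 0 u v}` abelian, `[P, P'] ≤ Z`, cubes in `Z`, and a torus acting by
`(t, u, v) ↦ (α μ * t, β μ * u, μ * v)`.
-/

set_option autoImplicit false

namespace Cfsg.Agent.Lib.helper67.ReeMult

/-- Abstract data of a Sylow 3-subgroup `{U t u v}` of a Ree group together with its torus action. -/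
structure Ree3Data {G K : Type*} [Group G] [Field K] (U : K → K → K → G) (α β : K → K) : Prop where
  tinj : ∀ t u v t' u' v', U t u v = U t' u' v' → t = t'
  mulT : ∀ t u v t' u' v', ∃ u'' v'', U t u v * U t' u' v' = U (t + t') u'' v''
  invT : ∀ t u v, ∃ u' v', (U t u v)⁻¹ = U (-t) u' v'
  mid : ∀ u v u' v', U 0 u v * U 0 u' v' = U 0 (u + u') (v + v')
  cent : ∀ t u v w, U 0 0 w * U t u v = U t u v * U 0 0 w
  comm : ∀ t u v u' v', ∃ w, U t u v * U 0 u' v' = U 0 0 w * (U 0 u' v' * U t u v)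
  cube : ∀ t u v, ∃ w, U t u v * U t u v * U t u v = U 0 0 w
  tor : ∀ μ : K, μ ≠ 0 → ∃ h : G, ∀ t u v, h * U t u v * h⁻¹ = U (α μ * t) (β μ * u) (μ * v)
  αmul : ∀ μ ν, α (μ * ν) = α μ * α ν
  βmul : ∀ μ ν, β (μ * ν) = β μ * β ν
  αneg : α (-1) = -1
  βneg : β (-1) = 1
  αsurj : ∀ c : K, c ≠ 0 → ∃ μ : K, μ ≠ 0 ∧ α μ = c
  βsq : ∀ c : K, c ≠ 0 → ∃ μ : K, μ ≠ 0 ∧ β μ = c ^ 2

end Cfsg.Agent.Lib.helper67.ReeMult
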