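import Mathlib
import Cfsg.Agent.Lib.helper51.S2113Defs
import Cfsg.Agent.Lib.helper51.S2111C
import Cfsg.Agent.Lib.helper69.StemSylow

/-! S2113 piece NORM3 (racer copy by helper67): the norm argument on the abelian group of lifts of
`{T 0 u v}`. -/

set_option autoImplicit false

namespace Cfsg.Agent.Lib.helper67.S2113

open scoped commutatorElement
open Cfsg.Agent.Lib.helper51.S2113 Cfsg.Agent.Lib.helper51.S2111 Cfsg.Agent.Lib.helper69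

theorem helper67_comm_expand {Γ : Type*} [Group Γ] (A A' k k' g₁ g₂ : Γ)
    (hg₁ : ⁅A' * k', k⁆ = g₁) (hg₂ : ⁅A, k'⁆ = g₂) (c1 : g₁ * A = A * g₁)
    (c2 : g₂ * A' = A' * g₂) : ⁅A * k, A' * k'⁆ = g₁⁻¹ * (⁅A, A'⁆ * g₂) := by
  have s1 : ⁅A * k, A' * k'⁆ =
      A * ⁅A' * k', k⁆⁻¹ * A⁻¹ * (⁅A, A'⁆ * (A' * ⁅A, k'⁆ * A'⁻¹)) := by
    simp only [commutatorElement_def]; group
  rw [s1, hg₁, hg₂]
  have s2 : A * g₁⁻¹ * A⁻¹ = g₁⁻¹ := by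
    calc A * g₁⁻¹ * A⁻¹ = g₁⁻¹ * (g₁ * A) * g₁⁻¹ * A⁻¹ := by group
      _ = g₁⁻¹ * (A * g₁) * g₁⁻¹ * A⁻¹ := by rw [c1]
      _ = g₁⁻¹ := by group
  have s3 : A' * g₂ * A'⁻¹ = g₂ := by
    calc A' * g₂ * A'⁻¹ = (g₂ * A') * A'⁻¹ := by rw [c2]
      _ = g₂ := by group
  rw [s2, s3]

theorem helper67_comm_mul3 {Γ : Type*} [Group Γ] (a b c : Γ) :
    ⁅a * b, c⁆ = ⁅a, ⁅b, c⁆⁆ * ⁅b, c⁆ * ⁅a, c⁆ := by
  simp only [commutatorElement_def]; group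

/-- PIECE NORM3 (racer copy): the norm argument on the abelian group of lifts of `T 0 u v`. -/
theorem helper67_norm3 {K G Γ : Type*} [Field K] [Fintype K] [Group G] [Group Γ] (σ : Γ →* G)
    (hsurj : Function.Surjective σ) (hc : σ.ker ≤ Subgroup.center Γ) (T : K → K → K → G) (e : ℕ)
    (c : K → K → K) (D : UData K G T e c) (h3K : (3 : K) = 0) (hcop : ¬ 3 ∣ Nat.card Kˣ)
    (h3 : ∀ x y : Γ, (∃ t u v, σ x = T t u v) → (∃ w, σ y = T 0 0 w) → x * y = y * x)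
    (h4 : ∀ x y : Γ, (∃ u v, σ x = T 0 u v) → (∃ u v, σ y = T 0 u v) → x * y = y * x)
    (hab : ∀ B : K → K → Γ, (∀ s s' t, B (s + s') t = B s t * B s' t) →
      (∀ s t t', B s (t + t') = B s t * B s t') →
      (∀ ν s t, ν ≠ 0 → B (ν * s) (ν * (ν ^ e) ^ 3 * t) = B s t) → ∀ s t, B s t = 1)
    (hsq : ∀ B : K → K → Γ, (∀ s s' t, B (s + s') t = B s t * B s' t) →
      (∀ s t t', B s (t + t') = B s t * B s t') →
      (∀ a s t, a ≠ 0 → B (a ^ 2 * s) (a ^ 2 * t) = B s t) → ∀ s t, B s t = 1)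
    (P : Subgroup G) (hP : ∀ g, g ∈ P ↔ ∃ t u v, g = T t u v) :
    ∀ w ∈ σ.ker, w ∈ ⁅P.comap σ, P.comap σ⁆ → w = 1 := by
  classical
  obtain ⟨ℓ, hℓ⟩ := hsurj.hasRightInverse
  have hadd3 : ∀ w : K, w + w + w = 0 := fun w => by
    have h1 : w + w + w = 3 * w := by ring
    rw [h1, h3K, zero_mul]
  -- basic identities in `G`
  have h000 : T 0 0 0 = 1 := by
    have h1 := D.top_r 0 0 0 0
    rw [add_zero] at h1
    exact mul_left_cancel (a := T 0 0 0) (by rw [h1, mul_one])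
  have hdecR : ∀ t u v, ∃ v', T t u v = T t 0 0 * T 0 u v' := by
    intro t u v
    obtain ⟨w, hw⟩ := D.mul t 0 0 0 u 0
    rw [add_zero, zero_add, D.c_zero_right, add_zero] at hw
    refine ⟨v - w, ?_⟩
    have h1 : T 0 u (v - w) = T 0 u 0 * T 0 0 (v - w) := by rw [D.top_r, zero_add]
    rw [h1, ← mul_assoc, hw, D.top_r]
    congr 1; ring
  have hdecL : ∀ t u v, ∃ v', T t u v = T 0 u v' * T t 0 0 := by
    intro t u v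
    obtain ⟨w, hw⟩ := D.mul 0 u 0 t 0 0
    rw [zero_add, add_zero, D.c_zero_left, add_zero] at hw
    refine ⟨v - w, ?_⟩
    have h1 : T 0 u (v - w) = T 0 0 (v - w) * T 0 u 0 := by rw [D.top_l, zero_add]
    rw [h1, mul_assoc, hw, D.top_l]
    congr 1; ring
  have hP1mul : ∀ u v u' v', ∃ w, T 0 u v * T 0 u' v' = T 0 (u + u') w := by
    intro u v u' v'
    obtain ⟨w, hw⟩ := D.mul 0 u v 0 u' v'
    rw [add_zero, D.c_zero_left, add_zero] at hw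
    exact ⟨w, hw⟩
  have hP1inv : ∀ u v, ∃ w, (T 0 u v)⁻¹ = T 0 (-u) w := by
    intro u v
    obtain ⟨w, hw⟩ := hP1mul u v (-u) 0
    rw [add_neg_cancel] at hw
    refine ⟨-w, ?_⟩
    apply inv_eq_of_mul_eq_one_right
    have h1 : T 0 (-u) (-w) = T 0 (-u) 0 * T 0 0 (-w) := by rw [D.top_r, zero_add]
    rw [h1, ← mul_assoc, hw, D.top_r, add_neg_cancel, h000]
  let P₁ : Subgroup G :=
    { carrier := {g | ∃ u v, g = T 0 u v}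
      mul_mem' := by
        rintro _ _ ⟨u, v, rfl⟩ ⟨u', v', rfl⟩
        obtain ⟨w, hw⟩ := hP1mul u v u' v'
        exact ⟨u + u', w, hw⟩
      one_mem' := ⟨0, 0, h000.symm⟩
      inv_mem' := by
        rintro _ ⟨u, v, rfl⟩
        obtain ⟨w, hw⟩ := hP1inv u v
        exact ⟨-u, w, hw⟩ }
  have hP₁mem : ∀ u v, T 0 u v ∈ P₁ := fun u v => ⟨u, v, rfl⟩
  let K₁ : Subgroup Γ := P₁.comap σ
  have hK₁mem : ∀ k : Γ, k ∈ K₁ ↔ ∃ u v, σ k = T 0 u v := fun k => Iff.rfl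
  have hPmem : ∀ x : Γ, x ∈ P.comap σ ↔ ∃ t u v, σ x = T t u v := fun x => by
    rw [Subgroup.mem_comap, hP]
  -- lifts of `Z` commute with lifts of `P`
  have hZc : ∀ (z x : Γ), (∃ w, σ z = T 0 0 w) → (∃ t u v, σ x = T t u v) → z * x = x * z :=
    fun z x hz hx => (h3 x z hx hz).symm
  -- commutators of lifts of `P` lie in `K₁`
  have hcomK₁ : ∀ x y : Γ, (∃ t u v, σ x = T t u v) → (∃ t u v, σ y = T t u v) →
      ⁅x, y⁆ ∈ K₁ := by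
    rintro x y ⟨s, a, b, hx⟩ ⟨s', a', b', hy⟩
    obtain ⟨w₁, hw₁⟩ := D.mul s a b s' a' b'
    obtain ⟨w₂, hw₂⟩ := D.mul s' a' b' s a b
    obtain ⟨v₁, hv₁⟩ := hdecL (s + s') (a + a' + c s s') w₁
    obtain ⟨v₂, hv₂⟩ := hdecL (s' + s) (a' + a + c s' s) w₂
    have hmem : σ ⁅x, y⁆ ∈ P₁ := by
      have e1 : σ ⁅x, y⁆ = (T s a b * T s' a' b') * (T s' a' b' * T s a b)⁻¹ := by
        rw [map_commutatorElement, hx, hy, commutatorElement_def]; group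
      rw [e1, hw₁, hw₂, hv₁, hv₂, add_comm s' s]
      have e2 : T 0 (a + a' + c s s') v₁ * T (s + s') 0 0 *
          (T 0 (a' + a + c s' s) v₂ * T (s + s') 0 0)⁻¹ =
          T 0 (a + a' + c s s') v₁ * (T 0 (a' + a + c s' s) v₂)⁻¹ := by group
      rw [e2]
      exact P₁.mul_mem (hP₁mem _ _) (P₁.inv_mem (hP₁mem _ _))
    exact hmem
  -- commutators of a lift of `P` with a lift of `P₁` are lifts of `Z`
  have hcomZ : ∀ (x y : Γ) (s a b u v : K), σ x = T s a b → σ y = T 0 u v →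
      ∃ w, σ ⁅x, y⁆ = T 0 0 w := by
    intro x y s a b u v hx hy
    obtain ⟨w₁, hw₁⟩ := D.mul s a b 0 u v
    obtain ⟨w₂, hw₂⟩ := D.mul 0 u v s a b
    rw [add_zero, D.c_zero_right, add_zero] at hw₁
    rw [zero_add, D.c_zero_left, add_zero] at hw₂
    refine ⟨w₁ - w₂, ?_⟩
    have e1 : σ ⁅x, y⁆ = (T s a b * T 0 u v) * (T 0 u v * T s a b)⁻¹ := by
      rw [map_commutatorElement, hx, hy, commutatorElement_def]; group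
    rw [e1, hw₁, hw₂]
    have e2 : T s (a + u) w₁ = T 0 0 (w₁ - w₂) * T s (u + a) w₂ := by
      rw [D.top_l, add_comm u a]
      congr 1; ring
    rw [e2, mul_inv_cancel_right]
  -- the commutator of a lift of `T s _ _` with a lift of `T 0 u _` only depends on `s, u`
  have hdep1 : ∀ (x x' y y' : Γ) (s a b a' b' u v v' : K), σ x = T s a b → σ x' = T s a' b' →
      σ y = T 0 u v → σ y' = T 0 u v' → ⁅x, y⁆ = ⁅x', y'⁆ := by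
    intro x x' y y' s a b a' b' u v v' hx hx' hy hy'
    have hk1 : ∃ u₁ v₁, σ (x⁻¹ * x') = T 0 u₁ v₁ := by
      obtain ⟨b₁, hb₁⟩ := hdecR s a b
      obtain ⟨b₂, hb₂⟩ := hdecR s a' b'
      have hm : σ (x⁻¹ * x') ∈ P₁ := by
        rw [map_mul, map_inv, hx, hx', hb₁, hb₂]
        have e2 : (T s 0 0 * T 0 a b₁)⁻¹ * (T s 0 0 * T 0 a' b₂) =
            (T 0 a b₁)⁻¹ * T 0 a' b₂ := by group
        rw [e2]
        exact P₁.mul_mem (P₁.inv_mem (hP₁mem _ _)) (hP₁mem _ _)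
      exact hm
    have hk2 : ∃ w, σ (y⁻¹ * y') = T 0 0 w := by
      refine ⟨v' - v, ?_⟩
      rw [map_mul, map_inv, hy, hy', inv_mul_eq_iff_eq_mul, D.top_r]
      congr 1; ring
    have ex : x' = x * (x⁻¹ * x') := by group
    have ey : y' = y * (y⁻¹ * y') := by group
    rw [ex, ey]
    rw [helper51_comm_mul_left_of_comm _ _ _ (h4 _ _ hk1 ⟨u, v', by rw [← ey]; exact hy'⟩)]
    rw [helper51_comm_mul_right_of_comm _ _ _ (hZc _ _ hk2 ⟨s, a, b, hx⟩)]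
  -- `K₁` is commutative
  have hK₁comm : ∀ k k' : ↥K₁, k * k' = k' * k :=
    fun k k' => Subtype.ext (h4 k k' ((hK₁mem _).1 k.2) ((hK₁mem _).1 k'.2))
  let instK : CommGroup ↥K₁ := { (inferInstance : Group ↥K₁) with mul_comm := hK₁comm }
  -- the pairing `γ₁`
  let γ₁ : K → K → ↥K₁ := fun s u =>
    ⟨⁅ℓ (T s 0 0), ℓ (T 0 u 0)⁆, hcomK₁ _ _ ⟨s, 0, 0, hℓ _⟩ ⟨0, u, 0, hℓ _⟩⟩
  have hγ₁ : ∀ (x y : Γ) (s a b u v : K), σ x = T s a b → σ y = T 0 u v →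
      ⁅x, y⁆ = (γ₁ s u : Γ) := by
    intro x y s a b u v hx hy
    exact hdep1 x _ y _ s a b 0 0 u v 0 hx (hℓ _) hy (hℓ _)
  have hγ₁Z : ∀ s u, ∃ w, σ (γ₁ s u : Γ) = T 0 0 w :=
    fun s u => hcomZ _ _ s 0 0 u 0 (hℓ _) (hℓ _)
  have hγ₁l : ∀ s s' u, γ₁ (s + s') u = γ₁ s u * γ₁ s' u := by
    intro s s' u
    apply Subtype.ext
    rw [Subgroup.coe_mul]
    obtain ⟨w, hw⟩ := D.mul s 0 0 s' 0 0
    have e1 : ⁅ℓ (T s 0 0) * ℓ (T s' 0 0), ℓ (T 0 u 0)⁆ = (γ₁ (s + s') u : Γ) :=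
      hγ₁ _ _ (s + s') (0 + 0 + c s s') w u 0 (by rw [map_mul, hℓ, hℓ, hw]) (hℓ _)
    rw [← e1]
    apply helper51_comm_mul_left_split
    · exact hZc _ _ (hγ₁Z s' u) ⟨s, 0, 0, hℓ _⟩
    · exact h4 _ _ ((hK₁mem _).1 (γ₁ s' u).2) ((hK₁mem _).1 (γ₁ s u).2)
  have hγ₁r : ∀ s u u', γ₁ s (u + u') = γ₁ s u * γ₁ s u' := by
    intro s u u'
    apply Subtype.ext
    rw [Subgroup.coe_mul]
    have e1 : ⁅ℓ (T s 0 0), ℓ (T 0 u 0) * ℓ (T 0 u' 0)⁆ = (γ₁ s (u + u') : Γ) :=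
      hγ₁ _ _ s 0 0 (u + u') 0 (hℓ _) (by rw [map_mul, hℓ, hℓ, D.mid])
    rw [← e1]
    apply helper51_comm_mul_right_split
    exact hZc _ _ (hγ₁Z s u') ⟨0, u, 0, hℓ _⟩
  have hγ₁0 : ∀ u, γ₁ 0 u = 1 := by
    intro u
    have h1 := hγ₁l 0 0 u
    rw [add_zero] at h1
    exact mul_left_cancel (a := γ₁ 0 u) (by rw [← h1, mul_one])
  have hγ₁cube : ∀ s u, γ₁ s u ^ 3 = 1 := by
    intro s u
    rw [pow_succ, pow_two, ← hγ₁l, ← hγ₁l, hadd3, hγ₁0]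
  -- the pairing `Γ₀`
  let Γ₀ : K → K → ↥K₁ := fun s s' =>
    ⟨⁅ℓ (T s 0 0), ℓ (T s' 0 0)⁆, hcomK₁ _ _ ⟨s, 0, 0, hℓ _⟩ ⟨s', 0, 0, hℓ _⟩⟩
  have hΓ₀ : ∀ (x x' : Γ) (s a b s' a' b' : K), σ x = T s a b → σ x' = T s' a' b' →
      ⁅x, x'⁆ = (((γ₁ s' a)⁻¹ * (Γ₀ s s' * γ₁ s a') : ↥K₁) : Γ) := by
    intro x x' s a b s' a' b' hx hx'
    obtain ⟨b₁, hb₁⟩ := hdecR s a b
    obtain ⟨b₂, hb₂⟩ := hdecR s' a' b'
    have hk : σ ((ℓ (T s 0 0))⁻¹ * x) = T 0 a b₁ := by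
      rw [map_mul, map_inv, hℓ, hx, hb₁, inv_mul_cancel_left]
    have hk' : σ ((ℓ (T s' 0 0))⁻¹ * x') = T 0 a' b₂ := by
      rw [map_mul, map_inv, hℓ, hx', hb₂, inv_mul_cancel_left]
    have e1 : ⁅ℓ (T s' 0 0) * ((ℓ (T s' 0 0))⁻¹ * x'), (ℓ (T s 0 0))⁻¹ * x⁆ = (γ₁ s' a : Γ) :=
      hγ₁ _ _ s' a' b' a b₁ (by rw [mul_inv_cancel_left]; exact hx') hk
    have e2 : ⁅ℓ (T s 0 0), (ℓ (T s' 0 0))⁻¹ * x'⁆ = (γ₁ s a' : Γ) :=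
      hγ₁ _ _ s 0 0 a' b₂ (hℓ _) hk'
    have c1 : (γ₁ s' a : Γ) * ℓ (T s 0 0) = ℓ (T s 0 0) * (γ₁ s' a : Γ) :=
      hZc _ _ (hγ₁Z s' a) ⟨s, 0, 0, hℓ _⟩
    have c2 : (γ₁ s a' : Γ) * ℓ (T s' 0 0) = ℓ (T s' 0 0) * (γ₁ s a' : Γ) :=
      hZc _ _ (hγ₁Z s a') ⟨s', 0, 0, hℓ _⟩
    have key := helper67_comm_expand (ℓ (T s 0 0)) (ℓ (T s' 0 0)) ((ℓ (T s 0 0))⁻¹ * x)
      ((ℓ (T s' 0 0))⁻¹ * x') _ _ e1 e2 c1 c2
    rw [mul_inv_cancel_left, mul_inv_cancel_left] at key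
    exact key
  have hΓanti : ∀ s s', Γ₀ s s' = (Γ₀ s' s)⁻¹ := by
    intro s s'
    apply Subtype.ext
    show ⁅ℓ (T s 0 0), ℓ (T s' 0 0)⁆ = (⁅ℓ (T s' 0 0), ℓ (T s 0 0)⁆)⁻¹
    rw [commutatorElement_inv]
  -- a homomorphism killing `γ₁` is additive on `Γ₀`
  have hΓadd : ∀ f : ↥K₁ →* ↥K₁, (∀ s u, f (γ₁ s u) = 1) → ∀ s s'' s',
      f (Γ₀ (s + s'') s') = f (Γ₀ s s') * f (Γ₀ s'' s') := by
    intro f hf s s'' s'
    obtain ⟨w, hw⟩ := D.mul s 0 0 s'' 0 0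
    have e1 := hΓ₀ (ℓ (T s 0 0) * ℓ (T s'' 0 0)) (ℓ (T s' 0 0)) (s + s'') (0 + 0 + c s s'') w
      s' 0 0 (by rw [map_mul, hℓ, hℓ, hw]) (hℓ _)
    obtain ⟨u₀, v₀, hg⟩ := (hK₁mem _).1 (Γ₀ s'' s').2
    have e2 : ⁅ℓ (T s 0 0), (Γ₀ s'' s' : Γ)⁆ = (γ₁ s u₀ : Γ) :=
      hγ₁ _ _ s 0 0 u₀ v₀ (hℓ _) hg
    have e3 : ⁅ℓ (T s 0 0) * ℓ (T s'' 0 0), ℓ (T s' 0 0)⁆ =
        ((γ₁ s u₀ * Γ₀ s'' s' * Γ₀ s s' : ↥K₁) : Γ) := by
      rw [helper67_comm_mul3]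
      show ⁅ℓ (T s 0 0), (Γ₀ s'' s' : Γ)⁆ * (Γ₀ s'' s' : Γ) * (Γ₀ s s' : Γ) = _
      rw [e2]
      rfl
    have e4 : (γ₁ s' (0 + 0 + c s s''))⁻¹ * (Γ₀ (s + s'') s' * γ₁ (s + s'') 0) =
        γ₁ s u₀ * Γ₀ s'' s' * Γ₀ s s' := Subtype.ext (e1.symm.trans e3)
    have e5 := congrArg f e4
    simp only [map_mul, map_inv, hf, inv_one, one_mul, mul_one] at e5
    rw [e5, mul_comm]
  have hΓzero : ∀ f : ↥K₁ →* ↥K₁, (∀ s u, f (γ₁ s u) = 1) → ∀ s', f (Γ₀ 0 s') = 1 := by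
    intro f hf s'
    have h1 := hΓadd f hf 0 0 s'
    rw [add_zero] at h1
    exact mul_left_cancel (a := f (Γ₀ 0 s')) (by rw [← h1, mul_one])
  -- exponents
  have hγ₁9 : ∀ s u, γ₁ s u ^ 9 = 1 := by
    intro s u
    have h9 : (9 : ℕ) = 3 * 3 := by norm_num
    rw [h9, pow_mul, hγ₁cube, one_pow]
  have hP3 : ∀ s u, (powMonoidHom 3 : ↥K₁ →* ↥K₁) (γ₁ s u) = 1 := by
    intro s u
    rw [powMonoidHom_apply]
    exact hγ₁cube s u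
  have hΓ₀9 : ∀ s s', Γ₀ s s' ^ 9 = 1 := by
    intro s s'
    have a1 := hΓadd (powMonoidHom 3) hP3 s s s'
    have a2 := hΓadd (powMonoidHom 3) hP3 (s + s) s s'
    rw [hadd3, hΓzero (powMonoidHom 3) hP3, a1] at a2
    rw [powMonoidHom_apply] at a2
    calc Γ₀ s s' ^ 9 = Γ₀ s s' ^ 3 * Γ₀ s s' ^ 3 * Γ₀ s s' ^ 3 := by
          rw [← pow_add, ← pow_add]
      _ = 1 := a2.symm
  -- the torus
  choose H hH using fun ν : Kˣ => D.tor (ν : K) ν.ne_zero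
  have hconjK : ∀ (ν : Kˣ) (k : Γ), k ∈ K₁ → ℓ (H ν) * k * (ℓ (H ν))⁻¹ ∈ K₁ := by
    intro ν k hk
    obtain ⟨u, v, hw⟩ := (hK₁mem k).1 hk
    rw [hK₁mem]
    refine ⟨(ν : K) * ((ν : K) ^ e) ^ 3 * u, (ν : K) ^ 2 * ((ν : K) ^ e) ^ 3 * v, ?_⟩
    rw [map_mul, map_mul, map_inv, hℓ, hw, hH, mul_zero]
  let cj : Kˣ → (↥K₁ →* ↥K₁) := fun ν =>
    MonoidHom.mk' (fun k => ⟨ℓ (H ν) * k * (ℓ (H ν))⁻¹, hconjK ν k k.2⟩)
      (fun a b => Subtype.ext (by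
        show ℓ (H ν) * ((a : Γ) * (b : Γ)) * (ℓ (H ν))⁻¹ =
          ℓ (H ν) * (a : Γ) * (ℓ (H ν))⁻¹ * (ℓ (H ν) * (b : Γ) * (ℓ (H ν))⁻¹)
        group))
  have hcj : ∀ (ν : Kˣ) (k : ↥K₁), ((cj ν k : ↥K₁) : Γ) = ℓ (H ν) * k * (ℓ (H ν))⁻¹ :=
    fun ν k => rfl
  have hcjγ₁ : ∀ (ν : Kˣ) (s u : K), cj ν (γ₁ s u) =
      γ₁ ((ν : K) * s) ((ν : K) * ((ν : K) ^ e) ^ 3 * u) := by
    intro ν s u
    apply Subtype.ext
    rw [hcj]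
    show ℓ (H ν) * ⁅ℓ (T s 0 0), ℓ (T 0 u 0)⁆ * (ℓ (H ν))⁻¹ = _
    rw [helper51_conj_commutatorElement]
    exact hγ₁ _ _ ((ν : K) * s) ((ν : K) * ((ν : K) ^ e) ^ 3 * 0)
      ((ν : K) ^ 2 * ((ν : K) ^ e) ^ 3 * 0) ((ν : K) * ((ν : K) ^ e) ^ 3 * u) 0
      (by rw [map_mul, map_mul, map_inv, hℓ, hℓ, hH])
      (by rw [map_mul, map_mul, map_inv, hℓ, hℓ, hH]; simp only [mul_zero])
  have hcjΓ : ∀ (ν : Kˣ) (s s' : K), cj ν (Γ₀ s s') = Γ₀ ((ν : K) * s) ((ν : K) * s') := by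
    intro ν s s'
    apply Subtype.ext
    rw [hcj]
    show ℓ (H ν) * ⁅ℓ (T s 0 0), ℓ (T s' 0 0)⁆ * (ℓ (H ν))⁻¹ =
      ⁅ℓ (T ((ν : K) * s) 0 0), ℓ (T ((ν : K) * s') 0 0)⁆
    rw [helper51_conj_commutatorElement]
    apply commutatorElement_congr_of_central σ hc
    · rw [map_mul, map_mul, map_inv, hℓ, hℓ, hℓ, hH]; simp only [mul_zero]
    · rw [map_mul, map_mul, map_inv, hℓ, hℓ, hℓ, hH]; simp only [mul_zero]
  let N : ↥K₁ →* ↥K₁ := ∏ ν : Kˣ, cj ν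
  have hN : ∀ k : ↥K₁, N k = ∏ ν : Kˣ, cj ν k := fun k => MonoidHom.finsetProd_apply _ _ _
  have hNγ₁ : ∀ s u, N (γ₁ s u) = 1 := by
    intro s u
    have key := hab (fun a a' => ((N (γ₁ a a') : ↥K₁) : Γ)) ?_ ?_ ?_ s u
    · exact Subtype.ext key
    · intro a a' b
      show ((N (γ₁ (a + a') b) : ↥K₁) : Γ) = (N (γ₁ a b) : ↥K₁) * (N (γ₁ a' b) : ↥K₁)
      rw [hγ₁l, map_mul, Subgroup.coe_mul]
    · intro a b b'
      show ((N (γ₁ a (b + b')) : ↥K₁) : Γ) = (N (γ₁ a b) : ↥K₁) * (N (γ₁ a b') : ↥K₁)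
      rw [hγ₁r, map_mul, Subgroup.coe_mul]
    · intro ν a b hν0
      show ((N (γ₁ (ν * a) (ν * (ν ^ e) ^ 3 * b)) : ↥K₁) : Γ) = (N (γ₁ a b) : ↥K₁)
      congr 1
      rw [hN, hN]
      have e1 : ∀ μ : Kˣ, cj μ (γ₁ (ν * a) (ν * (ν ^ e) ^ 3 * b)) =
          cj (μ * Units.mk0 ν hν0) (γ₁ a b) := by
        intro μ
        rw [hcjγ₁, hcjγ₁]
        congr 1
        · rw [Units.val_mul, Units.val_mk0, mul_assoc]
        · rw [Units.val_mul, Units.val_mk0]; ring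
      rw [Finset.prod_congr rfl (fun μ _ => e1 μ)]
      exact Equiv.prod_comp (Equiv.mulRight (Units.mk0 ν hν0)) (fun μ => cj μ (γ₁ a b))
  have hNΓl := hΓadd N hNγ₁
  have hNΓ : ∀ s s', N (Γ₀ s s') = 1 := by
    intro s s'
    have key := hsq (fun a a' => ((N (Γ₀ a a') : ↥K₁) : Γ)) ?_ ?_ ?_ s s'
    · exact Subtype.ext key
    · intro a a' b
      show ((N (Γ₀ (a + a') b) : ↥K₁) : Γ) = (N (Γ₀ a b) : ↥K₁) * (N (Γ₀ a' b) : ↥K₁)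
      rw [hNΓl, Subgroup.coe_mul]
    · intro a b b'
      show ((N (Γ₀ a (b + b')) : ↥K₁) : Γ) = (N (Γ₀ a b) : ↥K₁) * (N (Γ₀ a b') : ↥K₁)
      rw [hΓanti a (b + b'), map_inv, hNΓl, mul_inv, ← map_inv, ← map_inv, ← hΓanti, ← hΓanti,
        Subgroup.coe_mul]
    · intro a s₁ s₂ ha0
      show ((N (Γ₀ (a ^ 2 * s₁) (a ^ 2 * s₂)) : ↥K₁) : Γ) = (N (Γ₀ s₁ s₂) : ↥K₁)
      congr 1
      rw [hN, hN]
      have ha2 : a ^ 2 ≠ 0 := pow_ne_zero 2 ha0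
      have e1 : ∀ μ : Kˣ, cj μ (Γ₀ (a ^ 2 * s₁) (a ^ 2 * s₂)) =
          cj (μ * Units.mk0 (a ^ 2) ha2) (Γ₀ s₁ s₂) := by
        intro μ
        rw [hcjΓ, hcjΓ]
        congr 1
        · rw [Units.val_mul, Units.val_mk0, mul_assoc]
        · rw [Units.val_mul, Units.val_mk0, mul_assoc]
      rw [Finset.prod_congr rfl (fun μ _ => e1 μ)]
      exact Equiv.prod_comp (Equiv.mulRight (Units.mk0 (a ^ 2) ha2)) (fun μ => cj μ (Γ₀ s₁ s₂))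
  -- the commutator subgroup lies in the kernel of `N` and has exponent 9
  have hle : ⁅P.comap σ, P.comap σ⁆ ≤
      (N.ker ⊓ (powMonoidHom 9 : ↥K₁ →* ↥K₁).ker).map K₁.subtype := by
    rw [Subgroup.commutator_le]
    intro x hx y hy
    obtain ⟨s, a, b, hxa⟩ := (hPmem x).1 hx
    obtain ⟨s', a', b', hya⟩ := (hPmem y).1 hy
    rw [hΓ₀ x y s a b s' a' b' hxa hya]
    refine Subgroup.mem_map.2 ⟨(γ₁ s' a)⁻¹ * (Γ₀ s s' * γ₁ s a'), Subgroup.mem_inf.2 ⟨?_, ?_⟩, rfl⟩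
    · rw [MonoidHom.mem_ker, map_mul, map_mul, map_inv, hNγ₁, hNγ₁, hNΓ, inv_one, one_mul,
        one_mul]
    · rw [MonoidHom.mem_ker, powMonoidHom_apply, mul_pow, mul_pow, inv_pow, hγ₁9, hγ₁9, hΓ₀9,
        inv_one, one_mul, one_mul]
  intro w hwk hw
  obtain ⟨k, hk, hkw⟩ := Subgroup.mem_map.1 (hle hw)
  obtain ⟨hk1, hk2⟩ := Subgroup.mem_inf.1 hk
  rw [MonoidHom.mem_ker] at hk1 hk2
  have hkw' : (k : Γ) = w := hkw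
  have hwc : w ∈ Subgroup.center Γ := hc hwk
  rw [Subgroup.mem_center_iff] at hwc
  have hfix : ∀ ν : Kˣ, cj ν k = k := by
    intro ν
    apply Subtype.ext
    rw [hcj, hkw', hwc (ℓ (H ν)), mul_inv_cancel_right]
  have hpow : k ^ Fintype.card Kˣ = 1 := by
    rw [← hk1, hN, Finset.prod_congr rfl (fun ν _ => hfix ν), Finset.prod_const, Finset.card_univ]
  have hk2' : k ^ 9 = 1 := hk2
  rw [Nat.card_eq_fintype_card] at hcop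
  have hcop3 : Nat.Coprime 3 (Fintype.card Kˣ) :=
    (Nat.Prime.coprime_iff_not_dvd Nat.prime_three).2 hcop
  have hcop9 : Nat.Coprime (3 ^ 2) (Fintype.card Kˣ) := Nat.Coprime.pow_left 2 hcop3
  have h1 : k ^ Nat.gcd (3 ^ 2) (Fintype.card Kˣ) = 1 := pow_gcd_eq_one.2 ⟨hk2', hpow⟩
  rw [hcop9, pow_one] at h1
  rw [← hkw', h1]
  rfl

end Cfsg.Agent.Lib.helper67.S2113
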