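import Mathlib

/-!
# S3662, piece CL: lifting a generating set through a conjugation relation

`S` generates a group of matrices acting on the span of the `X j` by conjugation through lifts in
`P`; only `1` in `P` centralizes all `X j`.  The pairs `(g, M)`, `M ∈ P`, with
`M X_j = (∑ i, g i j • X i) M` for all `j` form a subgroup of `GL ι K × GL κ K`; its first
projection contains `closure S`, and the second coordinate is unique.
-/

set_option autoImplicit false

namespace Cfsg.Agent.Lib.helper67.S3662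

variable {K ι κ : Type*} [Field K] [Fintype ι] [DecidableEq ι] [Fintype κ] [DecidableEq κ]

/-- `M ∈ P` lifts `g`: `M X_j = (∑ i, g i j • X i) M` for all `j`. -/
def ConjRel (X : ι → Matrix κ κ K) (P : Subgroup (GL κ K)) (g : GL ι K) (M : GL κ K) : Prop :=
  M ∈ P ∧ ∀ j, (M : Matrix κ κ K) * X j
    = (∑ i, (g : Matrix ι ι K) i j • X i) * (M : Matrix κ κ K)

theorem sum_one_smul (X : ι → Matrix κ κ K) (j : ι) :
    (∑ i, (1 : Matrix ι ι K) i j • X i) = X j := by
  simp [Matrix.one_apply]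

theorem conjRel_one (X : ι → Matrix κ κ K) (P : Subgroup (GL κ K)) : ConjRel X P 1 1 := by
  refine ⟨P.one_mem, fun j => ?_⟩
  rw [Units.val_one, Units.val_one, sum_one_smul, Matrix.one_mul, Matrix.mul_one]

theorem conjRel_mul {X : ι → Matrix κ κ K} {P : Subgroup (GL κ K)} {g g' : GL ι K}
    {M M' : GL κ K} (h : ConjRel X P g M) (h' : ConjRel X P g' M') :
    ConjRel X P (g * g') (M * M') := by
  refine ⟨P.mul_mem h.1 h'.1, fun j => ?_⟩
  rw [Units.val_mul, Units.val_mul, Matrix.mul_assoc, h'.2 j, ← Matrix.mul_assoc, Finset.mul_sum]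
  simp_rw [Matrix.mul_smul, h.2]
  rw [← Matrix.mul_assoc]
  congr 1
  simp_rw [Finset.sum_mul, Finset.smul_sum, Matrix.smul_mul, smul_smul, Matrix.mul_apply,
    Finset.sum_smul]
  rw [Finset.sum_comm]
  refine Finset.sum_congr rfl fun k _ => Finset.sum_congr rfl fun i _ => ?_
  rw [mul_comm]

theorem conjRel_inv {X : ι → Matrix κ κ K} {P : Subgroup (GL κ K)} {g : GL ι K}
    {M : GL κ K} (h : ConjRel X P g M) : ConjRel X P g⁻¹ M⁻¹ := by
  refine ⟨P.inv_mem h.1, fun k => ?_⟩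
  have hM1 : ((M⁻¹ : GL κ K) : Matrix κ κ K) * (M : Matrix κ κ K) = 1 := Units.inv_mul M
  have hM2 : (M : Matrix κ κ K) * ((M⁻¹ : GL κ K) : Matrix κ κ K) = 1 := Units.mul_inv M
  have hg : (g : Matrix ι ι K) * ((g⁻¹ : GL ι K) : Matrix ι ι K) = 1 := Units.mul_inv g
  -- `X j * M⁻¹ = M⁻¹ * S_j`
  have key : ∀ j, X j * ((M⁻¹ : GL κ K) : Matrix κ κ K)
      = ((M⁻¹ : GL κ K) : Matrix κ κ K) * (∑ i, (g : Matrix ι ι K) i j • X i) := by
    intro j
    calc X j * ((M⁻¹ : GL κ K) : Matrix κ κ K)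
        = ((M⁻¹ : GL κ K) : Matrix κ κ K) * ((M : Matrix κ κ K) * X j)
            * ((M⁻¹ : GL κ K) : Matrix κ κ K) := by
          rw [← Matrix.mul_assoc, hM1, Matrix.one_mul]
      _ = ((M⁻¹ : GL κ K) : Matrix κ κ K) * ((∑ i, (g : Matrix ι ι K) i j • X i)
            * (M : Matrix κ κ K)) * ((M⁻¹ : GL κ K) : Matrix κ κ K) := by rw [h.2 j]
      _ = ((M⁻¹ : GL κ K) : Matrix κ κ K) * (∑ i, (g : Matrix ι ι K) i j • X i) := by
          rw [Matrix.mul_assoc, Matrix.mul_assoc, hM2, Matrix.mul_one]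
  have key2 : (∑ j, ((g⁻¹ : GL ι K) : Matrix ι ι K) j k • (∑ i, (g : Matrix ι ι K) i j • X i))
      = X k := by
    simp_rw [Finset.smul_sum, smul_smul]
    rw [Finset.sum_comm]
    simp_rw [← Finset.sum_smul]
    have : ∀ i, (∑ j, ((g⁻¹ : GL ι K) : Matrix ι ι K) j k * (g : Matrix ι ι K) i j)
        = (1 : Matrix ι ι K) i k := by
      intro i
      rw [← hg, Matrix.mul_apply]
      exact Finset.sum_congr rfl fun j _ => mul_comm _ _
    simp_rw [this]
    exact sum_one_smul X k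
  rw [Finset.sum_mul]
  simp_rw [Matrix.smul_mul, key, ← Matrix.mul_smul]
  rw [← Finset.mul_sum, key2]

/-- PIECE CL. -/
theorem exists_conj_lift {K ι κ : Type*} [Field K] [Fintype ι] [DecidableEq ι] [Fintype κ]
    [DecidableEq κ] (X : ι → Matrix κ κ K) (S : Set (GL ι K)) (P : Subgroup (GL κ K))
    (hS : ∀ g ∈ S, ∃ M ∈ P, ∀ j, (M : Matrix κ κ K) * X j
      = (∑ i, (g : Matrix ι ι K) i j • X i) * (M : Matrix κ κ K))
    (huniq : ∀ M ∈ P, (∀ j, (M : Matrix κ κ K) * X j = X j * (M : Matrix κ κ K)) → M = 1) :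
    ∃ ρ : ↥(Subgroup.closure S) →* ↥P, ∀ (g : ↥(Subgroup.closure S)) (j : ι),
      (((ρ g : ↥P) : GL κ K) : Matrix κ κ K) * X j
        = (∑ i, ((g : GL ι K) : Matrix ι ι K) i j • X i)
          * (((ρ g : ↥P) : GL κ K) : Matrix κ κ K) := by
  classical
  let T : Subgroup (GL ι K) :=
    { carrier := {g | ∃ M, ConjRel X P g M}
      one_mem' := ⟨1, conjRel_one X P⟩
      mul_mem' := by
        rintro g g' ⟨M, h⟩ ⟨M', h'⟩
        exact ⟨M * M', conjRel_mul h h'⟩
      inv_mem' := by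
        rintro g ⟨M, h⟩
        exact ⟨M⁻¹, conjRel_inv h⟩ }
  have hST : Subgroup.closure S ≤ T := by
    rw [Subgroup.closure_le]
    intro g hg
    obtain ⟨M, hM, h⟩ := hS g hg
    exact ⟨M, hM, h⟩
  have huni : ∀ (g : GL ι K) (M M' : GL κ K), ConjRel X P g M → ConjRel X P g M' → M = M' := by
    intro g M M' h h'
    have h1 := conjRel_mul (conjRel_inv h) h'
    rw [inv_mul_cancel] at h1
    have h2 := huniq (M⁻¹ * M') h1.1 (fun j => by
      have := h1.2 j
      rwa [Units.val_one, sum_one_smul] at this)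
    exact inv_mul_eq_one.mp h2
  choose f hf using fun g : ↥(Subgroup.closure S) => hST g.2
  refine ⟨{ toFun := fun g => ⟨f g, (hf g).1⟩, map_one' := ?_, map_mul' := ?_ },
    fun g j => (hf g).2 j⟩
  · apply Subtype.ext
    exact huni 1 _ _ (hf 1) (conjRel_one X P)
  · intro g g'
    apply Subtype.ext
    exact huni _ _ _ (hf (g * g')) (conjRel_mul (hf g) (hf g'))

end Cfsg.Agent.Lib.helper67.S3662
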