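import Mathlib
import Cfsg.Agent.Lib.helper26.S4409Defs

/-!
S4409 split (helper26), piece KFN1 (racer copy by helper67): in a 2-group without abelian
noncyclic subgroups of order 8, the centralizer of a noncentral-type involution `t` (with a
central involution `z ≠ t`) has order 4.
-/

set_option autoImplicit false

namespace Cfsg.Agent.Lib.helper26.S4409

/-- The four-group generated by two distinct commuting involutions. -/
theorem h67_kfn1_V {Q : Type*} [Group Q] [Finite Q] (t z : Q) (ht : t * t = 1) (hz : z * z = 1)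
    (hc : z * t = t * z) (ht1 : t ≠ 1) (hz1 : z ≠ 1) (htz : t ≠ z) :
    ∃ V : Subgroup Q, Nat.card ↥V = 4 ∧ t ∈ V ∧ z ∈ V ∧
      ∀ x ∈ V, x = 1 ∨ x = t ∨ x = z ∨ x = t * z := by
  have ht' : ∀ w, t * (t * w) = w := fun w => by rw [← mul_assoc, ht, one_mul]
  have hz' : ∀ w, z * (z * w) = w := fun w => by rw [← mul_assoc, hz, one_mul]
  have hc' : ∀ w, z * (t * w) = t * (z * w) := fun w => by rw [← mul_assoc, hc, mul_assoc]
  have hti : t⁻¹ = t := inv_eq_of_mul_eq_one_right ht
  have hzi : z⁻¹ = z := inv_eq_of_mul_eq_one_right hz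
  let V : Subgroup Q :=
    { carrier := {1, t, z, t * z}
      mul_mem' := by
        rintro x y (rfl | rfl | rfl | rfl) (rfl | rfl | rfl | rfl) <;>
          simp [mul_assoc, ht, hz, hc, ht', hc']
      one_mem' := by simp
      inv_mem' := by
        rintro x (rfl | rfl | rfl | rfl) <;> simp [hti, hzi, hc] }
  refine ⟨V, ?_, ?_, ?_, fun x hx => hx⟩
  · have h1 : (1 : Q) ∉ ({t, z, t * z} : Set Q) := by
      simp only [Set.mem_insert_iff, Set.mem_singleton_iff, not_or]
      refine ⟨fun h => ht1 h.symm, fun h => hz1 h.symm, fun h => ?_⟩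
      apply htz
      have : t = z⁻¹ := eq_inv_of_mul_eq_one_left h.symm
      rw [this, hzi]
    have h2 : t ∉ ({z, t * z} : Set Q) := by
      simp only [Set.mem_insert_iff, Set.mem_singleton_iff, not_or]
      refine ⟨htz, fun h => hz1 ?_⟩
      have : t * 1 = t * z := by rw [mul_one]; exact h
      exact (mul_left_cancel this).symm
    have h3 : z ∉ ({t * z} : Set Q) := by
      simp only [Set.mem_singleton_iff]
      intro h
      have : 1 * z = t * z := by rw [one_mul]; exact h
      exact ht1 (mul_right_cancel this).symm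
    show Nat.card (↥({1, t, z, t * z} : Set Q)) = 4
    rw [Nat.card_coe_set_eq, Set.ncard_insert_of_notMem h1, Set.ncard_insert_of_notMem h2,
      Set.ncard_insert_of_notMem h3, Set.ncard_singleton]
  · show t ∈ ({1, t, z, t * z} : Set Q)
    simp
  · show z ∈ ({1, t, z, t * z} : Set Q)
    simp

/-- An abelian subgroup of order 8 containing two given distinct central involutions. -/
theorem h67_kfn1_K {Q : Type*} [Group Q] [Finite Q] (t z : Q) (ht : t * t = 1) (hz : z * z = 1)
    (htc : t ∈ Subgroup.center Q) (hzc : z ∈ Subgroup.center Q) (ht1 : t ≠ 1) (hz1 : z ≠ 1)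
    (htz : t ≠ z) (h8 : 8 ∣ Nat.card Q) :
    ∃ K : Subgroup Q, Nat.card ↥K = 8 ∧ (∀ a ∈ K, ∀ b ∈ K, a * b = b * a) ∧ t ∈ K ∧ z ∈ K := by
  obtain ⟨V, hV4, htV, hzV, hVel⟩ :=
    h67_kfn1_V t z ht hz (Subgroup.mem_center_iff.mp htc z) ht1 hz1 htz
  haveI : Fact (Nat.Prime 2) := ⟨Nat.prime_two⟩
  obtain ⟨K, hK8, hVK⟩ := Sylow.exists_subgroup_card_pow_prime_le 2 (n := 2) (m := 3)
    (by norm_num; exact h8) V (by rw [hV4]; norm_num) (by norm_num)
  have hK8' : Nat.card ↥K = 8 := by rw [hK8]; norm_num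
  refine ⟨K, hK8', ?_, hVK htV, hVK hzV⟩
  have hVc : V ≤ Subgroup.center Q := by
    intro x hx
    rcases hVel x hx with rfl | rfl | rfl | rfl
    · exact Subgroup.one_mem _
    · exact htc
    · exact hzc
    · exact Subgroup.mul_mem _ htc hzc
  have hVZ : V.subgroupOf K ≤ Subgroup.center ↥K := by
    intro x hx
    rw [Subgroup.mem_subgroupOf] at hx
    rw [Subgroup.mem_center_iff]
    intro g
    apply Subtype.ext
    exact Subgroup.mem_center_iff.mp (hVc hx) g
  have hW4 : Nat.card ↥(V.subgroupOf K) = 4 := by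
    rw [← hV4]
    exact Nat.card_congr (Subgroup.subgroupOfEquivOfLe hVK).toEquiv
  have hd1 : 4 ∣ Nat.card ↥(Subgroup.center ↥K) := hW4 ▸ Subgroup.card_dvd_of_le hVZ
  have hd2 : Nat.card ↥(Subgroup.center ↥K) ∣ 8 := hK8' ▸ Subgroup.card_subgroup_dvd_card _
  have hidx := Subgroup.index_mul_card (Subgroup.center ↥K)
  rw [hK8'] at hidx
  have hq : Nat.card (↥K ⧸ Subgroup.center ↥K) = (Subgroup.center ↥K).index := rfl
  have hcyc : IsCyclic (↥K ⧸ Subgroup.center ↥K) := by
    have hle : Nat.card ↥(Subgroup.center ↥K) ≤ 8 := Nat.le_of_dvd (by norm_num) hd2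
    have hge : 4 ≤ Nat.card ↥(Subgroup.center ↥K) := Nat.le_of_dvd Nat.card_pos hd1
    generalize Nat.card ↥(Subgroup.center ↥K) = c at hd1 hd2 hidx hle hge
    have hc48 : c = 4 ∨ c = 8 := by
      interval_cases c <;> simp_all
    rcases hc48 with rfl | rfl
    · have : (Subgroup.center ↥K).index = 2 := by omega
      exact isCyclic_of_prime_card (p := 2) (hq.trans this)
    · have : (Subgroup.center ↥K).index = 1 := by omega
      haveI : Subsingleton (↥K ⧸ Subgroup.center ↥K) :=
        (Nat.card_eq_one_iff_unique.mp (hq.trans this)).1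
      exact isCyclic_of_subsingleton
  intro a ha b hb
  have hKcomm : IsMulCommutative ↥K :=
    MonoidHom.isMulCommutative_of_isCyclic_of_ker_le_center
      (QuotientGroup.mk' (Subgroup.center ↥K)) (by rw [QuotientGroup.ker_mk'])
  exact congrArg Subtype.val (hKcomm.is_comm.comm (⟨a, ha⟩ : ↥K) ⟨b, hb⟩)

theorem h67_kfn1 {P : Type*} [Group P] [Finite P] (hP : IsPGroup 2 P)
    (hN : ∀ A : Subgroup P, IsMulCommutative ↥A → Nat.card ↥A = 8 → IsCyclic ↥A)
    (t z : P) (ht : orderOf t = 2) (hz : orderOf z = 2) (hzc : z ∈ Subgroup.center P)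
    (htz : t ∉ Subgroup.zpowers z) : Nat.card ↥(Subgroup.centralizer ({t} : Set P)) = 4 := by
  haveI : Fact (Nat.Prime 2) := ⟨Nat.prime_two⟩
  have ht2 : t * t = 1 := by rw [← pow_two, ← ht, pow_orderOf_eq_one]
  have hz2 : z * z = 1 := by rw [← pow_two, ← hz, pow_orderOf_eq_one]
  have ht1 : t ≠ 1 := by intro h; rw [h, orderOf_one] at ht; omega
  have hz1 : z ≠ 1 := by intro h; rw [h, orderOf_one] at hz; omega
  have htz' : t ≠ z := fun h => htz (h ▸ Subgroup.mem_zpowers z)
  have htC : t ∈ Subgroup.centralizer ({t} : Set P) := by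
    rw [Subgroup.mem_centralizer_iff]; intro x hx; rw [Set.mem_singleton_iff.mp hx]
  have hzC : z ∈ Subgroup.centralizer ({t} : Set P) := by
    rw [Subgroup.mem_centralizer_iff]; intro x hx
    exact Subgroup.mem_center_iff.mp hzc x
  have ht'c : (⟨t, htC⟩ : ↥(Subgroup.centralizer ({t} : Set P))) ∈
      Subgroup.center ↥(Subgroup.centralizer ({t} : Set P)) := by
    rw [Subgroup.mem_center_iff]; intro g
    apply Subtype.ext
    exact (Subgroup.mem_centralizer_iff.mp g.2 t (Set.mem_singleton t)).symm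
  have hz'c : (⟨z, hzC⟩ : ↥(Subgroup.centralizer ({t} : Set P))) ∈
      Subgroup.center ↥(Subgroup.centralizer ({t} : Set P)) := by
    rw [Subgroup.mem_center_iff]; intro g
    apply Subtype.ext
    exact Subgroup.mem_center_iff.mp hzc g
  have ht'2 : (⟨t, htC⟩ : ↥(Subgroup.centralizer ({t} : Set P))) * ⟨t, htC⟩ = 1 :=
    Subtype.ext ht2
  have hz'2 : (⟨z, hzC⟩ : ↥(Subgroup.centralizer ({t} : Set P))) * ⟨z, hzC⟩ = 1 :=
    Subtype.ext hz2
  have ht'1 : (⟨t, htC⟩ : ↥(Subgroup.centralizer ({t} : Set P))) ≠ 1 :=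
    fun h => ht1 (congrArg Subtype.val h)
  have hz'1 : (⟨z, hzC⟩ : ↥(Subgroup.centralizer ({t} : Set P))) ≠ 1 :=
    fun h => hz1 (congrArg Subtype.val h)
  have ht'z' : (⟨t, htC⟩ : ↥(Subgroup.centralizer ({t} : Set P))) ≠ ⟨z, hzC⟩ :=
    fun h => htz' (congrArg Subtype.val h)
  obtain ⟨n, hn⟩ := (hP.to_subgroup (Subgroup.centralizer ({t} : Set P))).exists_card_eq
  obtain ⟨V, hV4, -, -, -⟩ := h67_kfn1_V _ _ ht'2 hz'2
    (Subgroup.mem_center_iff.mp ht'c _) ht'1 hz'1 ht'z'
  have h4 : 4 ∣ Nat.card ↥(Subgroup.centralizer ({t} : Set P)) :=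
    hV4 ▸ Subgroup.card_subgroup_dvd_card V
  have h8 : ¬ 8 ∣ Nat.card ↥(Subgroup.centralizer ({t} : Set P)) := by
    intro h8
    obtain ⟨K, hK8, hKc, htK, hzK⟩ :=
      h67_kfn1_K _ _ ht'2 hz'2 ht'c hz'c ht'1 hz'1 ht'z' h8
    have hA8 : Nat.card ↥(K.map (Subgroup.centralizer ({t} : Set P)).subtype) = 8 := by
      rw [← hK8]
      exact Nat.card_congr (K.equivMapOfInjective _
        (Subgroup.centralizer ({t} : Set P)).subtype_injective).symm.toEquiv
    have hAc : IsMulCommutative ↥(K.map (Subgroup.centralizer ({t} : Set P)).subtype) := by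
      refine ⟨⟨fun a b => ?_⟩⟩
      obtain ⟨a', ha', hae⟩ := a.2
      obtain ⟨b', hb', hbe⟩ := b.2
      apply Subtype.ext
      show (a : P) * (b : P) = (b : P) * (a : P)
      rw [← hae, ← hbe]
      exact congrArg Subtype.val (hKc a' ha' b' hb')
    have hcyc := hN _ hAc hA8
    classical
    haveI : Fintype ↥(K.map (Subgroup.centralizer ({t} : Set P)).subtype) := Fintype.ofFinite _
    have hle := IsCyclic.card_pow_eq_one_le
      (α := ↥(K.map (Subgroup.centralizer ({t} : Set P)).subtype)) (n := 2) (by norm_num)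
    have htA : t ∈ K.map (Subgroup.centralizer ({t} : Set P)).subtype := ⟨_, htK, rfl⟩
    have hzA : z ∈ K.map (Subgroup.centralizer ({t} : Set P)).subtype := ⟨_, hzK, rfl⟩
    have h3 : 2 < (Finset.univ.filter
        fun a : ↥(K.map (Subgroup.centralizer ({t} : Set P)).subtype) => a ^ 2 = 1).card := by
      rw [Finset.two_lt_card_iff]
      refine ⟨1, ⟨t, htA⟩, ⟨z, hzA⟩, ?_, ?_, ?_, ?_, ?_, ?_⟩
      · simp
      · simp only [Finset.mem_filter, Finset.mem_univ, true_and]
        apply Subtype.ext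
        simp [pow_two, ht2]
      · simp only [Finset.mem_filter, Finset.mem_univ, true_and]
        apply Subtype.ext
        simp [pow_two, hz2]
      · intro h; exact ht1 (congrArg Subtype.val h).symm
      · intro h; exact hz1 (congrArg Subtype.val h).symm
      · intro h; exact htz' (congrArg Subtype.val h)
    omega
  rw [hn] at h4 h8 ⊢
  have h2n : 2 ≤ n := (Nat.pow_dvd_pow_iff_le_right (by norm_num : 1 < 2)).mp (by simpa using h4)
  have hn3 : ¬ 3 ≤ n := fun h => h8 (by
    have h' : 2 ^ 3 ∣ 2 ^ n := Nat.pow_dvd_pow 2 h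
    exact h')
  have : n = 2 := by omega
  rw [this]
  norm_num

end Cfsg.Agent.Lib.helper26.S4409
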