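import Mathlib
import Cfsg.Agent.Lib.helper89.S60Defs

/-!
# S6000 piece AFR (`s60_frame4`), helper67 racer copy (`h67_s60_frame4`)
-/

set_option autoImplicit false

namespace Cfsg.Agent.Lib.helper89.S60

open Matrix Cfsg Cfsg.Geo

/-- sign-commutation: `a * b = e • (b * a)`. -/
def h67Sc {F : Type*} [Field F] (e : F) (a b : Matrix (Fin 4) (Fin 4) F) : Prop :=
  a * b = e • (b * a)

theorem h67_sc_of_comm {F : Type*} [Field F] {a b : Matrix (Fin 4) (Fin 4) F} (h : a * b = b * a) :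
    h67Sc 1 a b := by
  unfold h67Sc
  rw [one_smul]
  exact h

theorem h67_sc_of_anti {F : Type*} [Field F] {a b : Matrix (Fin 4) (Fin 4) F}
    (h : a * b = -(b * a)) : h67Sc (-1) a b := by
  unfold h67Sc
  rw [neg_smul, one_smul]
  exact h

theorem h67_sc_to_comm {F : Type*} [Field F] {a b : Matrix (Fin 4) (Fin 4) F} (h : h67Sc 1 a b) :
    a * b = b * a := by
  unfold h67Sc at h
  rw [one_smul] at h
  exact h

theorem h67_sc_to_anti {F : Type*} [Field F] {a b : Matrix (Fin 4) (Fin 4) F}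
    (h : h67Sc (-1) a b) : a * b = -(b * a) := by
  unfold h67Sc at h
  rw [neg_smul, one_smul] at h
  exact h

theorem h67_sc_refl {F : Type*} [Field F] (a : Matrix (Fin 4) (Fin 4) F) : h67Sc 1 a a :=
  h67_sc_of_comm rfl

theorem h67_sc_cast {F : Type*} [Field F] {e e' : F} {a b : Matrix (Fin 4) (Fin 4) F}
    (h : h67Sc e a b) (he : e = e') : h67Sc e' a b := by
  subst he
  exact h

theorem h67_sc_mul_right {F : Type*} [Field F] {e e' : F} {a b c : Matrix (Fin 4) (Fin 4) F}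
    (h1 : h67Sc e a b) (h2 : h67Sc e' a c) : h67Sc (e * e') a (b * c) := by
  unfold h67Sc at *
  rw [← mul_assoc, h1, smul_mul_assoc, mul_assoc, h2, mul_smul_comm, smul_smul, mul_assoc]

theorem h67_sc_mul_left {F : Type*} [Field F] {e e' : F} {a b c : Matrix (Fin 4) (Fin 4) F}
    (h1 : h67Sc e a c) (h2 : h67Sc e' b c) : h67Sc (e * e') (a * b) c := by
  unfold h67Sc at *
  rw [mul_assoc, h2, mul_smul_comm, ← mul_assoc, h1, smul_mul_assoc, smul_smul, mul_assoc,
    mul_comm e' e]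

theorem h67_sc_symm {F : Type*} [Field F] {e : F} {a b : Matrix (Fin 4) (Fin 4) F}
    (h : h67Sc e a b) (he : e * e = 1) : h67Sc e b a := by
  unfold h67Sc at *
  rw [h, smul_smul, he, one_smul]

theorem h67_sc_smul_left {F : Type*} [Field F] {e : F} (k : F) {a b : Matrix (Fin 4) (Fin 4) F}
    (h : h67Sc e a b) : h67Sc e (k • a) b := by
  unfold h67Sc at *
  rw [smul_mul_assoc, h, mul_smul_comm, smul_comm]

theorem h67_sc_smul_right {F : Type*} [Field F] {e : F} (k : F) {a b : Matrix (Fin 4) (Fin 4) F}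
    (h : h67Sc e a b) : h67Sc e a (k • b) := by
  unfold h67Sc at *
  rw [mul_smul_comm, h, smul_mul_assoc, smul_comm]

/-- A subgroup of `R` consisting of scalars (which are `±1, ±w`) has at most 4 elements. -/
theorem h67_s60_afr_card_le {F : Type*} [Field F] (R : Subgroup (GL (Fin 4) F)) (w : F) [Finite R]
    (h4 : ∀ s ∈ R, ∀ c : F, (s : Matrix (Fin 4) (Fin 4) F) = c • (1 : Matrix (Fin 4) (Fin 4) F) →
      c = 1 ∨ c = -1 ∨ c = w ∨ c = -w)
    (A : Subgroup R)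
    (hA : ∀ a ∈ A, ∃ c : F, ((a : GL (Fin 4) F) : Matrix (Fin 4) (Fin 4) F) =
      c • (1 : Matrix (Fin 4) (Fin 4) F)) : Nat.card A ≤ 4 := by
  classical
  haveI : Fintype A := Fintype.ofFinite A
  choose f hf using (fun a : A => hA a.1 a.2)
  have hinj : Function.Injective f := by
    intro a b hab
    apply Subtype.ext
    apply Subtype.ext
    apply Units.ext
    rw [hf a, hf b, hab]
  have himg : ∀ a ∈ (Finset.univ : Finset A), f a ∈ ({1, -1, w, -w} : Finset F) := by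
    intro a _
    have h := h4 a.1.1 a.1.2 (f a) (hf a)
    simp only [Finset.mem_insert, Finset.mem_singleton]
    exact h
  have h1 := Finset.card_le_card_of_injOn f himg (fun a _ b _ hab => hinj hab)
  rw [Finset.card_univ] at h1
  rw [Nat.card_eq_fintype_card]
  exact h1.trans Finset.card_le_four

/-- Counting: a non-scalar element of `R` commuting with `t0` and `t1`. -/
theorem h67_s60_afr_cnt {F : Type*} [Field F] (R : Subgroup (GL (Fin 4) F)) (w : F)
    (hcard : Nat.card R = 64)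
    (h4 : ∀ s ∈ R, ∀ c : F, (s : Matrix (Fin 4) (Fin 4) F) = c • (1 : Matrix (Fin 4) (Fin 4) F) →
      c = 1 ∨ c = -1 ∨ c = w ∨ c = -w)
    (hcomm : ∀ s ∈ R, ∀ t ∈ R, (s : Matrix (Fin 4) (Fin 4) F) * (t : Matrix (Fin 4) (Fin 4) F) = (t : Matrix (Fin 4) (Fin 4) F) * (s : Matrix (Fin 4) (Fin 4) F) ∨ (s : Matrix (Fin 4) (Fin 4) F) * (t : Matrix (Fin 4) (Fin 4) F) = -((t : Matrix (Fin 4) (Fin 4) F) * (s : Matrix (Fin 4) (Fin 4) F)))
    (t0 : GL (Fin 4) F) (ht0 : t0 ∈ R) (t1 : GL (Fin 4) F) (ht1 : t1 ∈ R) :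
    ∃ c ∈ R, (c : Matrix (Fin 4) (Fin 4) F) * (t0 : Matrix (Fin 4) (Fin 4) F) = (t0 : Matrix (Fin 4) (Fin 4) F) * (c : Matrix (Fin 4) (Fin 4) F) ∧
      (c : Matrix (Fin 4) (Fin 4) F) * (t1 : Matrix (Fin 4) (Fin 4) F) = (t1 : Matrix (Fin 4) (Fin 4) F) * (c : Matrix (Fin 4) (Fin 4) F) ∧
      ∀ z : F, (c : Matrix (Fin 4) (Fin 4) F) ≠ z • (1 : Matrix (Fin 4) (Fin 4) F) := by
  classical
  haveI : Finite R := Nat.finite_of_card_ne_zero (by rw [hcard]; norm_num)
  have hmem : ∀ x g : R, g ∈ Subgroup.centralizer ({x} : Set R) ↔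
      ((x : GL (Fin 4) F) : Matrix (Fin 4) (Fin 4) F) * ((g : GL (Fin 4) F) : Matrix (Fin 4) (Fin 4) F) =
      ((g : GL (Fin 4) F) : Matrix (Fin 4) (Fin 4) F) * ((x : GL (Fin 4) F) : Matrix (Fin 4) (Fin 4) F) := by
    intro x g
    rw [Subgroup.mem_centralizer_iff]
    constructor
    · intro h
      have h' := h x (Set.mem_singleton x)
      have h'' := congrArg (fun u : R => ((u : GL (Fin 4) F) : Matrix (Fin 4) (Fin 4) F)) h'
      simpa using h''
    · intro h y hy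
      rw [Set.mem_singleton_iff] at hy
      subst hy
      apply Subtype.ext
      apply Units.ext
      simpa using h
  have hidx : ∀ x : R, (Subgroup.centralizer ({x} : Set R)).index ≤ 2 := by
    intro x
    by_cases hA : Subgroup.centralizer ({x} : Set R) = ⊤
    · rw [hA, Subgroup.index_top]
      norm_num
    · obtain ⟨a, ha⟩ : ∃ a, a ∉ Subgroup.centralizer ({x} : Set R) := by
        by_contra hcon
        simp only [not_exists, not_not] at hcon
        exact hA (eq_top_iff.mpr (fun y _ => hcon y))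
      have h2 : (Subgroup.centralizer ({x} : Set R)).index = 2 := by
        rw [Subgroup.index_eq_two_iff]
        refine ⟨a, fun b => ?_⟩
        by_cases hb : b ∈ Subgroup.centralizer ({x} : Set R)
        · exact Or.inr ⟨hb, fun hba => ha ((mul_mem_cancel_left hb).mp hba)⟩
        · refine Or.inl ⟨?_, hb⟩
          rw [hmem] at ha hb ⊢
          have ha' : ((x : GL (Fin 4) F) : Matrix (Fin 4) (Fin 4) F) * ((a : GL (Fin 4) F) : Matrix (Fin 4) (Fin 4) F) =
              -(((a : GL (Fin 4) F) : Matrix (Fin 4) (Fin 4) F) * ((x : GL (Fin 4) F) : Matrix (Fin 4) (Fin 4) F)) := by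
            rcases hcomm x x.2 a a.2 with h | h
            · exact absurd h ha
            · exact h
          have hb' : ((x : GL (Fin 4) F) : Matrix (Fin 4) (Fin 4) F) * ((b : GL (Fin 4) F) : Matrix (Fin 4) (Fin 4) F) =
              -(((b : GL (Fin 4) F) : Matrix (Fin 4) (Fin 4) F) * ((x : GL (Fin 4) F) : Matrix (Fin 4) (Fin 4) F)) := by
            rcases hcomm x x.2 b b.2 with h | h
            · exact absurd h hb
            · exact h
          simp only [Subgroup.coe_mul, Units.val_mul]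
          rw [← mul_assoc, hb', neg_mul, mul_assoc, ha', mul_neg, neg_neg, mul_assoc]
      rw [h2]
  have hCi : (Subgroup.centralizer ({(⟨t0, ht0⟩ : R)} : Set R) ⊓
      Subgroup.centralizer ({(⟨t1, ht1⟩ : R)} : Set R)).index ≤ 4 := by
    calc (Subgroup.centralizer ({(⟨t0, ht0⟩ : R)} : Set R) ⊓
          Subgroup.centralizer ({(⟨t1, ht1⟩ : R)} : Set R)).index
        ≤ (Subgroup.centralizer ({(⟨t0, ht0⟩ : R)} : Set R)).index *
          (Subgroup.centralizer ({(⟨t1, ht1⟩ : R)} : Set R)).index := Subgroup.index_inf_le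
      _ ≤ 2 * 2 := Nat.mul_le_mul (hidx _) (hidx _)
  have hCc := Subgroup.card_mul_index (Subgroup.centralizer ({(⟨t0, ht0⟩ : R)} : Set R) ⊓
      Subgroup.centralizer ({(⟨t1, ht1⟩ : R)} : Set R))
  rw [hcard] at hCc
  by_contra hcon
  have hle : Nat.card (Subgroup.centralizer ({(⟨t0, ht0⟩ : R)} : Set R) ⊓
      Subgroup.centralizer ({(⟨t1, ht1⟩ : R)} : Set R) : Subgroup R) ≤ 4 := by
    apply h67_s60_afr_card_le R w h4
    intro a ha
    rw [Subgroup.mem_inf, hmem, hmem] at ha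
    by_contra hns
    exact hcon ⟨a.1, a.2, ha.1.symm, ha.2.symm, fun z hz => hns ⟨z, hz⟩⟩
  have h16 := Nat.mul_le_mul hle hCi
  omega

/-- AFR (L). Four pairwise anticommuting involutions. -/
theorem h67_s60_frame4 {F : Type*} [Field F] [Fintype F] (h2 : (2 : F) ≠ 0) (R : Subgroup (GL (Fin 4) F)) (w : F) (hw : w * w = -1) (hwR : ∃ z ∈ R, (z : Matrix (Fin 4) (Fin 4) F) = w • (1 : Matrix (Fin 4) (Fin 4) F))
    (hschur : ∀ y : Matrix (Fin 4) (Fin 4) F, (∀ s ∈ R, y * (s : Matrix (Fin 4) (Fin 4) F) = (s : Matrix (Fin 4) (Fin 4) F) * y) → ∃ c : F, y = c • (1 : Matrix (Fin 4) (Fin 4) F))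
    (hscal : ∀ s ∈ R, ∀ c : F, (s : Matrix (Fin 4) (Fin 4) F) = c • (1 : Matrix (Fin 4) (Fin 4) F) → c ^ 4 = 1)
    (hsq : ∀ s ∈ R, (s : Matrix (Fin 4) (Fin 4) F) * (s : Matrix (Fin 4) (Fin 4) F) = 1 ∨ (s : Matrix (Fin 4) (Fin 4) F) * (s : Matrix (Fin 4) (Fin 4) F) = -1)
    (hcomm : ∀ s ∈ R, ∀ t ∈ R, (s : Matrix (Fin 4) (Fin 4) F) * (t : Matrix (Fin 4) (Fin 4) F) = (t : Matrix (Fin 4) (Fin 4) F) * (s : Matrix (Fin 4) (Fin 4) F) ∨ (s : Matrix (Fin 4) (Fin 4) F) * (t : Matrix (Fin 4) (Fin 4) F) = -((t : Matrix (Fin 4) (Fin 4) F) * (s : Matrix (Fin 4) (Fin 4) F)))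
    (hcard : Nat.card R = 64) :
    ∃ t : Fin 4 → GL (Fin 4) F, (∀ j, t j ∈ R) ∧ (∀ j, (t j : Matrix (Fin 4) (Fin 4) F) * (t j : Matrix (Fin 4) (Fin 4) F) = 1) ∧
      ∀ j k, j ≠ k → (t j : Matrix (Fin 4) (Fin 4) F) * (t k : Matrix (Fin 4) (Fin 4) F) = -((t k : Matrix (Fin 4) (Fin 4) F) * (t j : Matrix (Fin 4) (Fin 4) F)) := by
  classical
  haveI : Finite R := Nat.finite_of_card_ne_zero (by rw [hcard]; norm_num)
  obtain ⟨z, hzR, hz⟩ := hwR
  have hm1 : (-1 : F) * (-1) = 1 := by ring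
  have h4 : ∀ s ∈ R, ∀ c : F, (s : Matrix (Fin 4) (Fin 4) F) = c • (1 : Matrix (Fin 4) (Fin 4) F) →
      c = 1 ∨ c = -1 ∨ c = w ∨ c = -w := by
    intro s hs c hc
    have h := hscal s hs c hc
    have hfac : (c - 1) * (c + 1) * (c - w) * (c + w) = 0 := by
      linear_combination h - (c ^ 2 - 1) * hw
    rcases mul_eq_zero.mp hfac with h' | h'
    · rcases mul_eq_zero.mp h' with h' | h'
      · rcases mul_eq_zero.mp h' with h' | h'
        · left
          linear_combination h'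
        · right; left
          linear_combination h'
      · right; right; left
        linear_combination h'
    · right; right; right
      linear_combination h'
  have hex0 : ∃ s0 ∈ R, ∀ c : F, (s0 : Matrix (Fin 4) (Fin 4) F) ≠ c • (1 : Matrix (Fin 4) (Fin 4) F) := by
    by_contra hcon
    have hle := h67_s60_afr_card_le R w h4 ⊤ (fun a _ => by
      by_contra hns
      exact hcon ⟨a.1, a.2, fun c hc => hns ⟨c, hc⟩⟩)
    rw [Subgroup.card_top, hcard] at hle
    omega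
  have hanti : ∀ s ∈ R, (∀ c : F, (s : Matrix (Fin 4) (Fin 4) F) ≠ c • (1 : Matrix (Fin 4) (Fin 4) F)) →
      ∃ t ∈ R, h67Sc (-1) (s : Matrix (Fin 4) (Fin 4) F) (t : Matrix (Fin 4) (Fin 4) F) := by
    intro s hs hns
    by_contra hcon
    obtain ⟨c, hc⟩ := hschur (s : Matrix (Fin 4) (Fin 4) F) (fun t ht => by
      rcases hcomm s hs t ht with h | h
      · exact h
      · exact absurd ⟨t, ht, h67_sc_of_anti h⟩ hcon)
    exact hns c hc
  have hinv : ∀ s ∈ R, ∃ s' ∈ R, (s' : Matrix (Fin 4) (Fin 4) F) * (s' : Matrix (Fin 4) (Fin 4) F) = 1 ∧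
      ∃ k : F, (s' : Matrix (Fin 4) (Fin 4) F) = k • (s : Matrix (Fin 4) (Fin 4) F) := by
    intro s hs
    rcases hsq s hs with h | h
    · exact ⟨s, hs, h, 1, (one_smul _ _).symm⟩
    · refine ⟨z * s, R.mul_mem hzR hs, ?_, w, ?_⟩
      · rw [Units.val_mul, hz]
        simp only [smul_mul_assoc, mul_smul_comm, one_mul, smul_smul, h, hw]
        simp
      · rw [Units.val_mul, hz, smul_mul_assoc, one_mul]
  obtain ⟨s0, hs0R, hs0⟩ := hex0
  obtain ⟨s1, hs1R, hs01⟩ := hanti s0 hs0R hs0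
  obtain ⟨t0, ht0R, ht0sq, k0, ht0⟩ := hinv s0 hs0R
  obtain ⟨t1, ht1R, ht1sq, k1, ht1⟩ := hinv s1 hs1R
  have h01 : h67Sc (-1) (t0 : Matrix (Fin 4) (Fin 4) F) (t1 : Matrix (Fin 4) (Fin 4) F) := by
    rw [ht0, ht1]
    exact h67_sc_smul_left k0 (h67_sc_smul_right k1 hs01)
  have h10 := h67_sc_symm h01 hm1
  obtain ⟨c0, hc0R, hc0t0, hc0t1, hc0ns⟩ := h67_s60_afr_cnt R w hcard h4 hcomm t0 ht0R t1 ht1R
  obtain ⟨g, hgR, hc0g⟩ := hanti c0 hc0R hc0ns
  -- adjust g into the centralizer of t0, t1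
  have hadj : ∃ u ∈ R, h67Sc 1 (c0 : Matrix (Fin 4) (Fin 4) F) (u : Matrix (Fin 4) (Fin 4) F) ∧
      h67Sc 1 ((g : Matrix (Fin 4) (Fin 4) F) * (u : Matrix (Fin 4) (Fin 4) F)) (t0 : Matrix (Fin 4) (Fin 4) F) ∧
      h67Sc 1 ((g : Matrix (Fin 4) (Fin 4) F) * (u : Matrix (Fin 4) (Fin 4) F)) (t1 : Matrix (Fin 4) (Fin 4) F) := by
    have hc0t0' := h67_sc_of_comm hc0t0
    have hc0t1' := h67_sc_of_comm hc0t1
    rcases hcomm g hgR t0 ht0R with hg0 | hg0 <;> rcases hcomm g hgR t1 ht1R with hg1 | hg1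
    · refine ⟨1, R.one_mem, ?_, ?_, ?_⟩
      · rw [Units.val_one]
        exact h67_sc_of_comm (by rw [mul_one, one_mul])
      · rw [Units.val_one, mul_one]
        exact h67_sc_of_comm hg0
      · rw [Units.val_one, mul_one]
        exact h67_sc_of_comm hg1
    · refine ⟨t0, ht0R, hc0t0', ?_, ?_⟩
      · exact h67_sc_cast (h67_sc_mul_left (h67_sc_of_comm hg0) (h67_sc_refl _)) (by ring)
      · exact h67_sc_cast (h67_sc_mul_left (h67_sc_of_anti hg1) h01) (by ring)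
    · refine ⟨t1, ht1R, hc0t1', ?_, ?_⟩
      · exact h67_sc_cast (h67_sc_mul_left (h67_sc_of_anti hg0) h10) (by ring)
      · exact h67_sc_cast (h67_sc_mul_left (h67_sc_of_comm hg1) (h67_sc_refl _)) (by ring)
    · refine ⟨t0 * t1, R.mul_mem ht0R ht1R, ?_, ?_, ?_⟩
      · rw [Units.val_mul]
        exact h67_sc_cast (h67_sc_mul_right hc0t0' hc0t1') (by ring)
      · rw [Units.val_mul]
        exact h67_sc_cast (h67_sc_mul_left (h67_sc_of_anti hg0)
          (h67_sc_mul_left (h67_sc_refl _) h10)) (by ring)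
      · rw [Units.val_mul]
        exact h67_sc_cast (h67_sc_mul_left (h67_sc_of_anti hg1)
          (h67_sc_mul_left h01 (h67_sc_refl _))) (by ring)
  obtain ⟨u, huR, hc0u, hd0t0, hd0t1⟩ := hadj
  have hc0d0 : h67Sc (-1) (c0 : Matrix (Fin 4) (Fin 4) F)
      ((g : Matrix (Fin 4) (Fin 4) F) * (u : Matrix (Fin 4) (Fin 4) F)) :=
    h67_sc_cast (h67_sc_mul_right hc0g hc0u) (by ring)
  -- involutions c, d
  obtain ⟨c, hcR, hcsq, kc, hc⟩ := hinv c0 hc0R
  obtain ⟨d, hdR, hdsq, kd, hd⟩ := hinv (g * u) (R.mul_mem hgR huR)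
  rw [Units.val_mul] at hd
  have hct0 : h67Sc 1 (c : Matrix (Fin 4) (Fin 4) F) (t0 : Matrix (Fin 4) (Fin 4) F) := by
    rw [hc]
    exact h67_sc_smul_left kc (h67_sc_of_comm hc0t0)
  have hct1 : h67Sc 1 (c : Matrix (Fin 4) (Fin 4) F) (t1 : Matrix (Fin 4) (Fin 4) F) := by
    rw [hc]
    exact h67_sc_smul_left kc (h67_sc_of_comm hc0t1)
  have hdt0 : h67Sc 1 (d : Matrix (Fin 4) (Fin 4) F) (t0 : Matrix (Fin 4) (Fin 4) F) := by
    rw [hd]
    exact h67_sc_smul_left kd hd0t0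
  have hdt1 : h67Sc 1 (d : Matrix (Fin 4) (Fin 4) F) (t1 : Matrix (Fin 4) (Fin 4) F) := by
    rw [hd]
    exact h67_sc_smul_left kd hd0t1
  have hcd : h67Sc (-1) (c : Matrix (Fin 4) (Fin 4) F) (d : Matrix (Fin 4) (Fin 4) F) := by
    rw [hc, hd]
    exact h67_sc_smul_left kc (h67_sc_smul_right kd hc0d0)
  have h11 : (1 : F) * 1 = 1 := by ring
  have ht0c := h67_sc_symm hct0 h11
  have ht1c := h67_sc_symm hct1 h11
  have ht0d := h67_sc_symm hdt0 h11
  have ht1d := h67_sc_symm hdt1 h11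
  have hdc := h67_sc_symm hcd hm1
  -- squares of t0 * t1 * c
  have hsqX : ∀ e : Matrix (Fin 4) (Fin 4) F, e * e = 1 →
      h67Sc 1 e (t0 : Matrix (Fin 4) (Fin 4) F) → h67Sc 1 e (t1 : Matrix (Fin 4) (Fin 4) F) →
      (w • ((t0 : Matrix (Fin 4) (Fin 4) F) * (t1 : Matrix (Fin 4) (Fin 4) F) * e)) *
        (w • ((t0 : Matrix (Fin 4) (Fin 4) F) * (t1 : Matrix (Fin 4) (Fin 4) F) * e)) = 1 := by
    intro e he he0 he1
    have he0' := h67_sc_to_comm he0
    have he1' := h67_sc_to_comm he1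
    have h10' := h67_sc_to_anti h10
    have hX : ((t0 : Matrix (Fin 4) (Fin 4) F) * (t1 : Matrix (Fin 4) (Fin 4) F) * e) *
        ((t0 : Matrix (Fin 4) (Fin 4) F) * (t1 : Matrix (Fin 4) (Fin 4) F) * e) = -1 := by
      calc ((t0 : Matrix (Fin 4) (Fin 4) F) * (t1 : Matrix (Fin 4) (Fin 4) F) * e) *
            ((t0 : Matrix (Fin 4) (Fin 4) F) * (t1 : Matrix (Fin 4) (Fin 4) F) * e)
          = (t0 : Matrix (Fin 4) (Fin 4) F) * (t1 : Matrix (Fin 4) (Fin 4) F) *
            (e * (t0 : Matrix (Fin 4) (Fin 4) F)) * (t1 : Matrix (Fin 4) (Fin 4) F) * e := by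
            simp only [mul_assoc]
        _ = (t0 : Matrix (Fin 4) (Fin 4) F) * ((t1 : Matrix (Fin 4) (Fin 4) F) *
            (t0 : Matrix (Fin 4) (Fin 4) F)) * (e * (t1 : Matrix (Fin 4) (Fin 4) F)) * e := by
            rw [he0']
            simp only [mul_assoc]
        _ = -(((t0 : Matrix (Fin 4) (Fin 4) F) * (t0 : Matrix (Fin 4) (Fin 4) F)) *
            ((t1 : Matrix (Fin 4) (Fin 4) F) * (t1 : Matrix (Fin 4) (Fin 4) F)) * (e * e)) := by
            rw [h10', he1']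
            simp only [mul_assoc, mul_neg, neg_mul]
        _ = -1 := by
            rw [ht0sq, ht1sq, he]
            simp
    rw [smul_mul_assoc, mul_smul_comm, smul_smul, hX, hw]
    simp
  -- the frame
  have hzv : ∀ a b e : GL (Fin 4) F, ((z * a * b * e : GL (Fin 4) F) : Matrix (Fin 4) (Fin 4) F) =
      w • ((a : Matrix (Fin 4) (Fin 4) F) * (b : Matrix (Fin 4) (Fin 4) F) * (e : Matrix (Fin 4) (Fin 4) F)) := by
    intro a b e
    rw [Units.val_mul, Units.val_mul, Units.val_mul, hz]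
    simp only [smul_mul_assoc, one_mul]
  have ht2R : z * t0 * t1 * c ∈ R := R.mul_mem (R.mul_mem (R.mul_mem hzR ht0R) ht1R) hcR
  have ht3R : z * t0 * t1 * d ∈ R := R.mul_mem (R.mul_mem (R.mul_mem hzR ht0R) ht1R) hdR
  have h22 := hsqX (c : Matrix (Fin 4) (Fin 4) F) hcsq hct0 hct1
  have h33 := hsqX (d : Matrix (Fin 4) (Fin 4) F) hdsq hdt0 hdt1
  rw [← hzv] at h22 h33
  have H02 : h67Sc (-1) (t0 : Matrix (Fin 4) (Fin 4) F)
      ((z * t0 * t1 * c : GL (Fin 4) F) : Matrix (Fin 4) (Fin 4) F) := by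
    rw [hzv]
    exact h67_sc_smul_right w (h67_sc_cast
      (h67_sc_mul_right (h67_sc_mul_right (h67_sc_refl _) h01) ht0c) (by ring))
  have H03 : h67Sc (-1) (t0 : Matrix (Fin 4) (Fin 4) F)
      ((z * t0 * t1 * d : GL (Fin 4) F) : Matrix (Fin 4) (Fin 4) F) := by
    rw [hzv]
    exact h67_sc_smul_right w (h67_sc_cast
      (h67_sc_mul_right (h67_sc_mul_right (h67_sc_refl _) h01) ht0d) (by ring))
  have H12 : h67Sc (-1) (t1 : Matrix (Fin 4) (Fin 4) F)
      ((z * t0 * t1 * c : GL (Fin 4) F) : Matrix (Fin 4) (Fin 4) F) := by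
    rw [hzv]
    exact h67_sc_smul_right w (h67_sc_cast
      (h67_sc_mul_right (h67_sc_mul_right h10 (h67_sc_refl _)) ht1c) (by ring))
  have H13 : h67Sc (-1) (t1 : Matrix (Fin 4) (Fin 4) F)
      ((z * t0 * t1 * d : GL (Fin 4) F) : Matrix (Fin 4) (Fin 4) F) := by
    rw [hzv]
    exact h67_sc_smul_right w (h67_sc_cast
      (h67_sc_mul_right (h67_sc_mul_right h10 (h67_sc_refl _)) ht1d) (by ring))
  have H23 : h67Sc (-1) ((z * t0 * t1 * c : GL (Fin 4) F) : Matrix (Fin 4) (Fin 4) F)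
      ((z * t0 * t1 * d : GL (Fin 4) F) : Matrix (Fin 4) (Fin 4) F) := by
    have hP : h67Sc 1 ((t0 : Matrix (Fin 4) (Fin 4) F) * (t1 : Matrix (Fin 4) (Fin 4) F))
        ((t0 : Matrix (Fin 4) (Fin 4) F) * (t1 : Matrix (Fin 4) (Fin 4) F)) := h67_sc_refl _
    have hPd : h67Sc 1 ((t0 : Matrix (Fin 4) (Fin 4) F) * (t1 : Matrix (Fin 4) (Fin 4) F))
        (d : Matrix (Fin 4) (Fin 4) F) := h67_sc_cast (h67_sc_mul_left ht0d ht1d) (by ring)
    have hcP : h67Sc 1 (c : Matrix (Fin 4) (Fin 4) F)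
        ((t0 : Matrix (Fin 4) (Fin 4) F) * (t1 : Matrix (Fin 4) (Fin 4) F)) :=
      h67_sc_cast (h67_sc_mul_right hct0 hct1) (by ring)
    rw [hzv, hzv]
    exact h67_sc_smul_left w (h67_sc_smul_right w (h67_sc_cast
      (h67_sc_mul_left (h67_sc_mul_right hP hPd) (h67_sc_mul_right hcP hcd)) (by ring)))
  have H01' := h67_sc_to_anti h01
  have H10' := h67_sc_to_anti h10
  have H02' := h67_sc_to_anti H02
  have H20' := h67_sc_to_anti (h67_sc_symm H02 hm1)
  have H03' := h67_sc_to_anti H03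
  have H30' := h67_sc_to_anti (h67_sc_symm H03 hm1)
  have H12' := h67_sc_to_anti H12
  have H21' := h67_sc_to_anti (h67_sc_symm H12 hm1)
  have H13' := h67_sc_to_anti H13
  have H31' := h67_sc_to_anti (h67_sc_symm H13 hm1)
  have H23' := h67_sc_to_anti H23
  have H32' := h67_sc_to_anti (h67_sc_symm H23 hm1)
  refine ⟨![t0, t1, z * t0 * t1 * c, z * t0 * t1 * d], ?_, ?_, ?_⟩
  · intro j
    fin_cases j
    · exact ht0R
    · exact ht1R
    · exact ht2R
    · exact ht3R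
  · intro j
    fin_cases j
    · exact ht0sq
    · exact ht1sq
    · exact h22
    · exact h33
  · intro j k hjk
    fin_cases j <;> fin_cases k <;>
      first
        | exact absurd rfl hjk
        | exact H01' | exact H10' | exact H02' | exact H20' | exact H03' | exact H30'
        | exact H12' | exact H21' | exact H13' | exact H31' | exact H23' | exact H32'

end Cfsg.Agent.Lib.helper89.S60
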