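import Mathlib

/-!
# S6000 piece AELT2, counting sub-lemma requested by helper62 (`h67_comm_count`)

Double counting of commuting pairs `(t, g) ∈ T × G`.
-/

set_option autoImplicit false

namespace Cfsg.Agent.Lib.helper89.S60

theorem h67_comm_count {G : Type*} [Group G] [Finite G] (T : Subgroup G) (hZ : Subgroup.center G ≤ T)
    (H1 : ∀ t ∈ T, ∀ g h : G, ¬ Commute t g → ¬ Commute t h → Commute t (g⁻¹ * h))
    (H2 : ∀ g : G, ∀ s ∈ T, ∀ t ∈ T, ¬ Commute s g → ¬ Commute t g → Commute (s⁻¹ * t) g) :
    Nat.card (Subgroup.center G) * Nat.card G = Nat.card (Subgroup.centralizer (T : Set G)) * Nat.card T := by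
  classical
  haveI : Fintype G := Fintype.ofFinite G
  have hA : ∀ t : T, 2 * (Finset.univ.filter (fun g : G => Commute (t : G) g)).card =
      Fintype.card G + (if (t : G) ∈ Subgroup.center G then Fintype.card G else 0) := by
    intro t
    by_cases ht : (t : G) ∈ Subgroup.center G
    · rw [if_pos ht]
      have hall : Finset.univ.filter (fun g : G => Commute (t : G) g) = Finset.univ := by
        apply Finset.filter_true_of_mem
        intro g _
        exact (Subgroup.mem_center_iff.mp ht g).symm
      rw [hall, Finset.card_univ]
      ring
    · rw [if_neg ht, add_zero]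
      have hex : ∃ g0 : G, ¬ Commute (t : G) g0 := by
        by_contra hcon
        simp only [not_exists, not_not] at hcon
        exact ht (Subgroup.mem_center_iff.mpr (fun g => (hcon g).symm))
      obtain ⟨g0, hg0⟩ := hex
      have hcard : (Finset.univ.filter (fun g : G => Commute (t : G) g)).card =
          (Finset.univ.filter (fun g : G => ¬ Commute (t : G) g)).card := by
        apply Finset.card_equiv (Equiv.mulLeft g0)
        intro g
        simp only [Finset.mem_filter, Finset.mem_univ, true_and, Equiv.coe_mulLeft]
        constructor
        · intro hg hc
          apply hg0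
          have h3 := hc.mul_right hg.inv_right
          rwa [mul_inv_cancel_right] at h3
        · intro hc
          by_contra hg
          apply hc
          have h3 := H1 t t.2 g0⁻¹ g (fun h' => hg0 (by simpa using h'.inv_right)) hg
          rwa [inv_inv] at h3
      have hsum := Finset.card_filter_add_card_filter_not (s := (Finset.univ : Finset G))
        (fun g : G => Commute (t : G) g)
      rw [Finset.card_univ] at hsum
      omega
  have hB : ∀ g : G, 2 * (Finset.univ.filter (fun t : T => Commute (t : G) g)).card =
      Fintype.card T + (if g ∈ Subgroup.centralizer (T : Set G) then Fintype.card T else 0) := by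
    intro g
    by_cases hg : g ∈ Subgroup.centralizer (T : Set G)
    · rw [if_pos hg]
      have hall : Finset.univ.filter (fun t : T => Commute (t : G) g) = Finset.univ := by
        apply Finset.filter_true_of_mem
        intro t _
        exact Subgroup.mem_centralizer_iff.mp hg t t.2
      rw [hall, Finset.card_univ]
      ring
    · rw [if_neg hg, add_zero]
      have hex : ∃ s0 : T, ¬ Commute (s0 : G) g := by
        by_contra hcon
        simp only [not_exists, not_not] at hcon
        exact hg (Subgroup.mem_centralizer_iff.mpr (fun h hh => hcon ⟨h, hh⟩))
      obtain ⟨s0, hs0⟩ := hex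
      have hcard : (Finset.univ.filter (fun t : T => Commute (t : G) g)).card =
          (Finset.univ.filter (fun t : T => ¬ Commute (t : G) g)).card := by
        apply Finset.card_equiv (Equiv.mulLeft s0)
        intro t
        simp only [Finset.mem_filter, Finset.mem_univ, true_and, Equiv.coe_mulLeft, Subgroup.coe_mul]
        constructor
        · intro ht hc
          apply hs0
          have h3 := hc.mul_left ht.inv_left
          rwa [mul_inv_cancel_right] at h3
        · intro hc
          by_contra ht
          apply hc
          have h3 := H2 g (s0 : G)⁻¹ (T.inv_mem s0.2) t t.2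
            (fun h' => hs0 (by simpa using h'.inv_left)) ht
          rwa [inv_inv] at h3
      have hsum := Finset.card_filter_add_card_filter_not (s := (Finset.univ : Finset T))
        (fun t : T => Commute (t : G) g)
      rw [Finset.card_univ] at hsum
      omega
  have hdc : ∑ t : T, (Finset.univ.filter (fun g : G => Commute (t : G) g)).card =
      ∑ g : G, (Finset.univ.filter (fun t : T => Commute (t : G) g)).card := by
    simp only [Finset.card_filter]
    exact Finset.sum_comm
  have hZc : (Finset.univ.filter (fun t : T => (t : G) ∈ Subgroup.center G)).card =
      Nat.card (Subgroup.center G) := by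
    rw [← Nat.card_congr (Subgroup.subgroupOfEquivOfLe hZ).toEquiv, Nat.card_eq_fintype_card]
    symm
    apply Fintype.card_of_subtype
    intro x
    simp [Subgroup.mem_subgroupOf]
  have hCc : (Finset.univ.filter (fun g : G => g ∈ Subgroup.centralizer (T : Set G))).card =
      Nat.card (Subgroup.centralizer (T : Set G)) := by
    rw [Nat.card_eq_fintype_card]
    symm
    apply Fintype.card_of_subtype
    intro x
    simp
  have h1 : 2 * ∑ t : T, (Finset.univ.filter (fun g : G => Commute (t : G) g)).card =
      Fintype.card T * Fintype.card G + Nat.card (Subgroup.center G) * Fintype.card G := by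
    rw [Finset.mul_sum, Finset.sum_congr rfl (fun t _ => hA t), Finset.sum_add_distrib,
      Finset.sum_const, Finset.card_univ, smul_eq_mul, ← Finset.sum_filter, Finset.sum_const,
      smul_eq_mul, hZc]
  have h2 : 2 * ∑ g : G, (Finset.univ.filter (fun t : T => Commute (t : G) g)).card =
      Fintype.card G * Fintype.card T + Nat.card (Subgroup.centralizer (T : Set G)) * Fintype.card T := by
    rw [Finset.mul_sum, Finset.sum_congr rfl (fun g _ => hB g), Finset.sum_add_distrib,
      Finset.sum_const, Finset.card_univ, smul_eq_mul, ← Finset.sum_filter, Finset.sum_const,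
      smul_eq_mul, hCc]
  rw [hdc, h2] at h1
  rw [Nat.card_eq_fintype_card (α := G), Nat.card_eq_fintype_card (α := T)]
  have h3 : Fintype.card G * Fintype.card T = Fintype.card T * Fintype.card G := mul_comm _ _
  omega

end Cfsg.Agent.Lib.helper89.S60
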