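import Mathlib
import Cfsg.Agent.Lib.helper89.S60Defs

/-!
# S6000 piece NOSQ (`s60_nosq`), helper67 racer copy (`h67_s60_nosq`)

`charpoly x * det (X + x) = (X ^ 2 - z) ^ 4`, `X ^ 2 - z` irreducible, so `charpoly x = (X ^ 2 - z) ^ 2`.
-/

set_option autoImplicit false

namespace Cfsg.Agent.Lib.helper89.S60

open Matrix Cfsg Cfsg.Geo Polynomial

theorem h67_s60_nosq_irr {F : Type*} [Field F] (z : F) (hz : ∀ c : F, c * c ≠ z) :
    Irreducible (X ^ 2 - C z : F[X]) := by
  apply Polynomial.irreducible_of_degree_le_three_of_not_isRoot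
  · rw [natDegree_X_pow_sub_C]
    decide
  · intro c hc
    rw [IsRoot.def, eval_sub, eval_pow, eval_X, eval_C, sub_eq_zero, pow_two] at hc
    exact hz c hc

theorem h67_s60_nosq_dvd {F : Type*} [Field F] (x : Matrix (Fin 4) (Fin 4) F) (z : F)
    (hx : x * x = z • (1 : Matrix (Fin 4) (Fin 4) F)) :
    x.charpoly ∣ (X ^ 2 - C z : F[X]) ^ 4 := by
  have hS : charmatrix x = (X : F[X]) • (1 : Matrix (Fin 4) (Fin 4) F[X]) - x.map C := by
    ext i j
    rw [charmatrix_apply, Matrix.sub_apply, Matrix.smul_apply, Matrix.map_apply,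
      Matrix.diagonal_apply, Matrix.one_apply]
    split_ifs <;> simp
  have hM : x.map (C : F → F[X]) * x.map C = C z • (1 : Matrix (Fin 4) (Fin 4) F[X]) := by
    have h1 : x.map (C : F → F[X]) * x.map C = (x * x).map C := by
      rw [Matrix.map_mul]
    rw [h1, hx]
    ext i j
    rw [Matrix.map_apply, Matrix.smul_apply, Matrix.smul_apply, Matrix.one_apply, Matrix.one_apply]
    split_ifs <;> simp
  have hprod : charmatrix x * ((X : F[X]) • (1 : Matrix (Fin 4) (Fin 4) F[X]) + x.map C) =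
      (X ^ 2 - C z : F[X]) • (1 : Matrix (Fin 4) (Fin 4) F[X]) := by
    rw [hS, sub_mul, mul_add, mul_add, hM, Matrix.smul_mul, Matrix.smul_mul, Matrix.one_mul,
      Matrix.one_mul, Matrix.mul_smul, Matrix.mul_one]
    module
  have hdet := congrArg Matrix.det hprod
  rw [Matrix.det_mul, Matrix.det_smul, Matrix.det_one, mul_one, Fintype.card_fin] at hdet
  exact Dvd.intro _ hdet

/-- NOSQ (L). If x*x = z•1 with z a nonsquare then det x = z^2. x has no eigenvector (an eigenvalue c has c*c = z). v ≠ 0: v, xv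
independent; u ∉ <v, xv>: v, xv, u, xu is a basis (if xu = αu + y, y ∈ <v,xv>, then (z - α²)u = αy + xy ∈ <v,xv>). In this basis x is
block diagonal with blocks [[0,z],[1,0]] of determinant -z. (Or: det(t+x) det(t-x) = (t²-z)^4 in F[t], t²-z irreducible.) -/
theorem h67_s60_nosq {F : Type*} [Field F] (x : Matrix (Fin 4) (Fin 4) F) (z : F) (hz : ∀ c : F, c * c ≠ z)
    (hx : x * x = z • (1 : Matrix (Fin 4) (Fin 4) F)) : x.det = z ^ 2 := by
  have hirr := h67_s60_nosq_irr z hz
  have hdvd := h67_s60_nosq_dvd x z hx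
  obtain ⟨i, -, hi⟩ := (dvd_prime_pow hirr.prime 4).mp hdvd
  have hmq : (X ^ 2 - C z : F[X]).Monic := monic_X_pow_sub_C z (by norm_num)
  have heq : x.charpoly = (X ^ 2 - C z : F[X]) ^ i :=
    eq_of_monic_of_associated (Matrix.charpoly_monic x) (hmq.pow i) hi
  have hdeg : x.charpoly.natDegree = 4 := by
    rw [Matrix.charpoly_natDegree_eq_dim, Fintype.card_fin]
  rw [heq, natDegree_pow, natDegree_X_pow_sub_C] at hdeg
  have hi2 : i = 2 := by omega
  subst hi2
  rw [Matrix.det_eq_sign_charpoly_coeff, heq, Fintype.card_fin, coeff_zero_eq_eval_zero]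
  simp
  ring

end Cfsg.Agent.Lib.helper89.S60
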