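import Mathlib
import Cfsg.Agent.Lib.helper44.SUWDefs

/-! S2335 piece COLZ (racer copy by helper67): first columns `(0, b)` of a stable set of
skew-Hermitian matrices. -/

set_option autoImplicit false

namespace Cfsg.Agent.Lib.helper44.SUW

open Matrix

/-- The block matrix `diag(α, Γ)`. -/
def h67_bd {K : Type*} [Field K] {n : ℕ} (α : K) (Γ : Matrix (Fin n) (Fin n) K) :
    Matrix (Fin (n + 1)) (Fin (n + 1)) K :=
  Matrix.of (fun i j => Fin.cases (Fin.cases α (fun _ => 0) j)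
    (fun i' => Fin.cases 0 (fun j' => Γ i' j') j) i)

theorem h67_bd_zero_zero {K : Type*} [Field K] {n : ℕ} (α : K) (Γ : Matrix (Fin n) (Fin n) K) :
    h67_bd α Γ 0 0 = α := rfl

theorem h67_bd_succ_zero {K : Type*} [Field K] {n : ℕ} (α : K) (Γ : Matrix (Fin n) (Fin n) K)
    (i : Fin n) : h67_bd α Γ i.succ 0 = 0 := rfl

theorem h67_bd_succ_succ {K : Type*} [Field K] {n : ℕ} (α : K) (Γ : Matrix (Fin n) (Fin n) K)
    (i j : Fin n) : h67_bd α Γ i.succ j.succ = Γ i j := rfl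

theorem h67_bd_det {K : Type*} [Field K] {n : ℕ} (α : K) (Γ : Matrix (Fin n) (Fin n) K) :
    (h67_bd α Γ).det = α * Γ.det := by
  rw [Matrix.det_succ_column_zero, Fin.sum_univ_succ]
  have h1 : ∀ i : Fin n, (-1 : K) ^ ((i.succ : Fin (n + 1)) : ℕ) * h67_bd α Γ i.succ 0 *
      ((h67_bd α Γ).submatrix i.succ.succAbove Fin.succ).det = 0 := by
    intro i
    rw [h67_bd_succ_zero, mul_zero, zero_mul]
  rw [Finset.sum_eq_zero (fun i _ => h1 i), add_zero]
  have h2 : (h67_bd α Γ).submatrix (Fin.succAbove 0) Fin.succ = Γ := by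
    ext i j
    rw [Matrix.submatrix_apply, Fin.succAbove_zero]
    rfl
  rw [h2, h67_bd_zero_zero]
  simp

theorem h67_col {K : Type*} [Field K] {n : ℕ} (σ : K →+* K) (α : K)
    (Γ : Matrix (Fin n) (Fin n) K) (Y₁ : Matrix (Fin (n + 1)) (Fin (n + 1)) K)
    (h00 : Y₁ 0 0 = 0) :
    (((h67_bd α Γ).map σ)ᵀ * Y₁ * h67_bd α Γ) 0 0 = 0 ∧
    ∀ i : Fin n, (((h67_bd α Γ).map σ)ᵀ * Y₁ * h67_bd α Γ) i.succ 0 =
      (∑ k : Fin n, σ (Γ k i) * Y₁ k.succ 0) * α := by
  have hcol : ∀ i : Fin (n + 1), (((h67_bd α Γ).map σ)ᵀ * Y₁ * h67_bd α Γ) i 0 =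
      (∑ k : Fin n, σ (h67_bd α Γ k.succ i) * Y₁ k.succ 0) * α := by
    intro i
    rw [Matrix.mul_apply, Fin.sum_univ_succ]
    have hz : ∀ l : Fin n,
        (((h67_bd α Γ).map σ)ᵀ * Y₁) i l.succ * h67_bd α Γ l.succ 0 = 0 := by
      intro l
      rw [h67_bd_succ_zero, mul_zero]
    rw [Finset.sum_eq_zero (fun l _ => hz l), add_zero, h67_bd_zero_zero]
    congr 1
    rw [Matrix.mul_apply, Fin.sum_univ_succ, h00, mul_zero, zero_add]
    rfl
  refine ⟨?_, ?_⟩
  · rw [hcol]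
    have h1 : ∀ k : Fin n, σ (h67_bd α Γ k.succ 0) * Y₁ k.succ 0 = 0 := by
      intro k
      rw [h67_bd_succ_zero, map_zero, zero_mul]
    rw [Finset.sum_eq_zero (fun k _ => h1 k), zero_mul]
  · intro i
    rw [hcol]
    rfl

/-- COLZ core: the SLTR statement is a hypothesis. -/
theorem h67_col_zero_core {K : Type*} [Field K] [Fintype K] [DecidableEq K] {q m : ℕ}
    (hK : Fintype.card K = q ^ 2) (hm : 2 ≤ m) (σ : K →+* K) (hσ : ∀ x, σ x = x ^ q)
    (hSL : ∀ {d : ℕ}, 2 ≤ d → ∀ x y : Fin d → K, x ≠ 0 → y ≠ 0 →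
      ∃ B : Matrix (Fin d) (Fin d) K, B.det = 1 ∧ B *ᵥ x = y)
    (S : Set (Matrix (Fin m) (Fin m) K)) (hS : ∀ Y ∈ S, Y ∈ skewH σ m)
    (hstab : ∀ Y ∈ S, ∀ B : Matrix (Fin m) (Fin m) K, B.det = 1 → (B.map σ)ᵀ * Y * B ∈ S)
    (Y : Matrix (Fin m) (Fin m) K) (hY : Y ∈ S) (x : Fin m → K) (hx : hval σ Y x = 0)
    (hYx : Y *ᵥ x ≠ 0) :
    (q ^ ((m - 1) + (m - 1)) - 1) / (q + 1) ≤
      Nat.card {b : Fin m → K // b ⟨0, by omega⟩ = 0 ∧ b ≠ 0 ∧
        ∃ Y' ∈ S, ∀ i, Y' i ⟨0, by omega⟩ = b i} := by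
  obtain ⟨n, rfl⟩ : ∃ n, m = n + 1 := ⟨m - 1, by omega⟩
  have hn : 1 ≤ n := by omega
  show (q ^ ((n + 1 - 1) + (n + 1 - 1)) - 1) / (q + 1) ≤
      Nat.card {b : Fin (n + 1) → K // b 0 = 0 ∧ b ≠ 0 ∧ ∃ Y' ∈ S, ∀ i, Y' i 0 = b i}
  rw [Nat.add_sub_cancel]
  have hσσ : ∀ x, σ (σ x) = x := by
    intro x
    rw [hσ, hσ, ← pow_mul, ← pow_two, ← hK, FiniteField.pow_card]
  have hq2 : 2 ≤ q := by
    by_contra h
    have h1 : q ≤ 1 := by omega
    have h2 : q ^ 2 ≤ 1 := by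
      calc q ^ 2 ≤ 1 ^ 2 := Nat.pow_le_pow_left h1 2
        _ = 1 := one_pow 2
    have h3 : 1 < Fintype.card K := Fintype.one_lt_card
    omega
  -- move `x` to the first basis vector
  have hx0 : x ≠ 0 := by
    intro h
    apply hYx
    rw [h, Matrix.mulVec_zero]
  have he0 : (Pi.single 0 1 : Fin (n + 1) → K) ≠ 0 := by
    intro h
    have h1 := congrFun h 0
    simp at h1
  obtain ⟨B₁, hB₁, hB₁x⟩ := hSL hm (Pi.single 0 1) x he0 hx0
  have hB₁col : ∀ l, B₁ l 0 = x l := by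
    intro l
    have h1 := congrFun hB₁x l
    simpa [Matrix.mulVec, dotProduct, Pi.single_apply] using h1
  obtain ⟨Y₁, hY₁def⟩ : ∃ Y₁, Y₁ = (B₁.map σ)ᵀ * Y * B₁ := ⟨_, rfl⟩
  have hY₁S : Y₁ ∈ S := by
    rw [hY₁def]
    exact hstab Y hY B₁ hB₁
  have hY₁col : ∀ i, Y₁ i 0 = ∑ k, σ (B₁ k i) * (Y *ᵥ x) k := by
    intro i
    rw [hY₁def, Matrix.mul_assoc, Matrix.mul_apply]
    apply Finset.sum_congr rfl
    intro k _
    rw [Matrix.transpose_apply, Matrix.map_apply, Matrix.mul_apply]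
    congr 1
    simp only [Matrix.mulVec, dotProduct]
    apply Finset.sum_congr rfl
    intro l _
    rw [hB₁col]
  have h00 : Y₁ 0 0 = 0 := by
    rw [hY₁col, ← hx]
    unfold hval
    apply Finset.sum_congr rfl
    intro k _
    rw [hB₁col]
    simp only [Matrix.mulVec, dotProduct]
    rw [Finset.mul_sum]
    apply Finset.sum_congr rfl
    intro l _
    rw [mul_assoc]
  have hc : ∃ i, Y₁ i 0 ≠ 0 := by
    by_contra hcon
    push Not at hcon
    apply hYx
    have hdet1 : (B₁.map σ).det = σ B₁.det := (RingHom.map_det σ B₁).symm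
    have hdet : ((B₁.map σ)ᵀ).det ≠ 0 := by
      rw [Matrix.det_transpose, hdet1, hB₁, map_one]
      exact one_ne_zero
    apply Matrix.eq_zero_of_mulVec_eq_zero hdet
    funext i
    rw [Pi.zero_apply, ← hcon i, hY₁col]
    simp only [Matrix.mulVec, dotProduct, Matrix.transpose_apply, Matrix.map_apply]
  obtain ⟨i₀, hi₀⟩ := hc
  obtain ⟨k₀, hk₀⟩ : ∃ k₀ : Fin n, Y₁ k₀.succ 0 ≠ 0 := by
    rcases Fin.eq_zero_or_eq_succ i₀ with h | ⟨k₀, h⟩
    · exact absurd (h ▸ h00) hi₀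
    · exact ⟨k₀, h ▸ hi₀⟩
  -- the key membership lemma
  have KM : ∀ (α : K) (Γ : Matrix (Fin n) (Fin n) K), α * Γ.det = 1 →
      ∀ b : Fin (n + 1) → K, b 0 = 0 →
      (∀ i : Fin n, b i.succ = (∑ k, σ (Γ k i) * Y₁ k.succ 0) * α) →
      ∃ Y' ∈ S, ∀ i, Y' i 0 = b i := by
    intro α Γ hdet b hb0 hbs
    refine ⟨((h67_bd α Γ).map σ)ᵀ * Y₁ * h67_bd α Γ,
      hstab Y₁ hY₁S _ (by rw [h67_bd_det]; exact hdet), ?_⟩
    obtain ⟨e0, es⟩ := h67_col σ α Γ Y₁ h00
    intro i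
    refine Fin.cases ?_ (fun i' => ?_) i
    · rw [e0, hb0]
    · rw [es, hbs]
  by_cases hn2 : 2 ≤ n
  · -- every non-zero `b'` occurs
    have hc'0 : (fun k : Fin n => Y₁ k.succ 0) ≠ 0 := by
      intro h
      exact hk₀ (congrFun h k₀)
    let g : {b' : Fin n → K // b' ≠ 0} →
        {b : Fin (n + 1) → K // b 0 = 0 ∧ b ≠ 0 ∧ ∃ Y' ∈ S, ∀ i, Y' i 0 = b i} :=
      fun b' => ⟨Fin.cons 0 b'.1, by
        refine ⟨rfl, ?_, ?_⟩
        · intro h
          apply b'.2
          funext i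
          have h1 := congrFun h i.succ
          simpa using h1
        · obtain ⟨B₂, hB₂, hB₂c⟩ := hSL hn2 (fun k : Fin n => Y₁ k.succ 0) b'.1 hc'0 b'.2
          have hdet1 : (B₂.map σ).det = σ B₂.det := (RingHom.map_det σ B₂).symm
          refine KM 1 ((B₂.map σ)ᵀ) ?_ _ rfl ?_
          · rw [one_mul, Matrix.det_transpose, hdet1, hB₂, map_one]
          · intro i
            rw [Fin.cons_succ, mul_one, ← hB₂c]
            simp only [Matrix.mulVec, dotProduct, Matrix.transpose_apply, Matrix.map_apply, hσσ]⟩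
    have hg : Function.Injective g := by
      intro b' b'' h
      apply Subtype.ext
      have h1 : (Fin.cons 0 b'.1 : Fin (n + 1) → K) = Fin.cons 0 b''.1 := congrArg Subtype.val h
      funext i
      have h2 := congrFun h1 i.succ
      simpa using h2
    have hle := Nat.card_le_card_of_injective g hg
    have hcard : Nat.card {b' : Fin n → K // b' ≠ 0} = q ^ (n + n) - 1 := by
      rw [Nat.card_eq_fintype_card, Fintype.card_subtype, Finset.filter_ne',
        Finset.card_erase_of_mem (Finset.mem_univ _), Finset.card_univ, Fintype.card_pi_const, hK,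
        ← pow_mul, two_mul]
    calc (q ^ (n + n) - 1) / (q + 1) ≤ q ^ (n + n) - 1 := Nat.div_le_self _ _
      _ = Nat.card {b' : Fin n → K // b' ≠ 0} := hcard.symm
      _ ≤ _ := hle
  · -- n = 1
    obtain rfl : n = 1 := by omega
    have hk0 : k₀ = 0 := Subsingleton.elim _ _
    rw [hk0] at hk₀
    let f : K → K := fun α => σ (α⁻¹) * α
    let s : Finset K := Finset.univ.filter (fun α => α ≠ 0)
    have hscard : s.card = q ^ 2 - 1 := by
      show (Finset.univ.filter (fun α : K => α ≠ 0)).card = q ^ 2 - 1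
      rw [Finset.filter_ne', Finset.card_erase_of_mem (Finset.mem_univ _), Finset.card_univ, hK]
    have hq1 : 0 < q - 1 := by omega
    have hfib : ∀ a ∈ s.image f, (s.filter (fun x => f x = a)).card ≤ q - 1 := by
      intro a ha
      obtain ⟨α₀, hα₀, rfl⟩ := Finset.mem_image.1 ha
      have hα₀0 : α₀ ≠ 0 := (Finset.mem_filter.1 hα₀).2
      calc (s.filter (fun x => f x = f α₀)).card
          ≤ (Polynomial.nthRoots (q - 1) (1 : K)).toFinset.card := by
            apply Finset.card_le_card_of_injOn (fun x => x * α₀⁻¹)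
            · intro x hxm
              have hxm' := Finset.mem_filter.1 hxm
              have hx0' : x ≠ 0 := (Finset.mem_filter.1 hxm'.1).2
              have hfx : σ (x⁻¹) * x = σ (α₀⁻¹) * α₀ := hxm'.2
              have ht0 : x * α₀⁻¹ ≠ 0 := mul_ne_zero hx0' (inv_ne_zero hα₀0)
              have hσx0 : σ x ≠ 0 := (map_ne_zero σ).2 hx0'
              have hσα0 : σ α₀ ≠ 0 := (map_ne_zero σ).2 hα₀0
              have hσt : σ (x * α₀⁻¹) = x * α₀⁻¹ := by
                rw [map_mul, map_inv₀]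
                rw [map_inv₀, map_inv₀] at hfx
                field_simp at hfx
                rw [mul_inv_eq_iff_eq_mul₀ hσα0]
                calc σ x = σ x * α₀ * α₀⁻¹ := by rw [mul_inv_cancel_right₀ hα₀0]
                  _ = x * σ α₀ * α₀⁻¹ := by rw [hfx]
                  _ = x * α₀⁻¹ * σ α₀ := by ring
              have htq : (x * α₀⁻¹) ^ q = x * α₀⁻¹ := by rw [← hσ, hσt]
              show x * α₀⁻¹ ∈ ((Polynomial.nthRoots (q - 1) (1 : K)).toFinset : Set K)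
              rw [Finset.mem_coe, Multiset.mem_toFinset, Polynomial.mem_nthRoots hq1]
              apply mul_right_cancel₀ ht0
              rw [← pow_succ, Nat.sub_add_cancel (by omega : 1 ≤ q), htq, one_mul]
            · intro x _ y _ hxy
              exact mul_right_cancel₀ (inv_ne_zero hα₀0) hxy
        _ ≤ Multiset.card (Polynomial.nthRoots (q - 1) (1 : K)) := Multiset.toFinset_card_le _
        _ ≤ q - 1 := Polynomial.card_nthRoots _ _
    have hcount := Finset.card_le_mul_card_image s (q - 1) hfib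
    let g : ↥(s.image f) →
        {b : Fin (1 + 1) → K // b 0 = 0 ∧ b ≠ 0 ∧ ∃ Y' ∈ S, ∀ i, Y' i 0 = b i} :=
      fun ζ => ⟨Fin.cons 0 (fun _ : Fin 1 => ζ.1 * Y₁ (Fin.succ 0) 0), by
        obtain ⟨α, hα, hζ⟩ := Finset.mem_image.1 ζ.2
        have hα0 : α ≠ 0 := (Finset.mem_filter.1 hα).2
        have hζ0 : ζ.1 ≠ 0 := by
          rw [← hζ]
          exact mul_ne_zero ((map_ne_zero σ).2 (inv_ne_zero hα0)) hα0
        refine ⟨rfl, ?_, ?_⟩
        · intro h
          have h1 := congrFun h (Fin.succ 0)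
          rw [Fin.cons_succ] at h1
          exact mul_ne_zero hζ0 hk₀ h1
        · refine KM α (Matrix.of (fun _ _ => α⁻¹)) ?_ _ rfl ?_
          · rw [Matrix.det_fin_one, Matrix.of_apply]
            exact mul_inv_cancel₀ hα0
          · intro i
            rw [Fin.cons_succ, Fin.sum_univ_one, ← hζ]
            show σ (α⁻¹) * α * Y₁ (Fin.succ 0) 0 = σ (α⁻¹) * Y₁ (Fin.succ 0) 0 * α
            ring⟩
    have hg : Function.Injective g := by
      intro ζ ζ' h
      apply Subtype.ext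
      have h1 : (Fin.cons 0 (fun _ : Fin 1 => ζ.1 * Y₁ (Fin.succ 0) 0) : Fin (1 + 1) → K) =
          Fin.cons 0 (fun _ : Fin 1 => ζ'.1 * Y₁ (Fin.succ 0) 0) := congrArg Subtype.val h
      have h2 := congrFun h1 (Fin.succ 0)
      rw [Fin.cons_succ, Fin.cons_succ] at h2
      exact mul_right_cancel₀ hk₀ h2
    have hle := Nat.card_le_card_of_injective g hg
    rw [Nat.card_eq_fintype_card, Fintype.card_coe] at hle
    apply Nat.div_le_of_le_mul
    calc q ^ (1 + 1) - 1 = s.card := hscard.symm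
      _ ≤ (q - 1) * (s.image f).card := hcount
      _ ≤ (q + 1) * (s.image f).card := Nat.mul_le_mul_right _ (by omega)
      _ ≤ (q + 1) * _ := Nat.mul_le_mul_left _ hle

end Cfsg.Agent.Lib.helper44.SUW
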