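import Mathlib
import Cfsg.Prelude.Def_Classical
import Cfsg.Prelude.Def_GeometricClasses
import Cfsg.Agent.Lib.helper17.Isom
import Cfsg.Agent.Lib.helper17.SymmForm

/-!
S5977 / S5978 block [A] (helper59), leaf JBASIS, racer copy by helper67: for an isometry `x`
with `x * x = -1` there are `e_1 .. e_m` such that `e_1, .., e_m, x e_1, .., x e_m` is an
orthogonal basis of non-singular vectors.
-/

set_option autoImplicit false

namespace Cfsg.Agent.Lib.helper59.Sfk

open Matrix Cfsg.Geo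

theorem h67_sfk_j_basis {F : Type*} [Field F] {ι : Type} [Fintype ι] [DecidableEq ι]
    (h2 : (2 : F) ≠ 0) (Q : QuadraticForm F (ι → F))
    (hQ : (QuadraticMap.polarBilin Q).Nondegenerate)
    (x : GL ι F) (hx : x ∈ Cfsg.isometryGroup F (⇑Q))
    (hxx : (x : Matrix ι ι F) * (x : Matrix ι ι F) = -1) :
    ∃ (m : ℕ) (e : Fin m → (ι → F)),
      LinearIndependent F (Sum.elim e (fun i => (x : Matrix ι ι F) *ᵥ e i)) ∧
      Fintype.card ι = 2 * m ∧
      (∀ i j, i ≠ j → QuadraticMap.polar (⇑Q) (e i) (e j) = 0) ∧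
      (∀ i j, QuadraticMap.polar (⇑Q) (e i) ((x : Matrix ι ι F) *ᵥ e j) = 0) ∧
      ∀ i, Q (e i) ≠ 0 := by
  classical
  have hG : ∀ u, Q ((x : Matrix ι ι F) *ᵥ u) = Q u :=
    (Cfsg.Agent.Lib.helper17.mem_isometryGroup_iff _ _).mp hx
  have hpol : ∀ u v, QuadraticMap.polar (⇑Q) ((x : Matrix ι ι F) *ᵥ u) ((x : Matrix ι ι F) *ᵥ v) =
      QuadraticMap.polar (⇑Q) u v := by
    intro u v
    unfold QuadraticMap.polar
    rw [← Matrix.mulVec_add, hG, hG, hG]
  have hXX : ∀ u, (x : Matrix ι ι F) *ᵥ ((x : Matrix ι ι F) *ᵥ u) = -u := by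
    intro u
    rw [Matrix.mulVec_mulVec, hxx, Matrix.neg_mulVec, Matrix.one_mulVec]
  have hskew : ∀ u v, QuadraticMap.polar (⇑Q) ((x : Matrix ι ι F) *ᵥ u) v =
      - QuadraticMap.polar (⇑Q) u ((x : Matrix ι ι F) *ᵥ v) := by
    intro u v
    have h := hpol u ((x : Matrix ι ι F) *ᵥ v)
    rw [hXX, QuadraticMap.polar_neg_right] at h
    rw [← h, neg_neg]
  have hcomm : ∀ u v, QuadraticMap.polar (⇑Q) u v = QuadraticMap.polar (⇑Q) v u :=
    fun u v => QuadraticMap.polar_comm _ _ _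
  have hself : ∀ w, QuadraticMap.polar (⇑Q) w ((x : Matrix ι ι F) *ᵥ w) = 0 := by
    intro w
    have h := hskew w w
    rw [hcomm ((x : Matrix ι ι F) *ᵥ w) w] at h
    have h' : (2 : F) * QuadraticMap.polar (⇑Q) w ((x : Matrix ι ι F) *ᵥ w) = 0 := by
      linear_combination h
    exact (mul_eq_zero.mp h').resolve_left h2
  have hsymm : LinearMap.BilinForm.IsSymm (QuadraticMap.polarBilin Q) := by
    refine ⟨fun a b => ?_⟩
    simp only [QuadraticMap.polarBilin_apply_apply]
    exact QuadraticMap.polar_comm _ _ _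
  have haniso : ∀ w : ι → F, Q w ≠ 0 → QuadraticMap.polarBilin Q w w ≠ 0 := by
    intro w hw
    rw [QuadraticMap.polarBilin_apply_apply, QuadraticMap.polar_self, two_smul, ← two_mul]
    exact mul_ne_zero h2 hw
  let P : ℕ → Prop := fun m => ∃ e : Fin m → (ι → F),
      (∀ i j, i ≠ j → QuadraticMap.polar (⇑Q) (e i) (e j) = 0) ∧
      (∀ i j, QuadraticMap.polar (⇑Q) (e i) ((x : Matrix ι ι F) *ᵥ e j) = 0) ∧ ∀ i, Q (e i) ≠ 0
  have hfam : ∀ (m : ℕ) (e : Fin m → (ι → F)),
      (∀ i j, i ≠ j → QuadraticMap.polar (⇑Q) (e i) (e j) = 0) →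
      (∀ i j, QuadraticMap.polar (⇑Q) (e i) ((x : Matrix ι ι F) *ᵥ e j) = 0) →
      (∀ i, Q (e i) ≠ 0) →
      (∀ s t : Fin m ⊕ Fin m, s ≠ t →
        QuadraticMap.polarBilin Q (Sum.elim e (fun i => (x : Matrix ι ι F) *ᵥ e i) s)
          (Sum.elim e (fun i => (x : Matrix ι ι F) *ᵥ e i) t) = 0) ∧
      (∀ s : Fin m ⊕ Fin m,
        QuadraticMap.polarBilin Q (Sum.elim e (fun i => (x : Matrix ι ι F) *ᵥ e i) s)
          (Sum.elim e (fun i => (x : Matrix ι ι F) *ᵥ e i) s) ≠ 0) := by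
    intro m e h1 h2' h3
    constructor
    · rintro (i | i) (j | j) hne
      · simp only [Sum.elim_inl, QuadraticMap.polarBilin_apply_apply]
        exact h1 i j (fun h => hne (by rw [h]))
      · simp only [Sum.elim_inl, Sum.elim_inr, QuadraticMap.polarBilin_apply_apply]
        exact h2' i j
      · simp only [Sum.elim_inl, Sum.elim_inr, QuadraticMap.polarBilin_apply_apply]
        rw [hcomm]; exact h2' j i
      · simp only [Sum.elim_inr, QuadraticMap.polarBilin_apply_apply]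
        rw [hpol]; exact h1 i j (fun h => hne (by rw [h]))
    · rintro (i | i)
      · simp only [Sum.elim_inl]; exact haniso _ (h3 i)
      · simp only [Sum.elim_inr]; exact haniso _ (by rw [hG]; exact h3 i)
  have hindep : ∀ (m : ℕ) (e : Fin m → (ι → F)),
      (∀ i j, i ≠ j → QuadraticMap.polar (⇑Q) (e i) (e j) = 0) →
      (∀ i j, QuadraticMap.polar (⇑Q) (e i) ((x : Matrix ι ι F) *ᵥ e j) = 0) →
      (∀ i, Q (e i) ≠ 0) →
      LinearIndependent F (Sum.elim e (fun i => (x : Matrix ι ι F) *ᵥ e i)) := by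
    intro m e h1 h2' h3
    obtain ⟨ha, hb⟩ := hfam m e h1 h2' h3
    exact Cfsg.Agent.Lib.helper17.linearIndependent_of_orthogonal (QuadraticMap.polarBilin Q) _ ha hb
  have hbound : ∀ m, P m → 2 * m ≤ Fintype.card ι := by
    rintro m ⟨e, h1, h2', h3⟩
    have hli := hindep m e h1 h2' h3
    have := hli.fintype_card_le_finrank
    rw [Module.finrank_fintype_fun_eq_card, Fintype.card_sum, Fintype.card_fin] at this
    omega
  have hext : ∀ m, P m → 2 * m < Fintype.card ι → P (m + 1) := by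
    rintro m ⟨e, h1, h2', h3⟩ hlt
    obtain ⟨ha, hb⟩ := hfam m e h1 h2' h3
    obtain ⟨w, hw, hvw⟩ := Cfsg.Agent.Lib.helper17.exists_orthogonal_extend h2
      (QuadraticMap.polarBilin Q) hsymm hQ (m + m)
      (fun i => Sum.elim e (fun i => (x : Matrix ι ι F) *ᵥ e i) (finSumFinEquiv.symm i))
      (fun i j hij => ha _ _ (fun h => hij (finSumFinEquiv.symm.injective h)))
      (fun i => hb _)
      (by rw [Module.finrank_fintype_fun_eq_card]; omega)
    have hQw : Q w ≠ 0 := by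
      intro h
      apply hw
      rw [QuadraticMap.polarBilin_apply_apply, QuadraticMap.polar_self, h, smul_zero]
    have hw1 : ∀ i, QuadraticMap.polar (⇑Q) (e i) w = 0 := by
      intro i
      have := hvw (finSumFinEquiv (Sum.inl i))
      simp only [Equiv.symm_apply_apply, Sum.elim_inl, QuadraticMap.polarBilin_apply_apply] at this
      exact this
    have hw2 : ∀ i, QuadraticMap.polar (⇑Q) ((x : Matrix ι ι F) *ᵥ e i) w = 0 := by
      intro i
      have := hvw (finSumFinEquiv (Sum.inr i))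
      simp only [Equiv.symm_apply_apply, Sum.elim_inr, QuadraticMap.polarBilin_apply_apply] at this
      exact this
    refine ⟨Fin.cons w e, ?_, ?_, ?_⟩
    · intro i j
      rcases Fin.eq_zero_or_eq_succ i with rfl | ⟨i', rfl⟩ <;>
        rcases Fin.eq_zero_or_eq_succ j with rfl | ⟨j', rfl⟩
      · intro h; exact absurd rfl h
      · intro _; rw [Fin.cons_zero, Fin.cons_succ, hcomm]; exact hw1 j'
      · intro _; rw [Fin.cons_zero, Fin.cons_succ]; exact hw1 i'
      · intro h; rw [Fin.cons_succ, Fin.cons_succ]; exact h1 i' j' (fun h' => h (by rw [h']))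
    · intro i j
      rcases Fin.eq_zero_or_eq_succ i with rfl | ⟨i', rfl⟩ <;>
        rcases Fin.eq_zero_or_eq_succ j with rfl | ⟨j', rfl⟩
      · rw [Fin.cons_zero]; exact hself w
      · rw [Fin.cons_zero, Fin.cons_succ, hcomm]; exact hw2 j'
      · rw [Fin.cons_zero, Fin.cons_succ]
        have := hskew (e i') w
        rw [hw2 i'] at this
        exact neg_eq_zero.mp this.symm
      · rw [Fin.cons_succ, Fin.cons_succ]; exact h2' i' j'
    · intro i
      rcases Fin.eq_zero_or_eq_succ i with rfl | ⟨i', rfl⟩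
      · rw [Fin.cons_zero]; exact hQw
      · rw [Fin.cons_succ]; exact h3 i'
  have hP0 : P 0 := ⟨fun i => i.elim0, fun i => i.elim0, fun i => i.elim0, fun i => i.elim0⟩
  obtain ⟨m₀, hm₀⟩ : ∃ m₀, m₀ = Nat.findGreatest P (Fintype.card ι) := ⟨_, rfl⟩
  have hPm₀ : P m₀ := by
    rw [hm₀]; exact Nat.findGreatest_spec (Nat.zero_le _) hP0
  have hle := hbound m₀ hPm₀
  have hge : Fintype.card ι ≤ 2 * m₀ := by
    by_contra hlt
    push Not at hlt
    have hP1 := hext m₀ hPm₀ hlt
    exact Nat.findGreatest_is_greatest (P := P) (n := Fintype.card ι) (k := m₀ + 1)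
      (by rw [← hm₀]; exact Nat.lt_succ_self m₀) (by omega) hP1
  obtain ⟨e, h1, h2', h3⟩ := hPm₀
  exact ⟨m₀, e, hindep m₀ e h1 h2' h3, by omega, h1, h2', h3⟩

end Cfsg.Agent.Lib.helper59.Sfk
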