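import Mathlib
import Cfsg.Agent.Lib.helper38.TN2

/-!
S4415 (Thompson's N-groups lemma), PIECE I `caseA` for helper38: if `V` is not irreducible under
`R` alone then `R` is the four-group `{1, q₁, q₂, q₃}`.
-/

set_option autoImplicit false

namespace Cfsg.Agent.Lib.helper67

namespace TNI

open Cfsg.Agent.Lib.helper38.TN

variable {G : Type*} [Group G] [Finite G] {V : Type*} [AddCommGroup V] [Module (ZMod 3) V] [Finite V]
variable {ρ : Representation (ZMod 3) G V} {R : Subgroup G} {b q₁ q₂ q₃ : G} {u₁ u₂ u₃ : V}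

theorem ctx_rot (h : Ctx ρ R b q₁ q₂ q₃ u₁ u₂ u₃) : Ctx ρ R b q₂ q₃ q₁ u₂ u₃ u₁ where
  frame := h.frame.rot
  q1R := by rw [← h.frame.tri.c1]; exact h.bR q₁ h.q1R
  bR := h.bR
  faith := h.faith
  cop := h.cop
  solv := h.solv
  gen := h.gen
  irr := h.irr

theorem q2R (h : Ctx ρ R b q₁ q₂ q₃ u₁ u₂ u₃) : q₂ ∈ R := (ctx_rot h).q1R
theorem q3R (h : Ctx ρ R b q₁ q₂ q₃ u₁ u₂ u₃) : q₃ ∈ R := (ctx_rot (ctx_rot h)).q1R

/-- `b · (b (b r b⁻¹) b⁻¹) = r · b`. -/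
theorem conj_eq (hb : b ^ 3 = 1) (r : G) : b * (b * (b * r * b⁻¹) * b⁻¹) = r * b := by
  have h3 : b * b * b = 1 := by rw [← hb, pow_succ, pow_two]
  have hbb : b⁻¹ * b⁻¹ = b := by
    calc b⁻¹ * b⁻¹ = b⁻¹ * b⁻¹ * (b * b * b) := by rw [h3, mul_one]
      _ = b := by group
  calc b * (b * (b * r * b⁻¹) * b⁻¹) = (b * b * b) * r * (b⁻¹ * b⁻¹) := by group
    _ = r * b := by rw [h3, hbb, one_mul]

/-- An `R`-invariant line through `u₁` gives an `R`-invariant line through `u₂`. -/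
theorem inv_rot (h : Ctx ρ R b q₁ q₂ q₃ u₁ u₂ u₃)
    (h1 : ∀ r ∈ R, ∃ ε : ZMod 3, ρ r u₁ = ε • u₁) : ∀ r ∈ R, ∃ ε : ZMod 3, ρ r u₂ = ε • u₂ := by
  intro r hr
  have hr' : b * (b * r * b⁻¹) * b⁻¹ ∈ R := h.bR _ (h.bR r hr)
  obtain ⟨ε, hε⟩ := h1 _ hr'
  refine ⟨ε, ?_⟩
  rw [← h.frame.bu1, ← rho_mul, ← conj_eq h.frame.b3 r, rho_mul, hε, map_smul]

/-- The submodule `{v ∈ N | b v ∈ N}`. -/
def N2 (ρ : Representation (ZMod 3) G V) (b : G) (N : Submodule (ZMod 3) V) :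
    Submodule (ZMod 3) V := N ⊓ N.comap (ρ b)

theorem mem_N2 (N : Submodule (ZMod 3) V) (v : V) : v ∈ N2 ρ b N ↔ v ∈ N ∧ ρ b v ∈ N := Iff.rfl

theorem mem_N2_N2 (N : Submodule (ZMod 3) V) (v : V) :
    v ∈ N2 ρ b (N2 ρ b N) ↔ (v ∈ N ∧ ρ b v ∈ N) ∧ (ρ b v ∈ N ∧ ρ b (ρ b v) ∈ N) := Iff.rfl

theorem N2_inv (h : Ctx ρ R b q₁ q₂ q₃ u₁ u₂ u₃) (N : Submodule (ZMod 3) V)
    (hN : ∀ r ∈ R, ∀ v ∈ N, ρ r v ∈ N) : ∀ r ∈ R, ∀ v ∈ N2 ρ b N, ρ r v ∈ N2 ρ b N := by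
  intro r hr v hv
  rw [mem_N2] at hv ⊢
  refine ⟨hN r hr v hv.1, ?_⟩
  rw [← rho_conj]
  exact hN _ (h.bR r hr) _ hv.2

/-- A proper `R`-invariant submodule contains no nonzero vector `v` with `v, b v, b² v` all in
it... more precisely the submodule of such vectors is zero. -/
theorem N2_N2_eq_bot (h : Ctx ρ R b q₁ q₂ q₃ u₁ u₂ u₃) (N : Submodule (ZMod 3) V)
    (hN : ∀ r ∈ R, ∀ v ∈ N, ρ r v ∈ N) (hNt : N ≠ ⊤) : N2 ρ b (N2 ρ b N) = ⊥ := by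
  have hinv := N2_inv h _ (N2_inv h N hN)
  have hb : ∀ v ∈ N2 ρ b (N2 ρ b N), ρ b v ∈ N2 ρ b (N2 ρ b N) := by
    intro v hv
    rw [mem_N2_N2] at hv ⊢
    obtain ⟨⟨h1, h2⟩, ⟨h3, h4⟩⟩ := hv
    refine ⟨⟨h2, h4⟩, ⟨h4, ?_⟩⟩
    rw [rho_pow_three ρ h.frame.b3]
    exact h1
  rcases h.irr _ hinv hb with h0 | h0
  · exact h0
  · exfalso
    apply hNt
    rw [eq_top_iff]
    intro v _
    have : v ∈ N2 ρ b (N2 ρ b N) := by rw [h0]; exact Submodule.mem_top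
    exact ((mem_N2_N2 N v).mp this).1.1

/-- Decomposition of the vectors of a proper `R`-invariant submodule. -/
theorem decomp_inv (h : Ctx ρ R b q₁ q₂ q₃ u₁ u₂ u₃) (N : Submodule (ZMod 3) V)
    (hN : ∀ r ∈ R, ∀ v ∈ N, ρ r v ∈ N) (hNt : N ≠ ⊤) (v : V) (hv : v ∈ N) :
    ∃ a₁ a₂ a₃ : ZMod 3, v = a₁ • u₁ + a₂ • u₂ + a₃ • u₃ ∧ a₁ • u₁ ∈ N ∧ a₂ • u₂ ∈ N ∧
      a₃ • u₃ ∈ N := by
  have F := h.frame
  have T := F.tri
  have hpr : ∀ s₁ s₂ : ZMod 3, pr ρ q₁ q₂ q₃ s₁ s₂ v ∈ N := by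
    intro s₁ s₂
    rw [pr_apply]
    exact N.add_mem (N.add_mem (N.add_mem hv (N.smul_mem _ (hN q₁ h.q1R v hv)))
      (N.smul_mem _ (hN q₂ (q2R h) v hv))) (N.smul_mem _ (hN q₃ (q3R h) v hv))
  have hs := sum_pr T ρ v
  have h1 : (1 : ZMod 3) * 1 = 1 := by decide
  have hm : (-1 : ZMod 3) * (-1) = 1 := by decide
  have c1 : ρ q₁ (pr ρ q₁ q₂ q₃ 1 1 v) = pr ρ q₁ q₂ q₃ 1 1 v := by
    rw [q1_pr T ρ h1, one_smul]
  have c2 : ρ q₂ (pr ρ q₁ q₂ q₃ 1 1 v) = pr ρ q₁ q₂ q₃ 1 1 v := by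
    rw [q2_pr T ρ h1, one_smul]
  have d1 : ρ q₁ (pr ρ q₁ q₂ q₃ 1 (-1) v) = pr ρ q₁ q₂ q₃ 1 (-1) v := by
    rw [q1_pr T ρ h1, one_smul]
  have d2 : ρ q₂ (pr ρ q₁ q₂ q₃ 1 (-1) v) = -pr ρ q₁ q₂ q₃ 1 (-1) v := by
    rw [q2_pr T ρ hm, neg_one_smul]
  have e1 : ρ q₁ (pr ρ q₁ q₂ q₃ (-1) 1 v) = -pr ρ q₁ q₂ q₃ (-1) 1 v := by
    rw [q1_pr T ρ hm, neg_one_smul]
  have e2 : ρ q₂ (pr ρ q₁ q₂ q₃ (-1) 1 v) = pr ρ q₁ q₂ q₃ (-1) 1 v := by
    rw [q2_pr T ρ h1, one_smul]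
  have f1 : ρ q₁ (pr ρ q₁ q₂ q₃ (-1) (-1) v) = -pr ρ q₁ q₂ q₃ (-1) (-1) v := by
    rw [q1_pr T ρ hm, neg_one_smul]
  have f2 : ρ q₂ (pr ρ q₁ q₂ q₃ (-1) (-1) v) = -pr ρ q₁ q₂ q₃ (-1) (-1) v := by
    rw [q2_pr T ρ hm, neg_one_smul]
  obtain ⟨a₁, ha₁⟩ := F.line _ d1 d2
  have e3 : ρ q₃ (pr ρ q₁ q₂ q₃ (-1) 1 v) = -pr ρ q₁ q₂ q₃ (-1) 1 v := by
    rw [← T.a12, e2, e1]
  obtain ⟨a₂, ha₂⟩ := F.rot.line _ e2 e3
  have f3 : ρ q₃ (pr ρ q₁ q₂ q₃ (-1) (-1) v) = pr ρ q₁ q₂ q₃ (-1) (-1) v := by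
    rw [← T.a12, f2, map_neg, f1, neg_neg]
  obtain ⟨a₃, ha₃⟩ := F.rot.rot.line _ f3 f1
  -- the component in the common fixed space vanishes
  have hc0 : pr ρ q₁ q₂ q₃ 1 1 v = 0 := by
    have hbc : ρ b (pr ρ q₁ q₂ q₃ 1 1 v) = pr ρ q₁ q₂ q₃ 1 1 v := F.cfix _ c1 c2
    have hmem : pr ρ q₁ q₂ q₃ 1 1 v ∈ N2 ρ b (N2 ρ b N) := by
      rw [mem_N2_N2]
      refine ⟨⟨hpr 1 1, ?_⟩, ⟨?_, ?_⟩⟩
      · rw [hbc]; exact hpr 1 1
      · rw [hbc]; exact hpr 1 1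
      · rw [hbc, hbc]; exact hpr 1 1
    rw [N2_N2_eq_bot h N hN hNt] at hmem
    exact (Submodule.mem_bot _).mp hmem
  refine ⟨a₁, a₂, a₃, ?_, ?_, ?_, ?_⟩
  · rw [← ha₁, ← ha₂, ← ha₃]
    rw [hc0, zero_add] at hs
    exact hs.symm
  · rw [← ha₁]; exact hpr 1 (-1)
  · rw [← ha₂]; exact hpr (-1) 1
  · rw [← ha₃]; exact hpr (-1) (-1)

theorem mem_of_smul_mem {N : Submodule (ZMod 3) V} {a : ZMod 3} {u : V} (ha : a ≠ 0)
    (h : a • u ∈ N) : u ∈ N := by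
  have h2 := N.smul_mem a⁻¹ h
  rwa [smul_smul, inv_mul_cancel₀ ha, one_smul] at h2

/-- If a proper `R`-invariant submodule contains `u₁` but neither `u₂` nor `u₃`, the line
through `u₁` is `R`-invariant. -/
theorem inv_of_one (h : Ctx ρ R b q₁ q₂ q₃ u₁ u₂ u₃) (N : Submodule (ZMod 3) V)
    (hN : ∀ r ∈ R, ∀ v ∈ N, ρ r v ∈ N) (hNt : N ≠ ⊤) (m1 : u₁ ∈ N) (m2 : u₂ ∉ N) (m3 : u₃ ∉ N) :
    ∀ r ∈ R, ∃ ε : ZMod 3, ρ r u₁ = ε • u₁ := by
  intro r hr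
  obtain ⟨a₁, a₂, a₃, hv, -, k2, k3⟩ := decomp_inv h N hN hNt _ (hN r hr u₁ m1)
  have ha2 : a₂ = 0 := by
    by_contra hne
    exact m2 (mem_of_smul_mem hne k2)
  have ha3 : a₃ = 0 := by
    by_contra hne
    exact m3 (mem_of_smul_mem hne k3)
  refine ⟨a₁, ?_⟩
  rw [hv, ha2, ha3, zero_smul, zero_smul, add_zero, add_zero]

/-- If a proper `R`-invariant submodule contains `u₁` but not `u₃`, the line through `u₁` is
`R`-invariant. -/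
theorem inv_of_mem_not_mem (h : Ctx ρ R b q₁ q₂ q₃ u₁ u₂ u₃) (N : Submodule (ZMod 3) V)
    (hN : ∀ r ∈ R, ∀ v ∈ N, ρ r v ∈ N) (hNt : N ≠ ⊤) (m1 : u₁ ∈ N) (m3 : u₃ ∉ N) :
    ∀ r ∈ R, ∃ ε : ZMod 3, ρ r u₁ = ε • u₁ := by
  by_cases m2 : u₂ ∈ N
  · have hNt2 : N2 ρ b N ≠ ⊤ := by
      intro h0
      apply hNt
      rw [eq_top_iff]
      intro v _
      have : v ∈ N2 ρ b N := by rw [h0]; exact Submodule.mem_top
      exact ((mem_N2 N v).mp this).1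
    apply inv_of_one h (N2 ρ b N) (N2_inv h N hN) hNt2
    · exact (mem_N2 N u₁).mpr ⟨m1, by rw [h.frame.bu1]; exact m2⟩
    · intro hm
      have := ((mem_N2 N u₂).mp hm).2
      rw [h.frame.bu2] at this
      exact m3 this
    · intro hm
      exact m3 ((mem_N2 N u₃).mp hm).1
  · exact inv_of_one h N hN hNt m1 m2 m3

/-- In case `V` is not `R`-irreducible, all three lines are `R`-invariant. -/
theorem lines_inv (h : Ctx ρ R b q₁ q₂ q₃ u₁ u₂ u₃) (hR : ¬ RIrr ρ R) :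
    (∀ r ∈ R, ∃ ε : ZMod 3, ρ r u₁ = ε • u₁) ∧ (∀ r ∈ R, ∃ ε : ZMod 3, ρ r u₂ = ε • u₂) ∧
      (∀ r ∈ R, ∃ ε : ZMod 3, ρ r u₃ = ε • u₃) := by
  classical
  unfold RIrr at hR
  rw [not_forall] at hR
  obtain ⟨N, hN'⟩ := hR
  rw [Classical.not_imp, not_or] at hN'
  obtain ⟨hN, hNb, hNt⟩ := hN' 
  have F := h.frame
  -- some `u_i` lies in `N`
  have hsome : u₁ ∈ N ∨ u₂ ∈ N ∨ u₃ ∈ N := by
    obtain ⟨v, hv, hv0⟩ := (Submodule.ne_bot_iff N).mp hNb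
    obtain ⟨a₁, a₂, a₃, hve, k1, k2, k3⟩ := decomp_inv h N hN hNt v hv
    by_cases ha1 : a₁ = 0
    · by_cases ha2 : a₂ = 0
      · by_cases ha3 : a₃ = 0
        · exfalso
          apply hv0
          rw [hve, ha1, ha2, ha3, zero_smul, zero_smul, zero_smul, add_zero, add_zero]
        · exact Or.inr (Or.inr (mem_of_smul_mem ha3 k3))
      · exact Or.inr (Or.inl (mem_of_smul_mem ha2 k2))
    · exact Or.inl (mem_of_smul_mem ha1 k1)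
  -- not all of them
  have hnot : ¬ (u₁ ∈ N ∧ u₂ ∈ N ∧ u₃ ∈ N) := by
    rintro ⟨m1, m2, m3⟩
    have hmem : u₁ ∈ N2 ρ b (N2 ρ b N) := by
      rw [mem_N2_N2]
      refine ⟨⟨m1, ?_⟩, ⟨?_, ?_⟩⟩
      · rw [F.bu1]; exact m2
      · rw [F.bu1]; exact m2
      · rw [F.bu1, F.bu2]; exact m3
    rw [N2_N2_eq_bot h N hN hNt] at hmem
    exact F.u1 ((Submodule.mem_bot _).mp hmem)
  have h' := ctx_rot h
  have h'' := ctx_rot h'
  -- some line is invariant, hence all of them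
  have hall : ∀ (I1 : ∀ r ∈ R, ∃ ε : ZMod 3, ρ r u₁ = ε • u₁),
      (∀ r ∈ R, ∃ ε : ZMod 3, ρ r u₁ = ε • u₁) ∧ (∀ r ∈ R, ∃ ε : ZMod 3, ρ r u₂ = ε • u₂) ∧
      (∀ r ∈ R, ∃ ε : ZMod 3, ρ r u₃ = ε • u₃) :=
    fun I1 => ⟨I1, inv_rot h I1, inv_rot h' (inv_rot h I1)⟩
  by_cases m1 : u₁ ∈ N
  · by_cases m3 : u₃ ∈ N
    · have m2 : u₂ ∉ N := fun m2 => hnot ⟨m1, m2, m3⟩
      -- `u₃ ∈ N`, `u₂ ∉ N`
      have I3 := inv_of_mem_not_mem h'' N hN hNt m3 m2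
      exact hall (inv_rot h'' I3)
    · exact hall (inv_of_mem_not_mem h N hN hNt m1 m3)
  · by_cases m2 : u₂ ∈ N
    · have I2 := inv_of_mem_not_mem h' N hN hNt m2 m1
      exact hall (inv_rot h'' (inv_rot h' I2))
    · have m3 : u₃ ∈ N := by
        rcases hsome with k | k | k
        · exact absurd k m1
        · exact absurd k m2
        · exact k
      have I3 := inv_of_mem_not_mem h'' N hN hNt m3 m2
      exact hall (inv_rot h'' I3)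

/-- If all three lines are `R`-invariant then `u₁, u₂, u₃` span `V`. -/
theorem span_top (h : Ctx ρ R b q₁ q₂ q₃ u₁ u₂ u₃)
    (I1 : ∀ r ∈ R, ∃ ε : ZMod 3, ρ r u₁ = ε • u₁) (I2 : ∀ r ∈ R, ∃ ε : ZMod 3, ρ r u₂ = ε • u₂)
    (I3 : ∀ r ∈ R, ∃ ε : ZMod 3, ρ r u₃ = ε • u₃) :
    ∀ v : V, ∃ a₁ a₂ a₃ : ZMod 3, v = a₁ • u₁ + a₂ • u₂ + a₃ • u₃ := by
  have F := h.frame
  have hW : ∀ v, v ∈ Submodule.span (ZMod 3) ({u₁, u₂, u₃} : Set V) ↔
      ∃ a₁ a₂ a₃ : ZMod 3, a₁ • u₁ + a₂ • u₂ + a₃ • u₃ = v := fun v => Submodule.mem_span_triple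
  have hWR : ∀ r ∈ R, ∀ v ∈ Submodule.span (ZMod 3) ({u₁, u₂, u₃} : Set V),
      ρ r v ∈ Submodule.span (ZMod 3) ({u₁, u₂, u₃} : Set V) := by
    intro r hr v hv
    rw [hW] at hv ⊢
    obtain ⟨a₁, a₂, a₃, rfl⟩ := hv
    obtain ⟨ε₁, e1⟩ := I1 r hr
    obtain ⟨ε₂, e2⟩ := I2 r hr
    obtain ⟨ε₃, e3⟩ := I3 r hr
    refine ⟨a₁ * ε₁, a₂ * ε₂, a₃ * ε₃, ?_⟩
    simp only [map_add, map_smul, e1, e2, e3, smul_smul]
  have hWb : ∀ v ∈ Submodule.span (ZMod 3) ({u₁, u₂, u₃} : Set V),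
      ρ b v ∈ Submodule.span (ZMod 3) ({u₁, u₂, u₃} : Set V) := by
    intro v hv
    rw [hW] at hv ⊢
    obtain ⟨a₁, a₂, a₃, rfl⟩ := hv
    refine ⟨a₃, a₁, a₂, ?_⟩
    simp only [map_add, map_smul, F.bu1, F.bu2, F.bu3]
    abel
  rcases h.irr _ hWR hWb with h0 | h0
  · exfalso
    have hm : u₁ ∈ Submodule.span (ZMod 3) ({u₁, u₂, u₃} : Set V) :=
      (hW u₁).mpr ⟨1, 0, 0, by simp⟩
    rw [h0] at hm
    exact F.u1 ((Submodule.mem_bot _).mp hm)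
  · intro v
    have hm : v ∈ Submodule.span (ZMod 3) ({u₁, u₂, u₃} : Set V) := by
      rw [h0]; exact Submodule.mem_top
    obtain ⟨a₁, a₂, a₃, hv⟩ := (hW v).mp hm
    exact ⟨a₁, a₂, a₃, hv.symm⟩

/-- Every element of `R` has determinant `1` on `V`. -/
theorem det_one (h : Ctx ρ R b q₁ q₂ q₃ u₁ u₂ u₃) : ∀ r ∈ R, LinearMap.det (ρ r) = 1 := by
  let φ : G →* ZMod 3 := (LinearMap.det : (V →ₗ[ZMod 3] V) →* ZMod 3).comp ρ
  let K : Subgroup G :=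
    { carrier := {g | φ g = 1}
      mul_mem' := by
        intro a c ha hc
        have ha' : φ a = 1 := ha
        have hc' : φ c = 1 := hc
        show φ (a * c) = 1
        rw [map_mul, ha', hc', mul_one]
      one_mem' := map_one φ
      inv_mem' := by
        intro a ha
        have ha' : φ a = 1 := ha
        show φ a⁻¹ = 1
        have h1 : φ a⁻¹ * φ a = 1 := by rw [← map_mul, inv_mul_cancel, map_one]
        rw [ha', mul_one] at h1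
        exact h1 }
  have hbK : b ∈ K := by
    show φ b = 1
    have h1 : φ b ^ 3 = 1 := by rw [← map_pow, h.frame.b3, map_one]
    have h2 : ∀ x : ZMod 3, x ^ 3 = 1 → x = 1 := by decide
    exact h2 _ h1
  have hconj : ∀ r ∈ R, ∀ k ∈ K, r * k * r⁻¹ ∈ K := by
    intro r _ k hk
    have hk' : φ k = 1 := hk
    show φ (r * k * r⁻¹) = 1
    rw [map_mul, map_mul, hk', mul_one, ← map_mul, mul_inv_cancel, map_one]
  intro r hr
  exact h.gen K hbK hconj hr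

/-- The determinant of a map which is diagonal in `u₁, u₂, u₃`. -/
theorem det_diag (F : Frame ρ b q₁ q₂ q₃ u₁ u₂ u₃)
    (hspan : ∀ v : V, ∃ a₁ a₂ a₃ : ZMod 3, v = a₁ • u₁ + a₂ • u₂ + a₃ • u₃)
    (f : V →ₗ[ZMod 3] V) (ε₁ ε₂ ε₃ : ZMod 3) (h1 : f u₁ = ε₁ • u₁) (h2 : f u₂ = ε₂ • u₂)
    (h3 : f u₃ = ε₃ • u₃) : LinearMap.det f = ε₁ * ε₂ * ε₃ := by
  classical
  have hli : LinearIndependent (ZMod 3) ![u₁, u₂, u₃] := by
    rw [Fintype.linearIndependent_iff]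
    intro g hg
    rw [Fin.sum_univ_three] at hg
    simp only [Matrix.cons_val_zero, Matrix.cons_val_one, Matrix.cons_val_two] at hg
    obtain ⟨e1, e2, e3, -⟩ := F.indep (Submodule.zero_mem _) (by rw [add_zero]; exact hg)
    intro i
    fin_cases i
    · exact e1
    · exact e2
    · exact e3
  have hsp : ⊤ ≤ Submodule.span (ZMod 3) (Set.range ![u₁, u₂, u₃]) := by
    intro v _
    obtain ⟨a₁, a₂, a₃, rfl⟩ := hspan v
    have m1 : u₁ ∈ Submodule.span (ZMod 3) (Set.range ![u₁, u₂, u₃]) :=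
      Submodule.subset_span ⟨0, rfl⟩
    have m2 : u₂ ∈ Submodule.span (ZMod 3) (Set.range ![u₁, u₂, u₃]) :=
      Submodule.subset_span ⟨1, rfl⟩
    have m3 : u₃ ∈ Submodule.span (ZMod 3) (Set.range ![u₁, u₂, u₃]) :=
      Submodule.subset_span ⟨2, rfl⟩
    exact Submodule.add_mem _ (Submodule.add_mem _ (Submodule.smul_mem _ _ m1)
      (Submodule.smul_mem _ _ m2)) (Submodule.smul_mem _ _ m3)
  have hB : ∀ i, Module.Basis.mk hli hsp i = ![u₁, u₂, u₃] i :=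
    fun i => Module.Basis.mk_apply hli hsp i
  have hf : ∀ j, f (Module.Basis.mk hli hsp j) = ![ε₁, ε₂, ε₃] j • Module.Basis.mk hli hsp j := by
    intro j
    rw [hB]
    fin_cases j
    · exact h1
    · exact h2
    · exact h3
  rw [← LinearMap.det_toMatrix (Module.Basis.mk hli hsp)]
  have hmat : LinearMap.toMatrix (Module.Basis.mk hli hsp) (Module.Basis.mk hli hsp) f =
      Matrix.diagonal ![ε₁, ε₂, ε₃] := by
    ext i j
    rw [LinearMap.toMatrix_apply, hf, map_smul, Module.Basis.repr_self, Finsupp.smul_apply,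
      Finsupp.single_apply, Matrix.diagonal_apply]
    by_cases hij : i = j
    · subst hij; simp
    · rw [if_neg hij, if_neg (Ne.symm hij), smul_zero]
  rw [hmat, Matrix.det_diagonal, Fin.prod_univ_three]
  rfl

end TNI

open Cfsg.Agent.Lib.helper38.TN in
/-- **PIECE I of S4415**: if `V` is not irreducible under `R` alone, then `R` is a four-group. -/
theorem caseA {G : Type*} [Group G] [Finite G] {V : Type*} [AddCommGroup V] [Module (ZMod 3) V]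
    [Finite V] {ρ : Representation (ZMod 3) G V} {R : Subgroup G} {b q₁ q₂ q₃ : G} {u₁ u₂ u₃ : V}
    (h : Ctx ρ R b q₁ q₂ q₃ u₁ u₂ u₃) (hR : ¬ RIrr ρ R) : Concl R := by
  classical
  left
  obtain ⟨I1, I2, I3⟩ := TNI.lines_inv h hR
  have F := h.frame
  have T := F.tri
  have hspan := TNI.span_top h I1 I2 I3
  have hfix : ∀ g ∈ R, ρ g u₁ = u₁ → ρ g u₂ = u₂ → ρ g u₃ = u₃ → g = 1 := by
    intro g hg e1 e2 e3
    apply h.faith g hg
    intro v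
    obtain ⟨a₁, a₂, a₃, rfl⟩ := hspan v
    simp only [map_add, map_smul, e1, e2, e3]
  have hcls : ∀ r ∈ R, r = 1 ∨ r = q₁ ∨ r = q₂ ∨ r = q₃ := by
    intro r hr
    obtain ⟨ε₁, e1⟩ := I1 r hr
    obtain ⟨ε₂, e2⟩ := I2 r hr
    obtain ⟨ε₃, e3⟩ := I3 r hr
    have hdet : ε₁ * ε₂ * ε₃ = 1 := by
      rw [← TNI.det_diag F hspan (ρ r) ε₁ ε₂ ε₃ e1 e2 e3]; exact TNI.det_one h r hr
    have hne1 : ε₁ ≠ 0 := by
      rintro rfl
      rw [zero_smul] at e1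
      exact F.u1 (rho_inj ρ r (by rw [e1, map_zero]))
    have hne2 : ε₂ ≠ 0 := by
      rintro rfl
      rw [zero_smul] at e2
      exact F.u2 (rho_inj ρ r (by rw [e2, map_zero]))
    have hne3 : ε₃ ≠ 0 := by
      rintro rfl
      rw [zero_smul] at e3
      exact F.u3 (rho_inj ρ r (by rw [e3, map_zero]))
    have hcases : ∀ a b c : ZMod 3, a ≠ 0 → b ≠ 0 → c ≠ 0 → a * b * c = 1 →
        (a = 1 ∧ b = 1 ∧ c = 1) ∨ (a = 1 ∧ b = -1 ∧ c = -1) ∨ (a = -1 ∧ b = 1 ∧ c = -1) ∨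
          (a = -1 ∧ b = -1 ∧ c = 1) := by decide
    rcases hcases ε₁ ε₂ ε₃ hne1 hne2 hne3 hdet with ⟨rfl, rfl, rfl⟩ | ⟨rfl, rfl, rfl⟩ |
      ⟨rfl, rfl, rfl⟩ | ⟨rfl, rfl, rfl⟩
    · left
      exact hfix r hr (by rw [e1, one_smul]) (by rw [e2, one_smul]) (by rw [e3, one_smul])
    · right; left
      have h1 : r * q₁ = 1 := by
        apply hfix (r * q₁) (R.mul_mem hr h.q1R)
        · rw [rho_mul, F.q1u1, e1, one_smul]
        · rw [rho_mul, F.q1u2, map_neg, e2, neg_one_smul, neg_neg]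
        · rw [rho_mul, F.q1u3, map_neg, e3, neg_one_smul, neg_neg]
      calc r = r * q₁ * q₁ := by rw [mul_assoc, T.sq, mul_one]
        _ = q₁ := by rw [h1, one_mul]
    · right; right; left
      have h1 : r * q₂ = 1 := by
        apply hfix (r * q₂) (R.mul_mem hr (TNI.q2R h))
        · rw [rho_mul, F.q2u1, map_neg, e1, neg_one_smul, neg_neg]
        · rw [rho_mul, F.q2u2, e2, one_smul]
        · rw [rho_mul, F.q2u3, map_neg, e3, neg_one_smul, neg_neg]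
      calc r = r * q₂ * q₂ := by rw [mul_assoc, T.sq2, mul_one]
        _ = q₂ := by rw [h1, one_mul]
    · right; right; right
      have h1 : r * q₃ = 1 := by
        apply hfix (r * q₃) (R.mul_mem hr (TNI.q3R h))
        · rw [rho_mul, F.q3u1, map_neg, e1, neg_one_smul, neg_neg]
        · rw [rho_mul, F.q3u2, map_neg, e2, neg_one_smul, neg_neg]
        · rw [rho_mul, F.q3u3, e3, one_smul]
      calc r = r * q₃ * q₃ := by rw [mul_assoc, T.sq3, mul_one]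
        _ = q₃ := by rw [h1, one_mul]
  have h12 : q₁ ≠ q₂ := by
    intro e; apply T.ne3; rw [← T.m12, ← e, T.sq]
  have h13 : q₁ ≠ q₃ := by
    intro e; apply T.ne2; rw [← T.m13, ← e, T.sq]
  have h23 : q₂ ≠ q₃ := by
    intro e; apply T.ne; rw [← T.m23, ← e, T.sq2]
  have hsq : ∀ a ∈ R, a * a = 1 := by
    intro a ha
    rcases hcls a ha with rfl | rfl | rfl | rfl
    · exact mul_one 1
    · exact T.sq
    · exact T.sq2
    · exact T.sq3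
  constructor
  · refine ⟨⟨⟨fun x y => ?_⟩⟩, fun a ha => by rw [pow_two]; exact hsq a ha⟩
    apply Subtype.ext
    have hx := hsq x x.2
    have hy := hsq y y.2
    have hxy := hsq (x * y) (R.mul_mem x.2 y.2)
    show (x : G) * y = y * x
    symm
    calc (y : G) * x = (x * x) * (y * x) * (y * y) := by rw [hx, hy, one_mul, mul_one]
      _ = x * ((x * y) * (x * y)) * y := by group
      _ = x * y := by rw [hxy, mul_one]
  · have hset : (R : Set G) = {1, q₁, q₂, q₃} := by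
      ext g
      simp only [SetLike.mem_coe, Set.mem_insert_iff, Set.mem_singleton_iff]
      constructor
      · exact hcls g
      · rintro (rfl | rfl | rfl | rfl)
        · exact R.one_mem
        · exact h.q1R
        · exact TNI.q2R h
        · exact TNI.q3R h
    rw [← SetLike.coe_sort_coe, Nat.card_coe_set_eq, hset, Set.ncard_insert_of_notMem,
      Set.ncard_insert_of_notMem, Set.ncard_pair h23]
    · simp [h12, h13]
    · simp [T.ne.symm, T.ne2.symm, T.ne3.symm]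

end Cfsg.Agent.Lib.helper67
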